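import Cfsg.Agent.Lib.Spor.J2.PermDefs

/-! Checked facts about the permutations. -/

set_option autoImplicit false
set_option maxHeartbeats 4000000
set_option maxRecDepth 10000

namespace Cfsg.Agent.J2Cert

theorem e_chk : allN 315 eRow = true := by decide +kernel

theorem f_chk : allN 160 fRow = true := by decide +kernel

theorem m_chk : allN 12 mRow = true := by decide +kernel

theorem hg_chk : allN 2 hgRow = true := by decide +kernel

theorem mg_chk : allN 2 mgRow = true := by decide +kernel

theorem close1_chk : (allN 4 fun s => allN 315 fun i => close1 s i) = true := by decide +kernel

theorem close2_chk : (allN 4 fun s => allN 160 fun j => close2 s j) = true := by decide +kernel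

theorem close3_chk : (allN 2 fun s => allN 12 fun l => close3 s l) = true := by decide +kernel

theorem r0_conj_chk : (allN 315 fun i => Nat.beq i 0 || !(agree frame (fun x => eP i (r0P x)) (fun x => r0P (eP i x)))) = true := by
  decide +kernel

theorem conj_chk : allN 315 conjRow = true := by decide +kernel

theorem path_chk : allN 5 pathRow = true := by decide +kernel

theorem r0_chk : (allN 315 fun x => Nat.beq (eP k0 (r0P x)) (gP 0 (eP k0 x))) = true := by decide +kernel

theorem frame_lt : (frame.all fun x => Nat.blt x 315) = true := by decide +kernel

theorem base_lt : (baseL.all fun x => Nat.blt x 315) = true := by decide +kernel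

end Cfsg.Agent.J2Cert
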