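import Cfsg.Agent.Lib.Spor.J2.GeoDefs

/-! Checked images under the generating reflections. -/

set_option autoImplicit false
set_option maxHeartbeats 4000000
set_option maxRecDepth 10000

namespace Cfsg.Agent.J2Cert

theorem allLt_four (f : Nat → Bool) (h0 : f 0 = true) (h1 : f 1 = true) (h2 : f 2 = true) (h3 : f 3 = true) :
    allLt 4 f = true := by
  simp [allLt, h0, h1, h2, h3]

theorem ref_chk0 : (allLt 315 fun i => refChk 0 i) = true := by decide +kernel

theorem ref_chk1 : (allLt 315 fun i => refChk 1 i) = true := by decide +kernel

theorem ref_chk2 : (allLt 315 fun i => refChk 2 i) = true := by decide +kernel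

theorem ref_chk3 : (allLt 315 fun i => refChk 3 i) = true := by decide +kernel

theorem ref_chk : (allLt 4 fun s => allLt 315 fun i => refChk s i) = true := by
  exact allLt_four _ ref_chk0 ref_chk1 ref_chk2 ref_chk3

end Cfsg.Agent.J2Cert
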