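import Cfsg.Agent.Lib.Spor.J2.GeoDefs

/-! Checked uniqueness of the representatives. -/

set_option autoImplicit false
set_option maxHeartbeats 4000000
set_option maxRecDepth 10000

namespace Cfsg.Agent.J2Cert

theorem rep_chk2 : allLt 51 repChk2 = true := by decide +kernel

end Cfsg.Agent.J2Cert
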