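import Cfsg.Agent.Lib.Spor.J2.GeoDefs
import Cfsg.Agent.Lib.Spor.J2.CheckRef
import Cfsg.Agent.Lib.Spor.J2.CheckRep

/-! Checked facts about the reflections. -/

set_option autoImplicit false
set_option maxHeartbeats 4000000
set_option maxRecDepth 10000

namespace Cfsg.Agent.J2Cert

theorem lat_chk : (allLt 4 fun s => allLt 4 fun k => latChk s k) = true := by decide +kernel

theorem line_diff : allLt 315 lineDiff = true := by decide +kernel

theorem line_normal : allLt 315 lineNormal = true := by decide +kernel

theorem frame_axes : (qeq (line3 (frame.getD 0 0)).2.2 (qadd qone qone) && qeq (line3 (frame.getD 0 0)).1 qzero &&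
    qeq (line3 (frame.getD 0 0)).2.1 qzero &&
    qeq (line3 (frame.getD 1 0)).2.1 (qadd qone qone) && qeq (line3 (frame.getD 1 0)).1 qzero &&
    qeq (line3 (frame.getD 1 0)).2.2 qzero &&
    qeq (line3 (frame.getD 2 0)).1 (qadd qone qone) && qeq (line3 (frame.getD 2 0)).2.1 qzero &&
    qeq (line3 (frame.getD 2 0)).2.2 qzero &&
    qeq (units.getD 0 qzero) qone && qeq (units.getD 1 qzero) (qsmul (-1) qone)) = true := by decide +kernel

theorem diag_chk : allLt 120 diagChk = true := by decide +kernel

end Cfsg.Agent.J2Cert
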