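import Cfsg.Agent.Lib.Spor.J2.DataVec

/-! Units of the icosian ring in the basis. -/

set_option autoImplicit false
set_option maxHeartbeats 4000000

noncomputable section

namespace Cfsg.Agent.J2Cert

/-- coordinates of the units -/
def unitCoords : List (List Int) := [[4, -2, -8, 4, 5, -2, 5, 2],
  [-4, 2, 8, -4, -5, 2, -5, -2],
  [-2, 1, 2, -1, -2, 1, -2, -1],
  [-2, 1, 2, -1, -2, 1, 0, 0],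
  [-2, 1, 2, -1, 0, 0, -2, -1],
  [-2, 1, 2, -1, 0, 0, 0, 0],
  [-2, 1, 3, -2, -2, 1, -2, -1],
  [-2, 1, 3, -2, -1, 0, -2, -1],
  [-2, 1, 3, -1, -2, 1, -2, -1],
  [-2, 1, 3, -1, -2, 1, -1, 0],
  [-2, 1, 4, -2, -3, 1, -3, -1],
  [-2, 1, 4, -2, -3, 1, -2, -1],
  [-2, 1, 4, -2, -2, 1, -3, -1],
  [-2, 1, 4, -2, -2, 1, -2, -1],
  [-2, 1, 5, -3, -3, 1, -4, -2],
  [-2, 1, 5, -3, -3, 1, -3, -1],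
  [-2, 1, 5, -2, -4, 2, -3, -1],
  [-2, 1, 5, -2, -3, 1, -3, -1],
  [-2, 1, 6, -3, -5, 2, -5, -2],
  [-2, 1, 6, -3, -5, 2, -3, -1],
  [-2, 1, 6, -3, -3, 1, -5, -2],
  [-2, 1, 6, -3, -3, 1, -3, -1],
  [-1, 0, 0, 0, 0, 0, 0, 0],
  [-1, 0, 0, 0, 0, 0, 1, 0],
  [-1, 0, 1, 0, -2, 1, 0, 0],
  [-1, 0, 1, 0, 0, 0, 0, 0],
  [-1, 0, 2, -1, -2, 1, -2, -1],
  [-1, 0, 2, -1, -2, 1, 0, 0],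
  [-1, 0, 2, -1, -1, 0, -2, -1],
  [-1, 0, 2, -1, -1, 0, 0, 0],
  [-1, 0, 3, -2, -3, 1, -2, -1],
  [-1, 0, 3, -2, -1, 0, -2, -1],
  [-1, 0, 4, -2, -3, 1, -3, -1],
  [-1, 0, 4, -2, -3, 1, -2, -1],
  [-1, 1, 0, 0, 0, 0, 0, 0],
  [-1, 1, 0, 0, 1, 0, 0, 0],
  [-1, 1, 1, -1, 0, 0, -2, -1],
  [-1, 1, 1, -1, 0, 0, 0, 0],
  [-1, 1, 2, -1, -2, 1, -2, -1],
  [-1, 1, 2, -1, -2, 1, -1, 0],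
  [-1, 1, 2, -1, 0, 0, -2, -1],
  [-1, 1, 2, -1, 0, 0, -1, 0],
  [-1, 1, 3, -1, -2, 1, -3, -1],
  [-1, 1, 3, -1, -2, 1, -1, 0],
  [-1, 1, 4, -2, -3, 1, -3, -1],
  [-1, 1, 4, -2, -2, 1, -3, -1],
  [0, 0, -4, 2, 3, -1, 3, 1],
  [0, 0, -2, 1, 1, 0, 1, 0],
  [0, 0, -2, 1, 1, 0, 2, 1],
  [0, 0, -2, 1, 2, -1, 1, 0],
  [0, 0, -2, 1, 2, -1, 2, 1],
  [0, 0, -1, 0, 0, 0, 0, 0],
  [0, 0, -1, 0, 0, 0, 1, 0],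
  [0, 0, -1, 0, 2, -1, 0, 0],
  [0, 0, -1, 0, 2, -1, 1, 0],
  [0, 0, -1, 1, 0, 0, 0, 0],
  [0, 0, -1, 1, 0, 0, 2, 1],
  [0, 0, -1, 1, 1, 0, 0, 0],
  [0, 0, -1, 1, 1, 0, 2, 1],
  [0, 0, 0, 0, -2, 1, 0, 0],
  [0, 0, 0, 0, 0, 0, -2, -1],
  [0, 0, 0, 0, 0, 0, 2, 1],
  [0, 0, 0, 0, 2, -1, 0, 0],
  [0, 0, 1, -1, -1, 0, -2, -1],
  [0, 0, 1, -1, -1, 0, 0, 0],
  [0, 0, 1, -1, 0, 0, -2, -1],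
  [0, 0, 1, -1, 0, 0, 0, 0],
  [0, 0, 1, 0, -2, 1, -1, 0],
  [0, 0, 1, 0, -2, 1, 0, 0],
  [0, 0, 1, 0, 0, 0, -1, 0],
  [0, 0, 1, 0, 0, 0, 0, 0],
  [0, 0, 2, -1, -2, 1, -2, -1],
  [0, 0, 2, -1, -2, 1, -1, 0],
  [0, 0, 2, -1, -1, 0, -2, -1],
  [0, 0, 2, -1, -1, 0, -1, 0],
  [0, 0, 4, -2, -3, 1, -3, -1],
  [1, -1, -4, 2, 2, -1, 3, 1],
  [1, -1, -4, 2, 3, -1, 3, 1],
  [1, -1, -3, 1, 2, -1, 1, 0],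
  [1, -1, -3, 1, 2, -1, 3, 1],
  [1, -1, -2, 1, 0, 0, 1, 0],
  [1, -1, -2, 1, 0, 0, 2, 1],
  [1, -1, -2, 1, 2, -1, 1, 0],
  [1, -1, -2, 1, 2, -1, 2, 1],
  [1, -1, -1, 1, 0, 0, 0, 0],
  [1, -1, -1, 1, 0, 0, 2, 1],
  [1, -1, 0, 0, -1, 0, 0, 0],
  [1, -1, 0, 0, 0, 0, 0, 0],
  [1, 0, -4, 2, 3, -1, 2, 1],
  [1, 0, -4, 2, 3, -1, 3, 1],
  [1, 0, -3, 2, 1, 0, 2, 1],
  [1, 0, -3, 2, 3, -1, 2, 1],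
  [1, 0, -2, 1, 1, 0, 0, 0],
  [1, 0, -2, 1, 1, 0, 2, 1],
  [1, 0, -2, 1, 2, -1, 0, 0],
  [1, 0, -2, 1, 2, -1, 2, 1],
  [1, 0, -1, 0, 0, 0, 0, 0],
  [1, 0, -1, 0, 2, -1, 0, 0],
  [1, 0, 0, 0, 0, 0, -1, 0],
  [1, 0, 0, 0, 0, 0, 0, 0],
  [2, -1, -6, 3, 3, -1, 3, 1],
  [2, -1, -6, 3, 3, -1, 5, 2],
  [2, -1, -6, 3, 5, -2, 3, 1],
  [2, -1, -6, 3, 5, -2, 5, 2],
  [2, -1, -5, 2, 3, -1, 3, 1],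
  [2, -1, -5, 2, 4, -2, 3, 1],
  [2, -1, -5, 3, 3, -1, 3, 1],
  [2, -1, -5, 3, 3, -1, 4, 2],
  [2, -1, -4, 2, 2, -1, 2, 1],
  [2, -1, -4, 2, 2, -1, 3, 1],
  [2, -1, -4, 2, 3, -1, 2, 1],
  [2, -1, -4, 2, 3, -1, 3, 1],
  [2, -1, -3, 1, 2, -1, 1, 0],
  [2, -1, -3, 1, 2, -1, 2, 1],
  [2, -1, -3, 2, 1, 0, 2, 1],
  [2, -1, -3, 2, 2, -1, 2, 1],
  [2, -1, -2, 1, 0, 0, 0, 0],
  [2, -1, -2, 1, 0, 0, 2, 1],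
  [2, -1, -2, 1, 2, -1, 0, 0],
  [2, -1, -2, 1, 2, -1, 2, 1]]

theorem unit_chk : ((List.range 120).all fun i =>
    qeq (lin (unitCoords.getD i []) bas) (units.getD i qzero) &&
    qeq (qraw (qstar (units.getD i qzero)) (units.getD i qzero)) (qsmul 4 qone) &&
    qeq (qraw (units.getD i qzero) (qstar (units.getD i qzero))) (qsmul 4 qone) &&
    (List.range 120).any fun j => qeq (qstar (units.getD i qzero)) (units.getD j qzero)) = true := by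
  decide +kernel

end Cfsg.Agent.J2Cert

end
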