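import Cfsg.Agent.Lib.Spor.J2.MinDefs

/-! Checked facts about small icosians. -/

set_option autoImplicit false
set_option maxHeartbeats 4000000
set_option maxRecDepth 10000

namespace Cfsg.Agent.J2Cert

theorem pair_chk4 : ((pairs.drop 20).take 5).all pairChk = true := by decide +kernel

theorem pair_chk5 : ((pairs.drop 25).take 5).all pairChk = true := by decide +kernel

theorem pair_chk6 : ((pairs.drop 30).take 5).all pairChk = true := by decide +kernel

theorem pair_chk7 : ((pairs.drop 35).take 5).all pairChk = true := by decide +kernel

end Cfsg.Agent.J2Cert
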