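import Cfsg.Agent.Lib.Spor.J2.MinDefs

/-! Checked facts about small icosians. -/

set_option autoImplicit false
set_option maxHeartbeats 4000000
set_option maxRecDepth 10000

namespace Cfsg.Agent.J2Cert

theorem pair_chk8 : ((pairs.drop 40).take 5).all pairChk = true := by decide +kernel

theorem pair_chk9 : ((pairs.drop 45).take 5).all pairChk = true := by decide +kernel

theorem pair_chk10 : ((pairs.drop 50).take 5).all pairChk = true := by decide +kernel

theorem pair_chk11 : ((pairs.drop 55).take 4).all pairChk = true := by decide +kernel

end Cfsg.Agent.J2Cert
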