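import Cfsg.Agent.Lib.Spor.J2.CheckPairsA
import Cfsg.Agent.Lib.Spor.J2.CheckPairsB
import Cfsg.Agent.Lib.Spor.J2.CheckPairsC
import Cfsg.Agent.Lib.Spor.J2.CheckEntry

/-! Checked facts about the minimal vectors. -/

set_option autoImplicit false
set_option maxHeartbeats 4000000
set_option maxRecDepth 10000

namespace Cfsg.Agent.J2Cert

theorem pairs_split : pairs = (pairs.drop 0).take 5 ++ (pairs.drop 5).take 5 ++ (pairs.drop 10).take 5 ++ (pairs.drop 15).take 5 ++ (pairs.drop 20).take 5 ++ (pairs.drop 25).take 5 ++ (pairs.drop 30).take 5 ++ (pairs.drop 35).take 5 ++ (pairs.drop 40).take 5 ++ (pairs.drop 45).take 5 ++ (pairs.drop 50).take 5 ++ (pairs.drop 55).take 4 := by decide +kernel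

theorem pair_chk {p : Int × Int} (hp : p ∈ pairs) : pairChk p = true := by
  rw [pairs_split] at hp
  simp only [List.mem_append] at hp
  rcases hp with ((((((((((h | h) | h) | h) | h) | h) | h) | h) | h) | h) | h) | h
  · exact List.all_eq_true.1 pair_chk0 p h
  · exact List.all_eq_true.1 pair_chk1 p h
  · exact List.all_eq_true.1 pair_chk2 p h
  · exact List.all_eq_true.1 pair_chk3 p h
  · exact List.all_eq_true.1 pair_chk4 p h
  · exact List.all_eq_true.1 pair_chk5 p h
  · exact List.all_eq_true.1 pair_chk6 p h
  · exact List.all_eq_true.1 pair_chk7 p h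
  · exact List.all_eq_true.1 pair_chk8 p h
  · exact List.all_eq_true.1 pair_chk9 p h
  · exact List.all_eq_true.1 pair_chk10 p h
  · exact List.all_eq_true.1 pair_chk11 p h

theorem first_chk : ((List.range 52).all firstChk) = true := by decide +kernel

theorem lineCode_chk : ((List.range 52).all lineCodeChk) = true := by decide +kernel

theorem sizes : buckets.length = 9 ∧ reps.length = 51 ∧ units.length = 120 ∧ lineList.length = 315 ∧ norms.length = 9 := by
  decide +kernel

end Cfsg.Agent.J2Cert
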