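import Mathlib.Init

/-! Integer coordinates for quaternions over `ℚ(√5)`. -/

set_option autoImplicit false

noncomputable section

namespace Cfsg.Agent.J2Cert

/-- a quaternion with entries `(m + n√5)/4` -/
structure Q8 where
  a : Int
  b : Int
  c : Int
  d : Int
  e : Int
  f : Int
  g : Int
  h : Int

/-- Boolean equality -/
def qeq (x y : Q8) : Bool :=
  decide (x.a = y.a) && decide (x.b = y.b) && decide (x.c = y.c) && decide (x.d = y.d) &&
  decide (x.e = y.e) && decide (x.f = y.f) && decide (x.g = y.g) && decide (x.h = y.h)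

theorem qeq_eq {x y : Q8} (h : qeq x y = true) : x = y := by
  cases x; cases y
  simp only [qeq, Bool.and_eq_true, decide_eq_true_eq] at h
  obtain ⟨⟨⟨⟨⟨⟨⟨rfl, rfl⟩, rfl⟩, rfl⟩, rfl⟩, rfl⟩, rfl⟩, rfl⟩ := h
  rfl

/-- zero -/
def qzero : Q8 := ⟨0, 0, 0, 0, 0, 0, 0, 0⟩

/-- one -/
def qone : Q8 := ⟨4, 0, 0, 0, 0, 0, 0, 0⟩

/-- sum -/
def qadd (x y : Q8) : Q8 := ⟨x.a + y.a, x.b + y.b, x.c + y.c, x.d + y.d, x.e + y.e, x.f + y.f, x.g + y.g, x.h + y.h⟩

/-- difference -/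
def qsub (x y : Q8) : Q8 := ⟨x.a - y.a, x.b - y.b, x.c - y.c, x.d - y.d, x.e - y.e, x.f - y.f, x.g - y.g, x.h - y.h⟩

/-- integer multiple -/
def qsmul (n : Int) (x : Q8) : Q8 := ⟨n * x.a, n * x.b, n * x.c, n * x.d, n * x.e, n * x.f, n * x.g, n * x.h⟩

/-- conjugate -/
def qstar (x : Q8) : Q8 := ⟨x.a, x.b, -x.c, -x.d, -x.e, -x.f, -x.g, -x.h⟩

/-- four times the product -/
def qraw (x y : Q8) : Q8 :=
  ⟨x.a * y.a + 5 * (x.b * y.b) - (x.c * y.c + 5 * (x.d * y.d)) - (x.e * y.e + 5 * (x.f * y.f)) - (x.g * y.g + 5 * (x.h * y.h)),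
   x.a * y.b + x.b * y.a - (x.c * y.d + x.d * y.c) - (x.e * y.f + x.f * y.e) - (x.g * y.h + x.h * y.g),
   x.a * y.c + 5 * (x.b * y.d) + (x.c * y.a + 5 * (x.d * y.b)) + (x.e * y.g + 5 * (x.f * y.h)) - (x.g * y.e + 5 * (x.h * y.f)),
   x.a * y.d + x.b * y.c + (x.c * y.b + x.d * y.a) + (x.e * y.h + x.f * y.g) - (x.g * y.f + x.h * y.e),
   x.a * y.e + 5 * (x.b * y.f) - (x.c * y.g + 5 * (x.d * y.h)) + (x.e * y.a + 5 * (x.f * y.b)) + (x.g * y.c + 5 * (x.h * y.d)),
   x.a * y.f + x.b * y.e - (x.c * y.h + x.d * y.g) + (x.e * y.b + x.f * y.a) + (x.g * y.d + x.h * y.c),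
   x.a * y.g + 5 * (x.b * y.h) + (x.c * y.e + 5 * (x.d * y.f)) - (x.e * y.c + 5 * (x.f * y.d)) + (x.g * y.a + 5 * (x.h * y.b)),
   x.a * y.h + x.b * y.g + (x.c * y.f + x.d * y.e) - (x.e * y.d + x.f * y.c) + (x.g * y.b + x.h * y.a)⟩

/-- product, when divisible -/
def qmul (x y : Q8) : Q8 :=
  let r := qraw x y
  ⟨r.a / 4, r.b / 4, r.c / 4, r.d / 4, r.e / 4, r.f / 4, r.g / 4, r.h / 4⟩

/-- divisibility of the product -/
def mulOK (x y : Q8) : Bool := qeq (qsmul 4 (qmul x y)) (qraw x y)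

/-- linear combination -/
def lin : List Int → List Q8 → Q8
  | n :: ns, x :: xs => qadd (qsmul n x) (lin ns xs)
  | _, _ => qzero

/-- the imaginary unit -/
def qi : Q8 := ⟨0, 0, 4, 0, 0, 0, 0, 0⟩

/-- the second generator -/
def qg : Q8 := ⟨2, 0, 1, -1, 0, 0, 1, 1⟩

/-- generators -/
def qgen (s : Bool) : Q8 := bif s then qg else qi

/-- value of a word, read from the left -/
def wval : List Bool → Q8
  | [] => qone
  | s :: w => qmul (qgen s) (wval w)

/-- all products in a word are exact -/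
def wOK : List Bool → Bool
  | [] => true
  | s :: w => mulOK (qgen s) (wval w) && wOK w

/-- combination of words -/
def wcomb : List (Int × List Bool) → Q8
  | [] => qzero
  | (n, w) :: r => qadd (qsmul n (wval w)) (wcomb r)

/-- the basis -/
def bas : List Q8 := [⟨1, 1, 2, 0, 0, 0, 1, -1⟩, ⟨0, 2, 0, 0, -1, -1, 1, -1⟩, ⟨0, 0, 1, 1, 2, 0, 1, -1⟩, ⟨0, 0, 0, 2, 1, -1, -1, -1⟩, ⟨0, 0, 0, 0, 2, 2, 0, 0⟩, ⟨0, 0, 0, 0, 0, 4, 0, 0⟩, ⟨0, 0, 0, 0, 0, 0, 2, -2⟩, ⟨0, 0, 0, 0, 0, 0, 0, 4⟩]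

/-- structure constants -/
def mtab : List (List (List Int)) := [[[-1, 1, 3, -1, -2, 1, -3, -1], [1, 0, -3, 2, 1, 0, 0, 0], [-2, 1, 5, -2, -4, 2, -3, -1], [-1, 0, 3, -1, -4, 2, -2, -1], [0, 0, 2, -1, 0, 0, -1, 0], [0, 0, 5, -3, -1, 0, -4, -1], [-3, 2, 6, -3, -4, 2, -5, -2], [5, -3, -10, 5, 6, -3, 9, 4]],
  [[1, 0, -1, 1, 0, 0, -1, 0], [2, -1, -4, 2, 0, 0, 0, 0], [-1, 1, 5, -2, -4, 2, -4, -1], [-2, 1, 9, -4, -9, 4, -6, -2], [3, -1, -4, 2, 5, -2, 2, 1], [5, -2, -5, 2, 8, -4, 2, 1], [-3, 2, 8, -4, -5, 2, -8, -3], [5, -3, -15, 7, 10, -4, 15, 6]],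
  [[-2, 1, 6, -3, -3, 1, -5, -2], [-1, 1, 4, -2, -2, 1, -5, -2], [-4, 2, 8, -4, -5, 2, -5, -2], [-4, 2, 6, -3, -4, 2, -4, -2], [-1, 0, 4, -2, -3, 1, -1, 0], [0, -1, 5, -3, -4, 1, -1, 0], [-3, 2, 7, -4, -3, 1, -5, -2], [5, -3, -10, 6, 3, -1, 7, 3]],
  [[-1, 0, 6, -3, -4, 1, -5, -2], [-2, 1, 9, -5, -6, 2, -9, -4], [-4, 2, 10, -5, -6, 2, -6, -2], [-8, 4, 16, -8, -10, 4, -10, -4], [2, -1, -1, 1, 0, 0, 3, 2], [5, -3, -5, 3, 2, -1, 8, 4], [-2, 1, 7, -4, -2, 0, -5, -2], [5, -2, -15, 8, 5, -1, 10, 4]],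
  [[0, 0, -2, 1, 3, -1, 1, 0], [3, -1, -8, 4, 8, -3, 5, 2], [-1, 0, 0, 0, 0, 0, -1, -1], [2, -1, -7, 3, 5, -2, 2, 0], [-6, 2, 12, -6, -8, 3, -7, -3], [-10, 4, 20, -10, -13, 5, -12, -5], [0, 0, -4, 2, 3, -1, 3, 1], [0, 0, 10, -4, -8, 3, -7, -2]],
  [[0, 0, -5, 3, 6, -2, 4, 1], [5, -2, -15, 8, 15, -6, 10, 4], [0, -1, -5, 3, 3, -1, 2, 0], [5, -3, -15, 7, 10, -4, 5, 1], [-10, 4, 20, -10, -13, 5, -12, -5], [-20, 10, 40, -20, -25, 10, -25, -10], [0, 0, -10, 6, 7, -2, 8, 3], [0, 0, 20, -10, -15, 5, -15, -5]],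
  [[-3, 2, 6, -3, -3, 1, -5, -2], [-3, 2, 4, -2, -2, 1, -5, -2], [-3, 2, 5, -2, -4, 2, -3, -1], [-2, 1, 1, 0, -3, 2, 0, 0], [0, 0, 4, -2, -3, 1, -3, -1], [0, 0, 10, -6, -7, 2, -8, -3], [-6, 4, 12, -6, -7, 3, -8, -3], [10, -6, -20, 10, 12, -5, 13, 5]],
  [[5, -3, -10, 5, 6, -2, 9, 4], [5, -3, -5, 3, 2, -1, 8, 4], [5, -3, -10, 4, 9, -4, 6, 2], [5, -2, -5, 2, 8, -4, 2, 1], [0, 0, -10, 4, 8, -3, 7, 2], [0, 0, -20, 10, 15, -5, 15, 5], [10, -6, -20, 10, 12, -5, 13, 5], [-20, 10, 40, -20, -25, 10, -25, -10]]]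

/-- coordinates of the basis in products of the two generators -/
def btab : List (List (Int × List Bool)) := [[(-1, [false, true, false, true]), (1, [true, true, false, true, false, true, true, false, true])],
  [(1, [false, true]), (1, [true, false, true, false, true, true, false, true, true]), (-1, [true, false, true, true, false, true, false, true, true, false])],
  [(-1, [false, true]), (1, [true, false]), (-1, [false, true, false, true]), (1, [true, false, true, true]), (1, [true, true, false, true, false, true, true, false, true]), (1, [true, false, true, true, false, true, false, true, true, false])],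
  [(-1, [false, true]), (1, [true, false]), (-1, [false, true, false, true]), (1, [true, false, true, true]), (1, [true, false, true, false, true, true, false, true, true]), (1, [true, true, false, true, false, true, true, false, true]), (1, [true, false, true, true, false, true, false, true, true, false]), (-1, [false, true, false, true, true, false, true, false, true, true, false])],
  [(-1, [false, true]), (1, [true, false])],
  [(-1, [false, true]), (1, [true, false]), (1, [false, true, false, true]), (-1, [true, false, true, true]), (-1, [true, false, true, true, false, true, false, true, true, false])],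
  [(1, [true, true, false, true, false, true, true, false, true]), (1, [false, true, false, true, true, false, true, false, true, true, false])],
  [(1, [true, false, true, true]), (-1, [true, false, true, false, true, true, false, true, true]), (-2, [true, true, false, true, false, true, true, false, true]), (-1, [false, true, false, true, true, false, true, false, true, true, false])]]

end Cfsg.Agent.J2Cert

end
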