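import Mathlib
import Cfsg.Prelude.Def_Spor_J2
import Cfsg.Agent.Lib.Spor.J2.QDefs

/-! The icosians in integer coordinates. -/

set_option autoImplicit false

noncomputable section

namespace Cfsg.Agent.J2Cert

open Quaternion Cfsg.Spor

theorem mult_chk : ((List.range 8).all fun i => (List.range 8).all fun j =>
    qeq (qraw (bas.getD i qzero) (bas.getD j qzero)) (qsmul 4 (lin ((mtab.getD i []).getD j []) bas))) = true := by
  decide +kernel

theorem btab_chk : ((List.range 8).all fun i => (btab.getD i []).all (fun p => wOK p.2) &&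
    qeq (wcomb (btab.getD i [])) (bas.getD i qzero)) = true := by
  decide +kernel

theorem gens_chk : (qeq (lin [4, -2, -8, 4, 5, -2, 5, 2] bas) qone && qeq (lin [0, 0, 4, -2, -3, 1, -3, -1] bas) qi && qeq (lin [2, -1, -3, 1, 2, -1, 2, 1] bas) qg) = true := by decide +kernel

/-- the real square root of five -/
def r5 : ℝ := Real.sqrt 5

theorem r5_mul : r5 * r5 = 5 := Real.mul_self_sqrt (by norm_num)

/-- the quaternion of an integer vector -/
def emb (x : Q8) : ℍ[ℝ] :=
  ⟨((x.a : ℝ) + x.b * r5) / 4, ((x.c : ℝ) + x.d * r5) / 4, ((x.e : ℝ) + x.f * r5) / 4, ((x.g : ℝ) + x.h * r5) / 4⟩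

theorem emb_re (x : Q8) : (emb x).re = ((x.a : ℝ) + x.b * r5) / 4 := rfl

theorem emb_imI (x : Q8) : (emb x).imI = ((x.c : ℝ) + x.d * r5) / 4 := rfl

theorem emb_imJ (x : Q8) : (emb x).imJ = ((x.e : ℝ) + x.f * r5) / 4 := rfl

theorem emb_imK (x : Q8) : (emb x).imK = ((x.g : ℝ) + x.h * r5) / 4 := rfl

theorem pair_inj {a b a' b' : ℤ} (h : (a : ℝ) + b * r5 = a' + b' * r5) : a = a' ∧ b = b' := by
  by_cases hb : b = b'
  · subst hb
    exact ⟨by exact_mod_cast add_right_cancel h, rfl⟩
  · exfalso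
    have hirr : Irrational r5 := by
      unfold r5
      exact_mod_cast Nat.Prime.irrational_sqrt (p := 5) (by norm_num)
    have hne : ((b : ℝ) - b') ≠ 0 := sub_ne_zero.2 (by exact_mod_cast hb)
    refine hirr ⟨((a' - a : ℤ) : ℚ) / ((b - b' : ℤ) : ℚ), ?_⟩
    push_cast
    rw [div_eq_iff hne]
    linarith

theorem emb_inj {x y : Q8} (h : emb x = emb y) : x = y := by
  have h1 := congrArg QuaternionAlgebra.re h
  have h2 := congrArg QuaternionAlgebra.imI h
  have h3 := congrArg QuaternionAlgebra.imJ h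
  have h4 := congrArg QuaternionAlgebra.imK h
  simp only [emb_re, emb_imI, emb_imJ, emb_imK] at h1 h2 h3 h4
  obtain ⟨e1, e2⟩ := pair_inj (a := x.a) (b := x.b) (a' := y.a) (b' := y.b) (by linarith [h1])
  obtain ⟨e3, e4⟩ := pair_inj (a := x.c) (b := x.d) (a' := y.c) (b' := y.d) (by linarith [h2])
  obtain ⟨e5, e6⟩ := pair_inj (a := x.e) (b := x.f) (a' := y.e) (b' := y.f) (by linarith [h3])
  obtain ⟨e7, e8⟩ := pair_inj (a := x.g) (b := x.h) (a' := y.g) (b' := y.h) (by linarith [h4])
  cases x; cases y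
  simp_all

theorem emb_zero : emb qzero = 0 := by
  ext <;> simp [emb_re, emb_imI, emb_imJ, emb_imK, qzero]

theorem emb_one : emb qone = 1 := by
  ext <;> simp [emb_re, emb_imI, emb_imJ, emb_imK, qone]

theorem emb_add (x y : Q8) : emb (qadd x y) = emb x + emb y := by
  ext <;> simp [emb_re, emb_imI, emb_imJ, emb_imK, qadd] <;> ring

theorem emb_sub (x y : Q8) : emb (qsub x y) = emb x - emb y := by
  ext <;> simp [emb_re, emb_imI, emb_imJ, emb_imK, qsub] <;> ring

theorem emb_smul (n : ℤ) (x : Q8) : emb (qsmul n x) = (n : ℝ) • emb x := by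
  ext <;> simp [emb_re, emb_imI, emb_imJ, emb_imK, qsmul] <;> ring

theorem emb_star (x : Q8) : emb (qstar x) = star (emb x) := by
  ext <;> simp [emb_re, emb_imI, emb_imJ, emb_imK, qstar] <;> ring

theorem emb_raw (x y : Q8) : emb (qraw x y) = (4 : ℝ) • (emb x * emb y) := by
  ext <;> simp [emb_re, emb_imI, emb_imJ, emb_imK, qraw] <;> ring_nf <;> simp only [pow_two, r5_mul] <;> ring

theorem emb_mul {x y : Q8} (h : mulOK x y = true) : emb (qmul x y) = emb x * emb y := by
  have h' := congrArg emb (qeq_eq h)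
  rw [emb_smul, emb_raw] at h'
  exact smul_right_injective ℍ[ℝ] (by norm_num : (4 : ℝ) ≠ 0) (by simpa using h')

theorem emb_qi : emb qi = qI := by
  ext <;> simp [emb_re, emb_imI, emb_imJ, emb_imK, qi, qI]

theorem emb_qg : emb qg = ⟨1 / 2, sig / 2, 0, tau / 2⟩ := by
  ext <;> simp [emb_re, emb_imI, emb_imJ, emb_imK, qg, sig, tau, r5] <;> ring

/-- integer vectors that are icosians -/
def InI (x : Q8) : Prop := emb x ∈ icosians

theorem inI_zero : InI qzero := by rw [InI, emb_zero]; exact zero_mem _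

theorem inI_one : InI qone := by rw [InI, emb_one]; exact one_mem _

theorem inI_add {x y : Q8} (hx : InI x) (hy : InI y) : InI (qadd x y) := by
  rw [InI, emb_add]; exact add_mem hx hy

theorem inI_smul (n : ℤ) {x : Q8} (hx : InI x) : InI (qsmul n x) := by
  rw [InI, emb_smul, Int.cast_smul_eq_zsmul]; exact zsmul_mem hx n

theorem inI_gen (s : Bool) : InI (qgen s) := by
  cases s
  · show emb qi ∈ icosians
    rw [emb_qi]; exact Subring.subset_closure (by simp)
  · show emb qg ∈ icosians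
    rw [emb_qg]; exact Subring.subset_closure (Or.inr rfl)

theorem inI_word : ∀ w, wOK w = true → InI (wval w)
  | [], _ => inI_one
  | s :: w, h => by
    simp only [wOK, Bool.and_eq_true] at h
    show emb (qmul (qgen s) (wval w)) ∈ icosians
    rw [emb_mul h.1]
    exact mul_mem (inI_gen s) (inI_word w h.2)

theorem inI_wcomb : ∀ r : List (ℤ × List Bool), (∀ p ∈ r, wOK p.2 = true) → InI (wcomb r)
  | [], _ => inI_zero
  | (n, w) :: r, h => inI_add (inI_smul n (inI_word w (h (n, w) (by simp)))) (inI_wcomb r fun p hp => h p (by simp [hp]))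

theorem inI_bas {i : ℕ} (hi : i < 8) : InI (bas.getD i qzero) := by
  have h := List.all_eq_true.1 btab_chk i (List.mem_range.2 hi)
  simp only [Bool.and_eq_true, List.all_eq_true] at h
  rw [← qeq_eq h.2]
  exact inI_wcomb _ h.1

theorem inI_lin : ∀ (ns : List ℤ) (xs : List Q8), (∀ x ∈ xs, InI x) → InI (lin ns xs)
  | [], _, _ => by simpa [lin] using inI_zero
  | _ :: _, [], _ => by simpa [lin] using inI_zero
  | n :: ns, x :: xs, h => inI_add (inI_smul n (h x (by simp))) (inI_lin ns xs fun y hy => h y (by simp [hy]))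

theorem inI_coords (ns : List ℤ) : InI (lin ns bas) := inI_lin ns bas fun x hx => by
  obtain ⟨i, hi, rfl⟩ := List.getElem_of_mem hx
  rw [← List.getD_eq_getElem _ qzero]
  exact inI_bas hi

theorem emb_lin_add : ∀ (ns ms : List ℤ) (xs : List Q8), ns.length = xs.length → ms.length = xs.length →
    emb (lin (List.zipWith (· + ·) ns ms) xs) = emb (lin ns xs) + emb (lin ms xs)
  | [], [], [], _, _ => by simp [lin, emb_zero]
  | [], _ :: _, [], _, h2 => by simp at h2
  | _ :: _, _, [], h1, _ => by simp at h1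
  | [], _, _ :: _, h1, _ => by simp at h1
  | _ :: _, [], _ :: _, _, h2 => by simp at h2
  | n :: ns, m :: ms, x :: xs, h1, h2 => by
    simp only [List.zipWith_cons_cons, lin, emb_add, emb_smul, Int.cast_add, add_smul,
      emb_lin_add ns ms xs (by simpa using h1) (by simpa using h2)]
    abel

theorem emb_lin_neg : ∀ (ns : List ℤ) (xs : List Q8),
    emb (lin (ns.map (- ·)) xs) = - emb (lin ns xs)
  | [], _ => by simp [lin, emb_zero]
  | _ :: _, [] => by simp [lin, emb_zero]
  | n :: ns, x :: xs => by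
    simp only [List.map_cons, lin, emb_add, emb_smul, Int.cast_neg, neg_smul, emb_lin_neg ns xs]
    abel

/-- coordinates of length eight -/
def InSpan (q : ℍ[ℝ]) : Prop := ∃ ns : List ℤ, ns.length = 8 ∧ q = emb (lin ns bas)

/-- the span as an additive group -/
def spanGroup : AddSubgroup ℍ[ℝ] where
  carrier := {q | InSpan q}
  zero_mem' := ⟨[0, 0, 0, 0, 0, 0, 0, 0], rfl, by
    rw [show lin [0, 0, 0, 0, 0, 0, 0, 0] bas = qzero from qeq_eq (by decide +kernel), emb_zero]⟩
  add_mem' := by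
    rintro p q ⟨ns, h1, rfl⟩ ⟨ms, h2, rfl⟩
    exact ⟨List.zipWith (· + ·) ns ms, by simp [h1, h2], (emb_lin_add ns ms bas h1 h2).symm⟩
  neg_mem' := by
    rintro p ⟨ns, h1, rfl⟩
    exact ⟨ns.map (- ·), by simp [h1], (emb_lin_neg ns bas).symm⟩

theorem span_lin_mul {q : ℍ[ℝ]} : ∀ (ns : List ℤ) (xs : List Q8),
    (∀ x ∈ xs, emb x * q ∈ spanGroup) → emb (lin ns xs) * q ∈ spanGroup
  | [], _, _ => by simp [lin, emb_zero]
  | _ :: _, [], _ => by simp [lin, emb_zero]
  | n :: ns, x :: xs, h => by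
    rw [lin, emb_add, emb_smul, add_mul, smul_mul_assoc, Int.cast_smul_eq_zsmul]
    exact add_mem (zsmul_mem (h x (by simp)) n) (span_lin_mul ns xs fun y hy => h y (by simp [hy]))

theorem span_mul_lin {q : ℍ[ℝ]} : ∀ (ns : List ℤ) (xs : List Q8),
    (∀ x ∈ xs, q * emb x ∈ spanGroup) → q * emb (lin ns xs) ∈ spanGroup
  | [], _, _ => by simp [lin, emb_zero]
  | _ :: _, [], _ => by simp [lin, emb_zero]
  | n :: ns, x :: xs, h => by
    rw [lin, emb_add, emb_smul, mul_add, mul_smul_comm, Int.cast_smul_eq_zsmul]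
    exact add_mem (zsmul_mem (h x (by simp)) n) (span_mul_lin ns xs fun y hy => h y (by simp [hy]))

theorem span_mul {p q : ℍ[ℝ]} (hp : p ∈ spanGroup) (hq : q ∈ spanGroup) : p * q ∈ spanGroup := by
  obtain ⟨ns, -, rfl⟩ := hp
  obtain ⟨ms, -, rfl⟩ := hq
  refine span_lin_mul ns bas fun x hx => span_mul_lin ms bas fun y hy => ?_
  obtain ⟨i, hi, rfl⟩ := List.getElem_of_mem hx
  obtain ⟨j, hj, rfl⟩ := List.getElem_of_mem hy
  have h := List.all_eq_true.1 (List.all_eq_true.1 mult_chk i (List.mem_range.2 hi)) j (List.mem_range.2 hj)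
  have h' := congrArg emb (qeq_eq h)
  rw [emb_raw, emb_smul, List.getD_eq_getElem _ _ hi, List.getD_eq_getElem _ _ hj] at h'
  have key : ∀ i j : Fin 8, ((mtab.getD i.val []).getD j.val []).length = 8 := by decide +kernel
  exact ⟨_, key ⟨i, hi⟩ ⟨j, hj⟩, smul_right_injective ℍ[ℝ] (by norm_num : (4 : ℝ) ≠ 0) (by simpa using h')⟩

/-- the span as a subring -/
def spanRing : Subring ℍ[ℝ] :=
  { spanGroup with
    one_mem' := by
      have h := gens_chk
      simp only [Bool.and_eq_true] at h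
      exact ⟨[4, -2, -8, 4, 5, -2, 5, 2], rfl, by rw [qeq_eq h.1.1, emb_one]⟩
    mul_mem' := span_mul }

/-- The icosians are the integer combinations of the basis. -/
theorem mem_icosians {q : ℍ[ℝ]} : q ∈ icosians ↔ ∃ ns : List ℤ, ns.length = 8 ∧ q = emb (lin ns bas) := by
  constructor
  · intro h
    have hle : icosians ≤ spanRing := by
      refine Subring.closure_le.2 ?_
      have h := gens_chk
      simp only [Bool.and_eq_true] at h
      rintro x (rfl | rfl)
      · exact ⟨[0, 0, 4, -2, -3, 1, -3, -1], rfl, by rw [qeq_eq h.1.2, emb_qi]⟩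
      · exact ⟨[2, -1, -3, 1, 2, -1, 2, 1], rfl, by rw [qeq_eq h.2, emb_qg]⟩
    exact hle h
  · rintro ⟨ns, -, rfl⟩
    exact inI_coords _

end Cfsg.Agent.J2Cert

end
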