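import Mathlib
import Cfsg.Agent.Lib.Spor.J2.Ico

/-! The icosian Leech lattice: generators, left-linear maps and reflections. -/

set_option autoImplicit false

noncomputable section

namespace Cfsg.Agent.J2Cert

open Quaternion Cfsg.Spor

/-- an integer triple -/
structure T3 where
  x : Q8
  y : Q8
  z : Q8

/-- Boolean equality of triples -/
def teq (u v : T3) : Bool := qeq u.x v.x && qeq u.y v.y && qeq u.z v.z

theorem teq_eq {u v : T3} (h : teq u v = true) : u = v := by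
  cases u; cases v
  simp only [teq, Bool.and_eq_true] at h
  obtain ⟨⟨h1, h2⟩, h3⟩ := h
  cases qeq_eq h1; cases qeq_eq h2; cases qeq_eq h3
  rfl

/-- the vector of an integer triple -/
def vec (t : T3) : Fin 3 → ℍ[ℝ] := ![emb t.x, emb t.y, emb t.z]

theorem vec_inj {u v : T3} (h : vec u = vec v) : u = v := by
  have h0 := congrFun h 0
  have h1 := congrFun h 1
  have h2 := congrFun h 2
  cases u; cases v
  simp only [vec, Matrix.cons_val_zero, Matrix.cons_val_one, Matrix.cons_val_two, Matrix.head_cons,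
    Matrix.tail_cons, Matrix.cons_val] at h0 h1 h2
  cases emb_inj h0; cases emb_inj h1; cases emb_inj h2
  rfl

/-- four times the Hermitian product -/
def qipRaw (u v : T3) : Q8 := qadd (qadd (qraw u.x (qstar v.x)) (qraw u.y (qstar v.y))) (qraw u.z (qstar v.z))

theorem emb_qipRaw (u v : T3) : emb (qipRaw u v) = (4 : ℝ) • qip (vec u) (vec v) := by
  simp only [qipRaw, emb_add, emb_raw, emb_star, qip, Fin.sum_univ_three, vec, smul_add, Matrix.cons_val_zero,
    Matrix.cons_val_one, Matrix.cons_val_two, Matrix.head_cons, Matrix.tail_cons, Matrix.cons_val]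

/-- `h` -/
def qH : Q8 := ⟨0, -2, 2, 0, 2, 0, 2, 0⟩

theorem emb_qH : emb qH = icoH := by
  ext <;> simp [emb_re, emb_imI, emb_imJ, emb_imK, qH, icoH, r5] <;> ring

/-- `h̄` -/
def qHb : Q8 := qstar qH

theorem emb_qHb : emb qHb = star icoH := by rw [qHb, emb_star, emb_qH]

theorem icoH_mem : icoH ∈ icosians :=
  mem_icosians.2 ⟨[0, -1, 2, -1, -1, 0, 0, 0], rfl,
    by rw [show lin [0, -1, 2, -1, -1, 0, 0, 0] bas = qH from qeq_eq (by decide +kernel), emb_qH]⟩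

theorem icoHb_mem : star icoH ∈ icosians :=
  mem_icosians.2 ⟨[0, -1, -2, 1, 0, 0, 1, 0], rfl,
    by rw [show lin [0, -1, -2, 1, 0, 0, 1, 0] bas = qHb from qeq_eq (by decide +kernel), emb_qHb]⟩

theorem emb_two : emb (qadd qone qone) = 2 := by rw [emb_add, emb_one]; norm_num

theorem icoH_mul_star : icoH * star icoH = 2 := by
  rw [← emb_qH, ← emb_star, ← emb_mul (show mulOK qH (qstar qH) = true by decide +kernel),
    show qmul qH (qstar qH) = qadd qone qone from qeq_eq (by decide +kernel), emb_two]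

theorem star_mul_icoH : star icoH * icoH = 2 := by
  rw [← emb_qH, ← emb_star, ← emb_mul (show mulOK (qstar qH) qH = true by decide +kernel),
    show qmul (qstar qH) qH = qadd qone qone from qeq_eq (by decide +kernel), emb_two]

theorem two_mem : (2 : ℍ[ℝ]) ∈ icosians := by
  rw [← star_mul_icoH]; exact mul_mem icoHb_mem icoH_mem

/-- left combination -/
def lsmul (a : ℍ[ℝ]) (v : Fin 3 → ℍ[ℝ]) : Fin 3 → ℍ[ℝ] := fun t => a * v t

theorem leftIdeal_zero (q : ℍ[ℝ]) : (0 : ℍ[ℝ]) ∈ leftIdeal q := ⟨0, zero_mem _, by simp⟩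

theorem leftIdeal_add {q x y : ℍ[ℝ]} (hx : x ∈ leftIdeal q) (hy : y ∈ leftIdeal q) : x + y ∈ leftIdeal q := by
  obtain ⟨a, ha, rfl⟩ := hx
  obtain ⟨b, hb, rfl⟩ := hy
  exact ⟨a + b, add_mem ha hb, by rw [add_mul]⟩

theorem leftIdeal_mul {q x a : ℍ[ℝ]} (ha : a ∈ icosians) (hx : x ∈ leftIdeal q) : a * x ∈ leftIdeal q := by
  obtain ⟨b, hb, rfl⟩ := hx
  exact ⟨a * b, mul_mem ha hb, by rw [mul_assoc]⟩

theorem lam_add {u v : Fin 3 → ℍ[ℝ]} (hu : u ∈ icoLeech) (hv : v ∈ icoLeech) : u + v ∈ icoLeech := by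
  refine ⟨fun t => add_mem (hu.1 t) (hv.1 t), ?_, ?_, ?_⟩
  · rw [show (u + v) 0 - (u + v) 1 = (u 0 - u 1) + (v 0 - v 1) by simp; abel]
    exact leftIdeal_add hu.2.1 hv.2.1
  · rw [show (u + v) 1 - (u + v) 2 = (u 1 - u 2) + (v 1 - v 2) by simp; abel]
    exact leftIdeal_add hu.2.2.1 hv.2.2.1
  · rw [show (u + v) 0 + (u + v) 1 + (u + v) 2 = (u 0 + u 1 + u 2) + (v 0 + v 1 + v 2) by simp; abel]
    exact leftIdeal_add hu.2.2.2 hv.2.2.2

theorem lam_smul {a : ℍ[ℝ]} {v : Fin 3 → ℍ[ℝ]} (ha : a ∈ icosians) (hv : v ∈ icoLeech) : lsmul a v ∈ icoLeech := by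
  refine ⟨fun t => mul_mem ha (hv.1 t), ?_, ?_, ?_⟩
  · simp only [lsmul, ← mul_sub]; exact leftIdeal_mul ha hv.2.1
  · simp only [lsmul, ← mul_sub]; exact leftIdeal_mul ha hv.2.2.1
  · simp only [lsmul, ← mul_add]; exact leftIdeal_mul ha hv.2.2.2

theorem lam_zero : (0 : Fin 3 → ℍ[ℝ]) ∈ icoLeech :=
  ⟨fun _ => zero_mem _, by simpa using leftIdeal_zero _, by simpa using leftIdeal_zero _, by simpa using leftIdeal_zero _⟩

/-- the four generators of the lattice as a left module -/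
def wgen : List T3 := [⟨qHb, qHb, qHb⟩, ⟨qH, qH, qzero⟩, ⟨qadd qone qone, qadd qone qone, qadd qone qone⟩,
  ⟨qzero, qsmul (-1) qH, qsmul (-1) qH⟩]

theorem two_mem_H : (2 : ℍ[ℝ]) ∈ leftIdeal icoH := ⟨star icoH, icoHb_mem, star_mul_icoH.symm⟩

theorem two_mem_Hb : (2 : ℍ[ℝ]) ∈ leftIdeal (star icoH) := ⟨icoH, icoH_mem, icoH_mul_star.symm⟩

theorem wgen_mem : ∀ w ∈ wgen, vec w ∈ icoLeech := by
  have hneg : emb (qsmul (-1) qH) = -icoH := by rw [emb_smul, emb_qH]; simp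
  intro w hw
  simp only [wgen, List.mem_cons, List.not_mem_nil, or_false] at hw
  rcases hw with rfl | rfl | rfl | rfl
  · refine ⟨fun t => by fin_cases t <;> simp [vec, emb_qHb, icoHb_mem], ?_, ?_, ?_⟩
    · simpa [vec] using leftIdeal_zero _
    · simpa [vec] using leftIdeal_zero _
    · exact ⟨3, by exact_mod_cast natCast_mem icosians 3, by simp [vec, emb_qHb]; noncomm_ring⟩
  · refine ⟨fun t => by fin_cases t <;> simp [vec, emb_qH, emb_zero, icoH_mem], ?_, ?_, ?_⟩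
    · simpa [vec] using leftIdeal_zero _
    · exact ⟨1, one_mem _, by simp [vec, emb_qH, emb_zero]⟩
    · refine ⟨icoH * icoH, mul_mem icoH_mem icoH_mem, ?_⟩
      rw [mul_assoc, icoH_mul_star]
      simp [vec, emb_qH, emb_zero]; noncomm_ring
  · refine ⟨fun t => by fin_cases t <;> simp [vec, emb_two, two_mem], ?_, ?_, ?_⟩
    · simpa [vec] using leftIdeal_zero _
    · simpa [vec] using leftIdeal_zero _
    · simp only [vec, emb_two, Matrix.cons_val_zero, Matrix.cons_val_one, Matrix.cons_val_two, Matrix.head_cons,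
        Matrix.tail_cons, Matrix.cons_val]
      exact leftIdeal_add (leftIdeal_add two_mem_Hb two_mem_Hb) two_mem_Hb
  · refine ⟨fun t => by fin_cases t <;> simp [vec, hneg, emb_zero, icoH_mem], ?_, ?_, ?_⟩
    · exact ⟨1, one_mem _, by simp [vec, hneg, emb_zero]⟩
    · simpa [vec] using leftIdeal_zero _
    · refine ⟨-(icoH * icoH), neg_mem (mul_mem icoH_mem icoH_mem), ?_⟩
      rw [neg_mul, mul_assoc, icoH_mul_star]
      simp [vec, hneg, emb_zero]; noncomm_ring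

/-- a left-linear map given by a matrix of quaternions -/
def lmap (M : Fin 3 → Fin 3 → ℍ[ℝ]) (x : Fin 3 → ℍ[ℝ]) : Fin 3 → ℍ[ℝ] := fun c => ∑ t, x t * M t c

theorem lmap_add (M : Fin 3 → Fin 3 → ℍ[ℝ]) (u v : Fin 3 → ℍ[ℝ]) : lmap M (u + v) = lmap M u + lmap M v := by
  funext c; simp [lmap, add_mul, Finset.sum_add_distrib]

theorem lmap_smul (M : Fin 3 → Fin 3 → ℍ[ℝ]) (a : ℍ[ℝ]) (v : Fin 3 → ℍ[ℝ]) : lmap M (lsmul a v) = lsmul a (lmap M v) := by
  funext c; simp [lmap, lsmul, Finset.mul_sum, mul_assoc]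

theorem lam_decomp {v : Fin 3 → ℍ[ℝ]} (hv : v ∈ icoLeech) : ∃ a b c d : ℍ[ℝ],
    a ∈ icosians ∧ b ∈ icosians ∧ c ∈ icosians ∧ d ∈ icosians ∧
    v = lsmul a (vec ⟨qHb, qHb, qHb⟩) + lsmul b (vec ⟨qH, qH, qzero⟩) +
      lsmul c (vec ⟨qadd qone qone, qadd qone qone, qadd qone qone⟩) + lsmul d (vec ⟨qzero, qsmul (-1) qH, qsmul (-1) qH⟩) := by
  obtain ⟨hI, ⟨p, hp, ep⟩, ⟨q, hq, eq⟩, ⟨s, hs, es⟩⟩ := hv
  refine ⟨s, q, p * icoH - v 0, p, hs, hq, sub_mem (mul_mem hp icoH_mem) (hI 0), hp, ?_⟩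
  have hneg : emb (qsmul (-1) qH) = -icoH := by rw [emb_smul, emb_qH]; simp
  have e0 : v 0 = s * star icoH + q * icoH + (p * icoH - v 0) * 2 := by
    rw [← ep, ← eq, ← es]; noncomm_ring
  funext t
  fin_cases t
  · simpa [lsmul, vec, emb_qHb, emb_qH, emb_two, emb_zero] using e0
  · simp only [lsmul, vec, emb_qHb, emb_qH, emb_two, emb_zero, hneg, Pi.add_apply]
    simp
    rw [← e0, ← ep]; abel
  · simp only [lsmul, vec, emb_qHb, emb_qH, emb_two, emb_zero, hneg, Pi.add_apply]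
    simp
    have e2 : v 2 = s * star icoH + (p * icoH - v 0) * 2 - p * icoH := by
      rw [← ep, ← es]; noncomm_ring
    rw [e2]; abel

/-- a left-linear map preserves the lattice once it does so on the four generators -/
theorem lmap_mem {M : Fin 3 → Fin 3 → ℍ[ℝ]} (h : ∀ w ∈ wgen, lmap M (vec w) ∈ icoLeech) {v : Fin 3 → ℍ[ℝ]}
    (hv : v ∈ icoLeech) : lmap M v ∈ icoLeech := by
  obtain ⟨a, b, c, d, ha, hb, hc, hd, rfl⟩ := lam_decomp hv
  simp only [lmap_add, lmap_smul]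
  exact lam_add (lam_add (lam_add (lam_smul ha (h _ (by simp [wgen]))) (lam_smul hb (h _ (by simp [wgen]))))
    (lam_smul hc (h _ (by simp [wgen])))) (lam_smul hd (h _ (by simp [wgen])))

/-- matrix of a reflection -/
def reflMat (r : Fin 3 → ℍ[ℝ]) (t c : Fin 3) : ℍ[ℝ] := (if t = c then 1 else 0) - (1 / 2 : ℝ) • (star (r t) * r c)

theorem qrefl_eq (r x : Fin 3 → ℍ[ℝ]) : qrefl r x = lmap (reflMat r) x := by
  funext c
  simp only [qrefl, lmap, reflMat, qip, mul_sub, Finset.sum_sub_distrib, mul_ite, mul_one, mul_zero,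
    Finset.sum_ite_eq', Finset.mem_univ, if_true, Finset.smul_sum, Finset.sum_mul, mul_smul_comm, smul_mul_assoc,
    mul_assoc]

theorem qip_lsmul (a : ℍ[ℝ]) (x r : Fin 3 → ℍ[ℝ]) : qip (lsmul a x) r = a * qip x r := by
  simp [qip, lsmul, Finset.mul_sum, mul_assoc]

theorem qip_sub (u v r : Fin 3 → ℍ[ℝ]) : qip (u - v) r = qip u r - qip v r := by
  simp [qip, sub_mul, Finset.sum_sub_distrib]

theorem qip_star (u v : Fin 3 → ℍ[ℝ]) : star (qip u v) = qip v u := by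
  simp [qip, star_sum]

theorem qrefl_sub (r x : Fin 3 → ℍ[ℝ]) : qrefl r x = x - lsmul ((1 / 2 : ℝ) • qip x r) r := rfl

theorem qrefl_qrefl {r : Fin 3 → ℍ[ℝ]} (hr : qip r r = 4) (x : Fin 3 → ℍ[ℝ]) : qrefl r (qrefl r x) = x := by
  have h : qip (qrefl r x) r = - qip x r := by
    rw [qrefl_sub, qip_sub, qip_lsmul, hr, smul_mul_assoc, show (4 : ℍ[ℝ]) = (((4 : ℝ)) : ℍ[ℝ]) by norm_cast,
      Quaternion.mul_coe_eq_smul, smul_smul]
    rw [show (1 / 2 : ℝ) * 4 = 2 by norm_num, two_smul]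
    abel
  rw [qrefl_sub r (qrefl r x), h, qrefl_sub]
  funext t
  simp [lsmul, smul_neg, neg_mul]

theorem qip_qrefl {r : Fin 3 → ℍ[ℝ]} (hr : qip r r = 4) (x y : Fin 3 → ℍ[ℝ]) :
    qip (qrefl r x) (qrefl r y) = qip x y := by
  set a := qip x r with ha
  set b := qip y r with hb
  have e1 : qip (qrefl r x) (qrefl r y) = qip x (qrefl r y) - ((1 / 2 : ℝ) • a) * qip r (qrefl r y) := by
    rw [qrefl_sub r x, qip_sub, qip_lsmul]
  have e2 : qip x (qrefl r y) = qip x y - (1 / 2 : ℝ) • (a * star b) := by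
    rw [← qip_star (qrefl r y) x, qrefl_sub r y, qip_sub, qip_lsmul, star_sub, qip_star, ← hb, star_mul, qip_star, ← ha,
      Quaternion.star_smul, mul_smul_comm]
  have e3 : qip r (qrefl r y) = - star b := by
    rw [← qip_star (qrefl r y) r, qrefl_sub r y, qip_sub, qip_lsmul, hr, ← hb, smul_mul_assoc,
      show (4 : ℍ[ℝ]) = (((4 : ℝ)) : ℍ[ℝ]) by norm_cast, Quaternion.mul_coe_eq_smul, smul_smul,
      show (1 / 2 : ℝ) * 4 = 2 by norm_num, two_smul]
    simp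
  rw [e1, e2, e3, smul_mul_assoc, mul_neg, smul_neg]
  abel

end Cfsg.Agent.J2Cert

end
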