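import Mathlib
import Cfsg.Agent.Lib.Spor.J2.Lattice
import Cfsg.Agent.Lib.Spor.J2.CheckVec
import Cfsg.Agent.Lib.Spor.J2.CheckUnit

/-! Classification of the minimal vectors of the icosian Leech lattice. -/

set_option autoImplicit false

noncomputable section

namespace Cfsg.Agent.J2Cert

open Quaternion Cfsg.Spor

theorem all_range {n : ℕ} {f : ℕ → Bool} (h : (List.range n).all f = true) {i : ℕ} (hi : i < n) : f i = true :=
  List.all_eq_true.1 h i (List.mem_range.2 hi)

/-- the `i`-th unit -/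
def uq (i : ℕ) : ℍ[ℝ] := emb (units.getD i qzero)

theorem smul4_cancel {x y : ℍ[ℝ]} (h : (4 : ℝ) • x = (4 : ℝ) • y) : x = y :=
  smul_right_injective ℍ[ℝ] (by norm_num : (4 : ℝ) ≠ 0) h

theorem uq_mem {i : ℕ} (hi : i < 120) : uq i ∈ icosians := by
  have h := all_range unit_chk hi
  simp only [Bool.and_eq_true] at h
  rw [uq, ← qeq_eq h.1.1.1]
  exact inI_coords _

theorem star_uq_mul {i : ℕ} (hi : i < 120) : star (uq i) * uq i = 1 := by
  have h := all_range unit_chk hi
  simp only [Bool.and_eq_true] at h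
  have h' := congrArg emb (qeq_eq h.1.1.2)
  rw [emb_raw, emb_smul, emb_star, emb_one] at h'
  exact smul4_cancel (by simpa [uq] using h')

theorem uq_mul_star {i : ℕ} (hi : i < 120) : uq i * star (uq i) = 1 := by
  have h := all_range unit_chk hi
  simp only [Bool.and_eq_true] at h
  have h' := congrArg emb (qeq_eq h.1.2)
  rw [emb_raw, emb_smul, emb_star, emb_one] at h'
  exact smul4_cancel (by simpa [uq] using h')

theorem star_uq {i : ℕ} (hi : i < 120) : ∃ j < 120, star (uq i) = uq j := by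
  have h := all_range unit_chk hi
  simp only [Bool.and_eq_true, List.any_eq_true, List.mem_range] at h
  obtain ⟨j, hj, e⟩ := h.2
  exact ⟨j, hj, by rw [uq, ← emb_star, qeq_eq e, uq]⟩

/-- a linear functional -/
theorem dotq_add (c u v : Q8) : dotq c (qadd u v) = dotq c u + dotq c v := by
  simp only [dotq, qadd]; ring

theorem dotq_smul (c : Q8) (n : ℤ) (v : Q8) : dotq c (qsmul n v) = n * dotq c v := by
  simp only [dotq, qsmul]; ring

theorem dotq_sub (c u v : Q8) : dotq c (qsub u v) = dotq c u - dotq c v := by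
  simp only [dotq, qsub]; ring

theorem dvd_dotq_lin {c : Q8} {m : ℤ} : ∀ (ns : List ℤ) (xs : List Q8), (∀ x ∈ xs, m ∣ dotq c x) → m ∣ dotq c (lin ns xs)
  | [], _, _ => by simp [lin, dotq, qzero]
  | _ :: _, [], _ => by simp [lin, dotq, qzero]
  | n :: ns, x :: xs, h => by
    rw [lin, dotq_add, dotq_smul]
    exact dvd_add (dvd_mul_of_dvd_right (h x (by simp)) n) (dvd_dotq_lin ns xs fun y hy => h y (by simp [hy]))

/-- products of the basis with `h` -/
def basH : List Q8 := bas.map fun b => qmul b qH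

/-- products of the basis with the conjugate of `h` -/
def basHb : List Q8 := bas.map fun b => qmul b qHb

theorem cong_chk : (bas.all fun b => mulOK b qH && mulOK b qHb && (colB.all fun c => decide (dotq c b % 4 = 0)) &&
    (colH.all fun c => decide (dotq c (qmul b qH) % 8 = 0)) &&
    (colHb.all fun c => decide (dotq c (qmul b qHb) % 8 = 0))) = true := by decide +kernel

theorem colB_len : colB.length = 6 := by decide +kernel

theorem lin_mul {w : Q8} : ∀ (ns : List ℤ) (xs : List Q8), (∀ x ∈ xs, mulOK x w = true) →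
    emb (lin ns xs) * emb w = emb (lin ns (xs.map fun x => qmul x w))
  | [], _, _ => by simp [lin, emb_zero]
  | _ :: _, [], _ => by simp [lin, emb_zero]
  | n :: ns, x :: xs, h => by
    rw [lin, List.map_cons, lin, emb_add, emb_add, emb_smul, emb_smul, emb_mul (h x (by simp)), add_mul, smul_mul_assoc,
      lin_mul ns xs fun y hy => h y (by simp [hy])]

theorem memB_of_mem {v : Q8} (hv : InI v) {j : ℕ} (hj : j < 6) : memB j v = true := by
  obtain ⟨ns, -, e⟩ := mem_icosians.1 hv
  rw [emb_inj e, memB, decide_eq_true_eq]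
  refine Int.emod_eq_zero_of_dvd (dvd_dotq_lin ns bas fun x hx => ?_)
  have h := List.all_eq_true.1 cong_chk x hx
  simp only [Bool.and_eq_true, List.all_eq_true, decide_eq_true_eq] at h
  refine Int.dvd_of_emod_eq_zero (h.1.1.2 _ ?_)
  have hl : j < colB.length := by rw [colB_len]; exact hj
  rw [List.getD_eq_getElem _ _ hl]
  exact List.getElem_mem hl

theorem clsH_eq {u v : Q8} (h : emb u - emb v ∈ leftIdeal icoH) : clsH u = clsH v := by
  obtain ⟨p, hp, e⟩ := h
  obtain ⟨ns, -, rfl⟩ := mem_icosians.1 hp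
  have hall := List.all_eq_true.1 cong_chk
  rw [← emb_qH, lin_mul ns bas (fun x hx => by
    have := hall x hx
    simp only [Bool.and_eq_true] at this
    exact this.1.1.1.1), ← emb_sub] at e
  have e' := emb_inj e
  simp only [clsH]
  refine congrArg packCls (List.map_congr_left fun c hc => ?_)
  have hd : (8 : ℤ) ∣ dotq c (qsub u v) := by
    rw [e']
    refine dvd_dotq_lin ns _ fun x hx => ?_
    obtain ⟨b, hb, rfl⟩ := List.mem_map.1 hx
    have h := hall b hb
    simp only [Bool.and_eq_true, List.all_eq_true, decide_eq_true_eq] at h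
    exact Int.dvd_of_emod_eq_zero (h.1.2 c hc)
  rw [dotq_sub] at hd
  exact congrArg Int.toNat (Int.emod_eq_emod_iff_emod_sub_eq_zero.2 (Int.emod_eq_zero_of_dvd hd))

theorem clsHb_zero {u : Q8} (h : emb u ∈ leftIdeal (star icoH)) : clsHbZero u = true := by
  obtain ⟨p, hp, e⟩ := h
  obtain ⟨ns, -, rfl⟩ := mem_icosians.1 hp
  have hall := List.all_eq_true.1 cong_chk
  rw [← emb_qHb, lin_mul ns bas (fun x hx => by
    have := hall x hx
    simp only [Bool.and_eq_true] at this
    exact this.1.1.1.2)] at e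
  rw [emb_inj e]
  simp only [clsHbZero, List.all_eq_true, decide_eq_true_eq]
  intro c hc
  refine Int.emod_eq_zero_of_dvd (dvd_dotq_lin ns _ fun x hx => ?_)
  obtain ⟨b, hb, rfl⟩ := List.mem_map.1 hx
  have h := hall b hb
  simp only [Bool.and_eq_true, List.all_eq_true, decide_eq_true_eq] at h
  exact Int.dvd_of_emod_eq_zero (h.2 c hc)

/-- both conjugates of the norm are nonnegative -/
def Cone (n : ℤ × ℤ) : Prop := 0 ≤ n.1 ∧ 5 * (n.2 * n.2) ≤ n.1 * n.1

theorem cone_sqp (p : ℤ × ℤ) : Cone (sqp p) := by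
  constructor
  · simp only [sqp]; nlinarith [mul_self_nonneg p.1, mul_self_nonneg p.2]
  · simp only [sqp]; nlinarith [mul_self_nonneg (p.1 * p.1 - 5 * (p.2 * p.2))]

theorem cone_add {p q : ℤ × ℤ} (hp : Cone p) (hq : Cone q) : Cone (nadd p q) := by
  refine ⟨add_nonneg hp.1 hq.1, ?_⟩
  have hpq : 5 * (p.2 * q.2) ≤ p.1 * q.1 := by
    by_contra hc
    push Not at hc
    have h0 : 0 ≤ p.1 * q.1 := mul_nonneg hp.1 hq.1
    have h1 : (5 * (p.2 * p.2)) * (5 * (q.2 * q.2)) ≤ (p.1 * p.1) * (q.1 * q.1) :=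
      mul_le_mul hp.2 hq.2 (by nlinarith [mul_self_nonneg q.2]) (mul_self_nonneg _)
    have h2 : (p.1 * q.1) * (p.1 * q.1) < (5 * (p.2 * q.2)) * (5 * (p.2 * q.2)) := by nlinarith
    nlinarith
  simp only [nadd]
  nlinarith [hp.2, hq.2]

theorem cone_nrm (v : Q8) : Cone (nrm v) :=
  cone_add (cone_add (cone_add (cone_sqp _) (cone_sqp _)) (cone_sqp _)) (cone_sqp _)

theorem okB_iff {n : ℤ × ℤ} : okB n = true ↔ Cone (64 - n.1, -n.2) := by
  simp only [okB, Cone, Bool.and_eq_true, decide_eq_true_eq, sub_nonneg, neg_mul_neg]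

theorem okB_mono {n r : ℤ × ℤ} (hr : Cone r) (h : okB (nadd n r) = true) : okB n = true := by
  rw [okB_iff] at h ⊢
  have := cone_add h hr
  simp only [nadd] at this
  convert this using 2 <;> ring

theorem pair_mem (p : ℤ × ℤ) (h : okB (sqp p) = true) : p ∈ pairs := by
  have key : ∀ m ∈ Finset.Icc (-8 : ℤ) 8, ∀ n ∈ Finset.Icc (-4 : ℤ) 4, okB (sqp (m, n)) = true → (m, n) ∈ pairs := by
    decide +kernel
  obtain ⟨m, n⟩ := p
  have h1 : (sqp (m, n)).1 ≤ 64 := by
    simp only [okB, Bool.and_eq_true, decide_eq_true_eq] at h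
    exact h.1
  simp only [sqp] at h1
  refine key m (Finset.mem_Icc.2 ⟨?_, ?_⟩) n (Finset.mem_Icc.2 ⟨?_, ?_⟩) h <;> nlinarith

theorem listed_of_mem {v : Q8} (hv : InI v) (hn : okB (nrm v) = true) : listed v = true := by
  obtain ⟨a, b, c, d, e, f, g, h⟩ := v
  have h3 := okB_mono (cone_sqp (g, h)) (n := nadd (nadd (sqp (a, b)) (sqp (c, d))) (sqp (e, f))) hn
  have h2 := okB_mono (cone_sqp (e, f)) h3
  have h1 := okB_mono (cone_sqp (c, d)) h2
  have hp : ∀ p : ℤ × ℤ, ∀ n : ℤ × ℤ, Cone n → okB (nadd n (sqp p)) = true → p ∈ pairs := fun p n hc h => by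
    refine pair_mem p ?_
    refine okB_mono hc ?_
    rwa [show nadd (sqp p) n = nadd n (sqp p) from Prod.ext (add_comm _ _) (add_comm _ _)]
  have hm : ∀ j, j < 6 → memB j ⟨a, b, c, d, e, f, g, h⟩ = true := fun j hj => memB_of_mem hv hj
  have m0 : memB 0 ⟨a, b, c, d, 0, 0, 0, 0⟩ = true := by
    have := hm 0 (by norm_num); simpa [memB, colB, dotq] using this
  have m1 : memB 1 ⟨a, b, c, d, 0, 0, 0, 0⟩ = true := by
    have := hm 1 (by norm_num); simpa [memB, colB, dotq] using this
  have m2 : memB 2 ⟨a, b, c, d, e, f, 0, 0⟩ = true := by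
    have := hm 2 (by norm_num); simpa [memB, colB, dotq] using this
  have m3 : memB 3 ⟨a, b, c, d, e, f, 0, 0⟩ = true := by
    have := hm 3 (by norm_num); simpa [memB, colB, dotq] using this
  have hc := pair_chk (pair_mem _ h1)
  simp only [pairChk, List.all_eq_true, Bool.or_eq_true, Bool.not_eq_true'] at hc
  have hc2 := (hc (c, d) (hp _ _ (cone_sqp _) h2)).resolve_left (by simp [h2, m0, m1])
  have hc3 := (hc2 (e, f) (hp _ _ (cone_add (cone_sqp _) (cone_sqp _)) h3)).resolve_left (by simp [h3, m2, m3])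
  exact (hc3 (g, h) (hp _ _ (cone_add (cone_add (cone_sqp _) (cone_sqp _)) (cone_sqp _)) hn)).resolve_left
    (by simp [show okB (nadd (nadd (nadd (sqp (a, b)) (sqp (c, d))) (sqp (e, f))) (sqp (g, h))) = true from hn,
      hm 4 (by norm_num), hm 5 (by norm_num)])

theorem sq_bound {x : ℤ} (hx : x * x ≤ 64) : -8 ≤ x ∧ x ≤ 8 := by constructor <;> nlinarith

theorem okB_coord {a b c d e f g i : ℤ} (h : okB (nrm ⟨a, b, c, d, e, f, g, i⟩) = true) :
    a * a + 5 * (b * b) + (c * c + 5 * (d * d)) + (e * e + 5 * (f * f)) + (g * g + 5 * (i * i)) ≤ 64 := by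
  simp only [okB, nrm, nadd, sqp, Bool.and_eq_true] at h
  exact of_decide_eq_true h.1

theorem code8_lt {v : Q8} (h : okB (nrm v) = true) : code8 v < 1099511627776 := by
  obtain ⟨a, b, c, d, e, f, g, i⟩ := v
  have hh := okB_coord h
  have hs : ∀ x : ℤ, 0 ≤ x * x := mul_self_nonneg
  obtain ⟨a1, a2⟩ := sq_bound (x := a) (by linarith [hs b, hs c, hs d, hs e, hs f, hs g, hs i])
  obtain ⟨b1, b2⟩ := sq_bound (x := b) (by linarith [hs a, hs b, hs c, hs d, hs e, hs f, hs g, hs i])
  obtain ⟨c1, c2⟩ := sq_bound (x := c) (by linarith [hs a, hs b, hs d, hs e, hs f, hs g, hs i])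
  obtain ⟨d1, d2⟩ := sq_bound (x := d) (by linarith [hs a, hs b, hs c, hs d, hs e, hs f, hs g, hs i])
  obtain ⟨e1, e2⟩ := sq_bound (x := e) (by linarith [hs a, hs b, hs c, hs d, hs f, hs g, hs i])
  obtain ⟨f1, f2⟩ := sq_bound (x := f) (by linarith [hs a, hs b, hs c, hs d, hs e, hs f, hs g, hs i])
  obtain ⟨g1, g2⟩ := sq_bound (x := g) (by linarith [hs a, hs b, hs c, hs d, hs e, hs f, hs i])
  obtain ⟨i1, i2⟩ := sq_bound (x := i) (by linarith [hs a, hs b, hs c, hs d, hs e, hs f, hs g, hs i])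
  simp only [code8]
  omega

theorem dec_code {v : Q8} (h : okB (nrm v) = true) : dec8 (code8 v) = v := by
  obtain ⟨a, b, c, d, e, f, g, i⟩ := v
  have hh := okB_coord h
  have hs : ∀ x : ℤ, 0 ≤ x * x := mul_self_nonneg
  obtain ⟨a1, a2⟩ := sq_bound (x := a) (by linarith [hs b, hs c, hs d, hs e, hs f, hs g, hs i])
  obtain ⟨b1, b2⟩ := sq_bound (x := b) (by linarith [hs a, hs b, hs c, hs d, hs e, hs f, hs g, hs i])
  obtain ⟨c1, c2⟩ := sq_bound (x := c) (by linarith [hs a, hs b, hs d, hs e, hs f, hs g, hs i])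
  obtain ⟨d1, d2⟩ := sq_bound (x := d) (by linarith [hs a, hs b, hs c, hs d, hs e, hs f, hs g, hs i])
  obtain ⟨e1, e2⟩ := sq_bound (x := e) (by linarith [hs a, hs b, hs c, hs d, hs f, hs g, hs i])
  obtain ⟨f1, f2⟩ := sq_bound (x := f) (by linarith [hs a, hs b, hs c, hs d, hs e, hs f, hs g, hs i])
  obtain ⟨g1, g2⟩ := sq_bound (x := g) (by linarith [hs a, hs b, hs c, hs d, hs e, hs f, hs i])
  obtain ⟨i1, i2⟩ := sq_bound (x := i) (by linarith [hs a, hs b, hs c, hs d, hs e, hs f, hs g, hs i])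
  simp only [dec8, dig, code8, Q8.mk.injEq]
  norm_num only
  refine ⟨?_, ?_, ?_, ?_, ?_, ?_, ?_, ?_⟩ <;> omega

theorem bucket_mem {k c : ℕ} {p : ℕ × ℕ} (hp : p ∈ bucket k c) : entryChk p = true := by
  rw [bucket] at hp
  split at hp
  · rename_i q hq
    have hq' := List.mem_of_find?_eq_some hq
    have hk : k < buckets.length := by
      by_contra hk
      rw [List.getD_eq_default _ _ (not_lt.1 hk)] at hq'
      simp at hq'
    rw [List.getD_eq_getElem _ _ hk] at hq'
    exact List.all_eq_true.1 (List.all_eq_true.1 (List.all_eq_true.1 entry_chk _ (List.getElem_mem hk)) q hq') p hp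
  · simp at hp

/-- an integer vector is in the bucket of its norm and class -/
theorem mem_bucket {v : Q8} (hv : InI v) (hn : okB (nrm v) = true) : normIdx (nrm v) < 9 ∧
    ∃ p ∈ bucket (normIdx (nrm v)) (clsH v), p.1 = code8 v ∧ dec8 p.1 = v := by
  have h := listed_of_mem hv hn
  simp only [listed, Bool.and_eq_true, decide_eq_true_eq, List.any_eq_true] at h
  obtain ⟨h1, p, hp, e⟩ := h
  have e' := Nat.eq_of_beq_eq_true e
  exact ⟨h1, p, hp, e', by rw [e', dec_code hn]⟩

theorem elem_rep {v : Q8} (hv : InI v) (hn : okB (nrm v) = true) (h0 : v ≠ qzero) :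
    ∃ i < 120, ∃ j < 51, emb v = uq i * emb (reps.getD j qzero) := by
  obtain ⟨-, p, hp, -, hd⟩ := mem_bucket hv hn
  have h := bucket_mem hp
  rw [entryChk] at h
  split at h
  · exact absurd (hd.symm.trans (qeq_eq h)) h0
  · simp only [Bool.and_eq_true, decide_eq_true_eq] at h
    refine ⟨_, h.1.1, _, h.1.2, ?_⟩
    have h' := congrArg emb (qeq_eq h.2)
    rw [emb_smul, emb_raw, hd] at h'
    exact smul4_cancel (by simpa [uq] using h')

theorem nrm_qip (t : T3) (h : qip (vec t) (vec t) = 4) : nadd (nadd (nrm t.x) (nrm t.y)) (nrm t.z) = (64, 0) := by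
  have h' := emb_qipRaw t t
  rw [h, show (4 : ℝ) • (4 : ℍ[ℝ]) = emb ⟨64, 0, 0, 0, 0, 0, 0, 0⟩ by
    rw [show (4 : ℍ[ℝ]) = (((4 : ℝ)) : ℍ[ℝ]) by norm_cast]
    ext <;> simp [emb_re, emb_imI, emb_imJ, emb_imK] <;> norm_num] at h'
  have e := emb_inj h'
  have ea := congrArg Q8.a e
  have eb := congrArg Q8.b e
  simp only [qipRaw, qadd, qraw, qstar] at ea eb
  simp only [nrm, nadd, sqp]
  exact Prod.ext (by show _ = (64 : ℤ); linear_combination ea) (by show _ = (0 : ℤ); linear_combination eb)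

/-- the `i`-th line vector -/
def lineT (i : ℕ) : T3 :=
  ⟨(lineList.getD i (qzero, qzero, qzero)).1, (lineList.getD i (qzero, qzero, qzero)).2.1,
    (lineList.getD i (qzero, qzero, qzero)).2.2⟩

theorem line_chk : ((List.range 315).all fun i => okB (nrm (lineT i).y) && okB (nrm (lineT i).z)) = true := by
  decide +kernel

theorem line_ok {i : ℕ} (hi : i < 315) : okB (nrm (lineT i).y) = true ∧ okB (nrm (lineT i).z) = true := by
  have h := all_range line_chk hi
  simpa using h

theorem line_of_normal {t : T3} (hI : InI t.x ∧ InI t.y ∧ InI t.z) (hL : vec t ∈ icoLeech)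
    (h4 : qip (vec t) (vec t) = 4) (j : ℕ) (hj : j < 52) (hx : t.x = (qzero :: reps).getD j qzero)
    (hy : j = 0 → t.y ≠ qzero → t.y ∈ reps) (hz : j = 0 → t.y = qzero → t.z ≠ qzero → t.z ∈ reps) :
    ∃ i < 315, t = lineT i := by
  obtain ⟨x, y, z⟩ := t
  simp only at hI hx hy hz
  have hN := nrm_qip _ h4
  have okall : ∀ a b c : ℤ × ℤ, Cone b → Cone c → nadd (nadd a b) c = (64, 0) → okB a = true := by
    intro a b c hb hc e
    refine okB_mono (cone_add hb hc) ?_
    rw [show nadd a (nadd b c) = nadd (nadd a b) c from Prod.ext (add_assoc _ _ _).symm (add_assoc _ _ _).symm, e]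
    decide +kernel
  have oy : okB (nrm y) = true := okall _ _ _ (cone_nrm x) (cone_nrm z)
    (Eq.trans (Prod.ext (by simp [nadd]; ring) (by simp [nadd]; ring)) hN)
  have oz : okB (nrm z) = true := okall _ _ _ (cone_nrm x) (cone_nrm y)
    (Eq.trans (Prod.ext (by simp [nadd]; ring) (by simp [nadd]; ring)) hN)
  obtain ⟨ky, py, hpy, cy, dy⟩ := mem_bucket hI.2.1 oy
  obtain ⟨kz, pz, hpz, cz, dz⟩ := mem_bucket hI.2.2 oz
  have c1 : clsH x = clsH y := clsH_eq (by simpa [vec] using hL.2.1)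
  have c2 : clsH y = clsH z := clsH_eq (by simpa [vec] using hL.2.2.1)
  have cs : clsHbZero (qadd (qadd x y) z) = true := clsHb_zero (by
    rw [emb_add, emb_add]; simpa [vec] using hL.2.2.2)
  have hF := all_range first_chk hj
  simp only [firstChk, List.all_eq_true, List.mem_range, Bool.or_eq_true, decide_eq_true_eq, Bool.not_eq_true',
    Bool.and_eq_true, ← hx] at hF
  have hidx : norms.getD (normIdx (nrm y)) (0, 0) = nrm y := by
    have hl : List.findIdx (fun p => decide (p.1 = (nrm y).1) && decide (p.2 = (nrm y).2)) norms < norms.length := by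
      rw [sizes.2.2.2.2]; exact ky
    have := List.findIdx_getElem (w := hl)
    simp only [Bool.and_eq_true, decide_eq_true_eq] at this
    rw [normIdx, List.getD_eq_getElem _ _ hl]
    exact Prod.ext this.1 this.2
  have hk3 : normIdx (64 - (nadd (nrm x) (norms.getD (normIdx (nrm y)) (0, 0))).1,
      - (nadd (nrm x) (norms.getD (normIdx (nrm y)) (0, 0))).2) = normIdx (nrm z) := by
    rw [hidx]
    refine congrArg normIdx (Prod.ext ?_ ?_)
    · have := congrArg Prod.fst hN; simp only [nadd] at this ⊢; linarith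
    · have := congrArg Prod.snd hN; simp only [nadd] at this ⊢; linarith
  have h := (hF _ ky).resolve_left (by rw [hk3]; omega) py (c1 ▸ hpy) pz (hk3.symm ▸ (c1.trans c2) ▸ hpz)
  rw [dy, dz, cy, cz] at h
  have hrep : ∀ v : Q8, v ∈ reps → repCode (code8 v) = true := fun v hv =>
    List.any_eq_true.2 ⟨v, hv, Nat.beq_refl _⟩
  have hcz : ∀ v : Q8, okB (nrm v) = true → Nat.beq (code8 v) (code8 qzero) = true → v = qzero := fun v hv e => by
    rw [← dec_code hv, Nat.eq_of_beq_eq_true e, dec_code (by decide +kernel)]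
  rcases h with ((h | h) | h) | h
  · obtain ⟨⟨e0, e1⟩, e2⟩ := h
    by_cases hy0 : y = qzero
    · rw [hy0, Nat.beq_refl] at e1; exact Bool.noConfusion e1
    · rw [hrep y (hy e0 hy0)] at e2; exact Bool.noConfusion e2
  · obtain ⟨⟨⟨e0, e1⟩, e2⟩, e3⟩ := h
    have hy0 := hcz y oy e1
    by_cases hz0 : z = qzero
    · rw [hz0, Nat.beq_refl] at e2; exact Bool.noConfusion e2
    · rw [hrep z (hz e0 hy0 hz0)] at e3; exact Bool.noConfusion e3
  · rw [cs] at h; exact Bool.noConfusion h
  · simp only [lineHit, List.any_eq_true] at h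
    obtain ⟨l, hl, el⟩ := h
    have hc := all_range lineCode_chk hj
    simp only [lineCodeChk, List.all_eq_true, Bool.and_eq_true, decide_eq_true_eq] at hc
    obtain ⟨⟨h315, ex⟩, ec⟩ := hc l hl
    have ec' := (Nat.eq_of_beq_eq_true el).symm.trans (Nat.eq_of_beq_eq_true ec)
    have hb : ∀ v : Q8, okB (nrm v) = true → code8 v < 1099511627776 := fun v hv => code8_lt hv
    have hline := line_ok h315
    refine ⟨l.2, h315, ?_⟩
    obtain ⟨ey, ez⟩ : code8 y = code8 (lineT l.2).y ∧ code8 z = code8 (lineT l.2).z := by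
      have := hb y oy; have := hb _ hline.1
      simp only [lineT] at *
      constructor <;> omega
    have ey' : y = (lineT l.2).y := by rw [← dec_code oy, ey, dec_code hline.1]
    have ez' : z = (lineT l.2).z := by rw [← dec_code oz, ez, dec_code hline.2]
    have ex' : x = (lineT l.2).x := by rw [hx, ← qeq_eq ex]; rfl
    rw [ex', ey', ez']

/-- Every minimal vector is a unit multiple of one of the listed vectors. -/
theorem min_classify {r : Fin 3 → ℍ[ℝ]} (hr : r ∈ icoLeech) (h4 : qip r r = 4) :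
    ∃ u < 120, ∃ i < 315, r = lsmul (uq u) (vec (lineT i)) := by
  have hex : ∀ t, ∃ x : Q8, r t = emb x := fun t => by
    obtain ⟨ns, -, e⟩ := mem_icosians.1 (hr.1 t); exact ⟨_, e⟩
  obtain ⟨x, ex⟩ := hex 0
  obtain ⟨y, ey⟩ := hex 1
  obtain ⟨z, ez⟩ := hex 2
  have er : r = vec ⟨x, y, z⟩ := funext fun t => by fin_cases t <;> simp [vec, ex, ey, ez]
  have hI : ∀ t, r t ∈ icosians := hr.1
  have hN := nrm_qip ⟨x, y, z⟩ (er ▸ h4)
  simp only at hN
  have okall : ∀ a b c : ℤ × ℤ, Cone b → Cone c → nadd (nadd a b) c = (64, 0) → okB a = true := by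
    intro a b c hb hc e
    refine okB_mono (cone_add hb hc) ?_
    rw [show nadd a (nadd b c) = nadd (nadd a b) c from Prod.ext (add_assoc _ _ _).symm (add_assoc _ _ _).symm, e]
    decide +kernel
  have ox := okall _ _ _ (cone_nrm y) (cone_nrm z) hN
  have oy : okB (nrm y) = true := okall _ _ _ (cone_nrm x) (cone_nrm z)
    (Eq.trans (Prod.ext (by simp [nadd]; ring) (by simp [nadd]; ring)) hN)
  have oz : okB (nrm z) = true := okall _ _ _ (cone_nrm x) (cone_nrm y)
    (Eq.trans (Prod.ext (by simp [nadd]; ring) (by simp [nadd]; ring)) hN)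
  -- normalise by a unit
  have main : ∀ u, u < 120 → ∀ j, j < 52 → ∀ t : T3, vec t = lsmul (star (uq u)) r →
      t.x = (qzero :: reps).getD j qzero → (j = 0 → t.y ≠ qzero → t.y ∈ reps) →
      (j = 0 → t.y = qzero → t.z ≠ qzero → t.z ∈ reps) → ∃ i < 315, r = lsmul (uq u) (vec (lineT i)) := by
    intro u hu j hj t et h1 h2 h3
    obtain ⟨u', hu', es⟩ := star_uq hu
    have hL : vec t ∈ icoLeech := et ▸ lam_smul (es ▸ uq_mem hu') hr
    have hq : qip (vec t) (vec t) = 4 := by
      rw [et, qip_lsmul, ← qip_star, qip_lsmul, h4, star_mul, star_star, ← mul_assoc]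
      rw [show star (uq u) * star (4 : ℍ[ℝ]) = 4 * star (uq u) by
        rw [show (4 : ℍ[ℝ]) = (((4 : ℝ)) : ℍ[ℝ]) by norm_cast, Quaternion.star_coe, Quaternion.coe_mul_eq_smul,
          Quaternion.mul_coe_eq_smul], mul_assoc, star_uq_mul hu, mul_one]
    obtain ⟨i, hi, rfl⟩ := line_of_normal ⟨by simpa [vec, InI] using hL.1 0, by simpa [vec, InI] using hL.1 1,
      by simpa [vec, InI] using hL.1 2⟩ hL hq j hj h1 h2 h3
    refine ⟨i, hi, ?_⟩
    rw [et]
    funext c
    simp [lsmul, ← mul_assoc, uq_mul_star hu]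
  have key : ∀ v : Q8, ∀ u j, u < 120 → emb v = uq u * emb (reps.getD j qzero) →
      emb (reps.getD j qzero) = star (uq u) * emb v := fun v u j hu e => by
    rw [e, ← mul_assoc, star_uq_mul hu, one_mul]
  have hmemI : ∀ u, u < 120 → ∀ v : Q8, InI v → ∃ w : Q8, emb w = star (uq u) * emb v := fun u hu v hv => by
    obtain ⟨u', hu', es⟩ := star_uq hu
    obtain ⟨ns, -, e⟩ := mem_icosians.1 (mul_mem (uq_mem hu') hv)
    exact ⟨_, e.symm.trans (by rw [es])⟩
  have hrepget : ∀ j, j < 51 → reps.getD j qzero ∈ reps := fun j hj => by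
    rw [List.getD_eq_getElem _ _ (by rw [sizes.2.1]; exact hj)]; exact List.getElem_mem _
  by_cases x0 : x = qzero
  · by_cases y0 : y = qzero
    · have z0 : z ≠ qzero := fun z0 => by
        rw [x0, y0, z0] at hN; revert hN; decide +kernel
      obtain ⟨u, hu, j, hj, e⟩ := elem_rep (by rw [InI, ← ez]; exact hI 2) oz z0
      obtain ⟨i, hi, h⟩ := main u hu 0 (by norm_num) ⟨qzero, qzero, reps.getD j qzero⟩ (funext fun c => by
        fin_cases c <;> simp [vec, lsmul, ex, ey, ez, x0, y0, emb_zero, key z u j hu e, -List.getD_eq_getElem?_getD]) rfl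
        (fun _ h => absurd rfl h) (fun _ _ _ => hrepget j hj)
      exact ⟨u, hu, i, hi, h⟩
    · obtain ⟨u, hu, j, hj, e⟩ := elem_rep (by rw [InI, ← ey]; exact hI 1) oy y0
      obtain ⟨w, ew⟩ := hmemI u hu z (by rw [InI, ← ez]; exact hI 2)
      obtain ⟨i, hi, h⟩ := main u hu 0 (by norm_num) ⟨qzero, reps.getD j qzero, w⟩ (funext fun c => by
        fin_cases c <;> simp [vec, lsmul, ex, ey, ez, x0, emb_zero, key y u j hu e, ew, -List.getD_eq_getElem?_getD]) rfl
        (fun _ _ => hrepget j hj) (fun _ h => absurd (show y = qzero from emb_inj (by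
          rw [e, show reps.getD j qzero = qzero from h, emb_zero, mul_zero])) y0)
      exact ⟨u, hu, i, hi, h⟩
  · obtain ⟨u, hu, j, hj, e⟩ := elem_rep (by rw [InI, ← ex]; exact hI 0) ox x0
    obtain ⟨v, ev⟩ := hmemI u hu y (by rw [InI, ← ey]; exact hI 1)
    obtain ⟨w, ew⟩ := hmemI u hu z (by rw [InI, ← ez]; exact hI 2)
    obtain ⟨i, hi, h⟩ := main u hu (j + 1) (by omega) ⟨reps.getD j qzero, v, w⟩ (funext fun c => by
      fin_cases c <;> simp [vec, lsmul, ex, ey, ez, key x u j hu e, ev, ew, -List.getD_eq_getElem?_getD]) (List.getD_cons_succ ..).symm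
      (fun h => by omega) (fun h => by omega)
    exact ⟨u, hu, i, hi, h⟩

end Cfsg.Agent.J2Cert

end
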