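import Mathlib
import Cfsg.Agent.Lib.Spor.J2.MinVec
import Cfsg.Agent.Lib.Spor.J2.CheckGeo

/-! The reflection group and its action on the 315 lines. -/

set_option autoImplicit false

noncomputable section

namespace Cfsg.Agent.J2Cert

open Quaternion Cfsg.Spor

theorem allLt_spec : ∀ {n : ℕ} {f : ℕ → Bool}, allLt n f = true → ∀ i < n, f i = true
  | 0, _, _, i, hi => absurd hi (Nat.not_lt_zero i)
  | n + 1, f, h, i, hi => by
    simp only [allLt, Bool.and_eq_true] at h
    rcases Nat.lt_succ_iff_lt_or_eq.1 hi with hlt | rfl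
    · exact allLt_spec h.2 i hlt
    · exact h.1

/-- the vector of a line -/
def lv (i : ℕ) : Fin 3 → ℍ[ℝ] := vec (lineT i)

theorem lsmul_lsmul (a b : ℍ[ℝ]) (v : Fin 3 → ℍ[ℝ]) : lsmul a (lsmul b v) = lsmul (a * b) v := by
  funext t; simp [lsmul, mul_assoc]

theorem lsmul_one (v : Fin 3 → ℍ[ℝ]) : lsmul 1 v = v := by
  funext t; simp [lsmul]

theorem uq_zero : uq 0 = 1 := by
  have h := frame_axes
  simp only [Bool.and_eq_true] at h
  rw [uq, qeq_eq h.1.2, emb_one]

theorem uq_one : uq 1 = -1 := by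
  have h := frame_axes
  simp only [Bool.and_eq_true] at h
  rw [uq, qeq_eq h.2, emb_smul, emb_one]
  simp

theorem unit_classify {w : ℍ[ℝ]} (hw : w ∈ icosians) (h : star w * w = 1) : ∃ u < 120, w = uq u := by
  obtain ⟨ns, -, rfl⟩ := mem_icosians.1 hw
  have hraw : qraw (qstar (lin ns bas)) (lin ns bas) = qsmul 4 qone := emb_inj (by
    rw [emb_raw, emb_smul, emb_star, emb_one, h]; simp)
  have ea := congrArg Q8.a hraw
  have eb := congrArg Q8.b hraw
  have hn : nrm (lin ns bas) = (16, 0) := by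
    generalize lin ns bas = v at ea eb
    simp only [qraw, qstar, qsmul, qone] at ea eb
    simp only [nrm, nadd, sqp]
    exact Prod.ext (by show _ = (16 : ℤ); linear_combination ea) (by show _ = (0 : ℤ); linear_combination eb)
  have h0 : lin ns bas ≠ qzero := fun e => by
    rw [e] at hn; revert hn; decide +kernel
  obtain ⟨u, hu, j, hj, e⟩ := elem_rep (inI_coords ns) (by rw [hn]; decide +kernel) h0
  refine ⟨u, hu, ?_⟩
  have hsr : star (emb (reps.getD j qzero)) * emb (reps.getD j qzero) = 1 := by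
    rw [e, star_mul, mul_assoc, ← mul_assoc (star (uq u)), star_uq_mul hu, one_mul] at h
    exact h
  have hraw' : qraw (qstar (reps.getD j qzero)) (reps.getD j qzero) = qsmul 4 qone := emb_inj (by
    rw [emb_raw, emb_smul, emb_star, emb_one, hsr]; simp)
  have key : ∀ j < 51, qeq (qraw (qstar (reps.getD j qzero)) (reps.getD j qzero)) (qsmul 4 qone) = true →
      qeq (reps.getD j qzero) qone = true := by decide +kernel
  rw [e, qeq_eq (key j hj (by rw [hraw']; decide +kernel)), emb_one, mul_one]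

theorem uq_mul {a b : ℕ} (ha : a < 120) (hb : b < 120) : ∃ u < 120, uq a * uq b = uq u :=
  unit_classify (mul_mem (uq_mem ha) (uq_mem hb)) (by
    rw [star_mul, mul_assoc, ← mul_assoc (star (uq a)), star_uq_mul ha, one_mul, star_uq_mul hb])

theorem line_coords_ok : ((List.range 315).all fun i => okB (nrm (lineT i).x)) = true := by decide +kernel

theorem rep_unique {u a b : ℕ} (hu : u < 120) (ha : a < 51) (hb : b < 51)
    (h : uq u * emb (reps.getD a qzero) = emb (reps.getD b qzero)) : u = 0 := by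
  have hc := allLt_spec (allLt_spec rep_chk2 a ha) u hu
  simp only [Bool.or_eq_true, Bool.not_eq_true'] at hc
  rcases hc with (e | e) | e
  · exact Nat.eq_of_beq_eq_true e
  · exfalso
    have hq : qraw (units.getD u qzero) (reps.getD a qzero) = qsmul 4 (reps.getD b qzero) := emb_inj (by
      rw [emb_raw, emb_smul, ← h, uq]; simp)
    have hmul : qmul (units.getD u qzero) (reps.getD a qzero) = reps.getD b qzero := by
      simp only [qmul, hq, qsmul, Int.mul_ediv_cancel_left _ (show (4 : ℤ) ≠ 0 by norm_num)]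
    rw [mulOK, hmul, hq] at e
    simp [qeq] at e
  · exfalso
    have hq : qraw (units.getD u qzero) (reps.getD a qzero) = qsmul 4 (reps.getD b qzero) := emb_inj (by
      rw [emb_raw, emb_smul, ← h, uq]; simp)
    have hmul : qmul (units.getD u qzero) (reps.getD a qzero) = reps.getD b qzero := by
      simp only [qmul, hq, qsmul, Int.mul_ediv_cancel_left _ (show (4 : ℤ) ≠ 0 by norm_num)]
    rw [hmul] at e
    have : repCode (code8 (reps.getD b qzero)) = true := List.any_eq_true.2
      ⟨reps.getD b qzero, by rw [List.getD_eq_getElem _ _ (by rw [sizes.2.1]; exact hb)]; exact List.getElem_mem _,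
        Nat.beq_refl _⟩
    rw [this] at e
    exact Bool.noConfusion e

theorem lineT_eq (i : ℕ) : lineT i = ⟨(line3 i).1, (line3 i).2.1, (line3 i).2.2⟩ := rfl

theorem lv_zero (i : ℕ) : lv i 0 = emb (line3 i).1 := rfl
theorem lv_one (i : ℕ) : lv i 1 = emb (line3 i).2.1 := rfl
theorem lv_two (i : ℕ) : lv i 2 = emb (line3 i).2.2 := rfl

/-- the first nonzero position of a line and its representative -/
theorem line_first {i : ℕ} (hi : i < 315) : ∃ t : Fin 3, ∃ a < 51, lv i t = emb (reps.getD a qzero) ∧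
    (∀ s : Fin 3, s < t → lv i s = 0) := by
  have h := allLt_spec line_normal i hi
  simp only [lineNormal, Bool.or_eq_true, Bool.and_eq_true, List.any_eq_true] at h
  have key : ∀ v : Q8, ∀ a ∈ reps, qeq v a = true → ∃ k < 51, emb v = emb (reps.getD k qzero) := fun v a ha e => by
    obtain ⟨k, hk, rfl⟩ := List.getElem_of_mem ha
    rw [sizes.2.1] at hk
    exact ⟨k, hk, by rw [qeq_eq e, List.getD_eq_getElem _ _ (by rw [sizes.2.1]; exact hk)]⟩
  have ez : ∀ v : Q8, qeq v qzero = true → emb v = 0 := fun v e => by rw [qeq_eq e, emb_zero]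
  rcases h with ⟨a, ha, e⟩ | ⟨h0, ⟨a, ha, e⟩ | ⟨h1, a, ha, e⟩⟩
  · obtain ⟨k, hk, e'⟩ := key _ a ha e
    exact ⟨0, k, hk, (lv_zero i).trans e', fun s hs => absurd hs (by omega)⟩
  · obtain ⟨k, hk, e'⟩ := key _ a ha e
    refine ⟨1, k, hk, (lv_one i).trans e', fun s hs => ?_⟩
    obtain rfl : s = 0 := by omega
    exact (lv_zero i).trans (ez _ h0)
  · obtain ⟨k, hk, e'⟩ := key _ a ha e
    refine ⟨2, k, hk, (lv_two i).trans e', fun s hs => ?_⟩
    obtain rfl | rfl : s = 0 ∨ s = 1 := by omega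
    · exact (lv_zero i).trans (ez _ h0)
    · exact (lv_one i).trans (ez _ h1)

theorem reps_ne : ∀ a < 51, qeq (reps.getD a qzero) qzero = false := by decide +kernel

theorem emb_rep_ne {a : ℕ} (ha : a < 51) : emb (reps.getD a qzero) ≠ 0 := fun e => by
  have := reps_ne a ha
  rw [emb_inj (e.trans emb_zero.symm)] at this
  exact Bool.noConfusion this

theorem line_unique {i j u : ℕ} (hi : i < 315) (hj : j < 315) (hu : u < 120)
    (h : lsmul (uq u) (lv i) = lv j) : i = j ∧ u = 0 := by
  obtain ⟨s, a, ha, ea, za⟩ := line_first hi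
  obtain ⟨t, b, hb, eb, zb⟩ := line_first hj
  have hst : s = t := by
    rcases lt_trichotomy s t with hlt | heq | hgt
    · exfalso
      have := congrFun h s
      simp only [lsmul, zb s hlt, ea] at this
      have := congrArg (fun z => star (uq u) * z) this
      simp only [← mul_assoc, star_uq_mul hu, one_mul, mul_zero] at this
      exact emb_rep_ne ha this
    · exact heq
    · exfalso
      have := congrFun h t
      simp only [lsmul, za t hgt, eb, mul_zero] at this
      exact emb_rep_ne hb this.symm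
  subst hst
  have hu0 : u = 0 := rep_unique hu ha hb (by rw [← ea, ← eb]; exact congrFun h s)
  subst hu0
  rw [uq_zero, lsmul_one] at h
  refine ⟨?_, rfl⟩
  have h' : lineT i = lineT j := vec_inj h
  rcases lt_trichotomy i j with hlt | heq | hgt
  · exfalso
    have := allLt_spec (allLt_spec line_diff j hj) i hlt
    rw [lineT_eq, lineT_eq, T3.mk.injEq] at h'
    simp [h'.1, h'.2.1, h'.2.2, qeq] at this
  · exact heq
  · exfalso
    have := allLt_spec (allLt_spec line_diff i hi) j hgt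
    rw [lineT_eq, lineT_eq, T3.mk.injEq] at h'
    simp [h'.1, h'.2.1, h'.2.2, qeq] at this

/-- the line of a reflection in an arbitrary line -/
theorem line_unique' {i j a b : ℕ} (hi : i < 315) (hj : j < 315) (ha : a < 120) (hb : b < 120)
    (h : lsmul (uq a) (lv i) = lsmul (uq b) (lv j)) : i = j ∧ a = b := by
  obtain ⟨b', hb', eb⟩ := star_uq hb
  obtain ⟨u, hu, eu⟩ := uq_mul hb' ha
  have h' := congrArg (lsmul (star (uq b))) h
  rw [lsmul_lsmul, lsmul_lsmul, star_uq_mul hb, lsmul_one, eb, eu] at h'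
  obtain ⟨hij, hu0⟩ := line_unique hi hj hu h'
  refine ⟨hij, ?_⟩
  subst hu0
  have hba : star (uq b) * uq a = 1 := by rw [eb, eu, uq_zero]
  have hab : uq a = uq b := by
    calc uq a = (uq b * star (uq b)) * uq a := by rw [uq_mul_star hb, one_mul]
      _ = uq b := by rw [mul_assoc, hba, mul_one]
  obtain ⟨t, k, hk, ek, -⟩ := line_first hi
  have key : ∀ a < 120, ∀ b < 120, qeq (units.getD a qzero) (units.getD b qzero) = true → a = b := by decide +kernel
  exact key a ha b hb (by rw [emb_inj (show emb (units.getD a qzero) = emb (units.getD b qzero) from hab)]; simp [qeq])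

/-- the lattice vector `2e_t` -/
def axv (t : Fin 3) : Fin 3 → ℍ[ℝ] := fun s => if s = t then 2 else 0

/-- axis lines -/
def axLine (t : Fin 3) : ℕ := frame.getD (2 - t.val) 0

theorem axLine_lt : ∀ t : Fin 3, axLine t < 315 := by decide +kernel

theorem lv_axLine (t : Fin 3) : lv (axLine t) = axv t := by
  have h := frame_axes
  simp only [Bool.and_eq_true] at h
  obtain ⟨⟨⟨⟨⟨⟨⟨⟨⟨⟨z2, z0⟩, z1⟩, y1⟩, y0⟩, y2⟩, x0⟩, x1⟩, x2⟩, -⟩, -⟩ := h
  funext s
  fin_cases t <;> fin_cases s <;>
    simp [axv, axLine, lv_zero, lv_one, lv_two, qeq_eq z2, qeq_eq z0, qeq_eq z1, qeq_eq y1, qeq_eq y0, qeq_eq y2,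
      qeq_eq x0, qeq_eq x1, qeq_eq x2, emb_two, emb_zero, -Fin.isValue, -List.getD_eq_getElem?_getD]

/-- left-linear isometries of the lattice -/
def Nice (g : Equiv.Perm icoLeech) : Prop :=
  ∃ M, (∀ x : icoLeech, ((g x : icoLeech) : Fin 3 → ℍ[ℝ]) = lmap M x) ∧
    ∀ x y : icoLeech, qip (g x : Fin 3 → ℍ[ℝ]) (g y : Fin 3 → ℍ[ℝ]) = qip (x : Fin 3 → ℍ[ℝ]) (y : Fin 3 → ℍ[ℝ])

theorem lmap_comp (M N : Fin 3 → Fin 3 → ℍ[ℝ]) (x : Fin 3 → ℍ[ℝ]) :
    lmap M (lmap N x) = lmap (fun t c => ∑ s, N t s * M s c) x := by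
  funext c
  simp only [lmap, Finset.sum_mul, Finset.mul_sum, mul_assoc]
  exact Finset.sum_comm

theorem nice_one : Nice 1 :=
  ⟨fun t c => if t = c then 1 else 0, fun x => by funext c; simp [lmap], fun _ _ => rfl⟩

theorem Nice.mul {g h : Equiv.Perm icoLeech} (hg : Nice g) (hh : Nice h) : Nice (g * h) := by
  obtain ⟨M, hM, qM⟩ := hg
  obtain ⟨N, hN, qN⟩ := hh
  refine ⟨fun t c => ∑ s, N t s * M s c, fun x => ?_, fun x y => (qM _ _).trans (qN _ _)⟩
  rw [Equiv.Perm.mul_apply, hM, hN, lmap_comp]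

theorem nice_refl {f : Equiv.Perm icoLeech} (hf : IsIcoReflection f) : Nice f := by
  obtain ⟨r, hr, h⟩ := hf
  exact ⟨reflMat r, fun x => (h x).trans (qrefl_eq _ _), fun x y => by rw [h, h, qip_qrefl hr]⟩

theorem refl_inv {f : Equiv.Perm icoLeech} (hf : IsIcoReflection f) : f⁻¹ = f := by
  obtain ⟨r, hr, h⟩ := hf
  refine inv_eq_of_mul_eq_one_right (Equiv.ext fun x => Subtype.ext ?_)
  rw [Equiv.Perm.mul_apply, h, h, qrefl_qrefl hr]
  rfl

theorem nice_mem {g : Equiv.Perm icoLeech} (hg : g ∈ twoJ2) : Nice g := by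
  rw [twoJ2] at hg
  induction hg using Subgroup.closure_induction_left with
  | one => exact nice_one
  | mul_left x hx y _ ih => exact (nice_refl hx).mul ih
  | inv_mul_cancel x hx y _ ih => rw [refl_inv hx]; exact (nice_refl hx).mul ih

theorem qip_lsmul_lsmul {a : ℍ[ℝ]} (ha : a * star a = 1) {r : Fin 3 → ℍ[ℝ]} (hr : qip r r = 4) :
    qip (lsmul a r) (lsmul a r) = 4 := by
  rw [qip_lsmul, ← qip_star, qip_lsmul, hr, star_mul, show (4 : ℍ[ℝ]) = (((4 : ℝ)) : ℍ[ℝ]) by norm_cast,
    Quaternion.star_coe, Quaternion.coe_mul_eq_smul, mul_smul_comm, ha]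
  ext <;> simp

theorem qrefl_lsmul {a : ℍ[ℝ]} (ha : star a * a = 1) (r x : Fin 3 → ℍ[ℝ]) : qrefl (lsmul a r) x = qrefl r x := by
  have e : qip x (lsmul a r) = qip x r * star a := by
    rw [← qip_star (lsmul a r) x, qip_lsmul, star_mul, qip_star]
  funext t
  simp only [qrefl, e, lsmul, smul_mul_assoc]
  rw [mul_assoc, ← mul_assoc (star a), ha, one_mul]

/-- sum of the squared norms of a line -/
theorem lv_qip : ((List.range 315).all fun i => qeq (ipRaw (line3 i) (line3 i)) (qsmul 4 (qsmul 4 qone))) = true := by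
  decide +kernel

theorem lv_norm {i : ℕ} (hi : i < 315) : qip (lv i) (lv i) = 4 := by
  have h := emb_qipRaw (lineT i) (lineT i)
  rw [show qipRaw (lineT i) (lineT i) = qsmul 4 (qsmul 4 qone) from qeq_eq (all_range lv_qip hi), emb_smul, emb_smul,
    emb_one] at h
  refine (smul4_cancel (h.trans rfl)).symm.trans ?_
  rw [show (4 : ℍ[ℝ]) = (((4 : ℝ)) : ℍ[ℝ]) by norm_cast]
  ext <;> simp

/-- the image of a line under a generating reflection -/
theorem gen_image {s i : ℕ} (hs : s < 4) (hi : i < 315) : papp (gTab.find s) i < 315 ∧ ∃ u < 120,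
    qrefl (lv (genLine.getD s 0)) (lv i) = lsmul (uq u) (lv (papp (gTab.find s) i)) := by
  have h := allLt_spec (allLt_spec ref_chk s hs) i hi
  simp only [refChk, Bool.and_eq_true, decide_eq_true_eq] at h
  obtain ⟨⟨⟨⟨hu, hj⟩, h0⟩, h1⟩, h2⟩ := h
  refine ⟨hj, gUnit s i, hu, ?_⟩
  set r := genLine.getD s 0
  set j := papp (gTab.find s) i
  have hS : emb (ipRaw (line3 i) (line3 r)) = (4 : ℝ) • qip (lv i) (lv r) := emb_qipRaw (lineT i) (lineT r)
  have key : ∀ (x r0 y : Q8), imgEq (ipRaw (line3 i) (line3 r)) r0 x (units.getD (gUnit s i) qzero) y = true →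
      emb x - ((1 / 2 : ℝ) • qip (lv i) (lv r)) * emb r0 = uq (gUnit s i) * emb y := fun x r0 y e => by
    have e' := congrArg emb (qeq_eq e)
    simp only [emb_sub, emb_smul, emb_raw, hS, smul_mul_assoc, smul_smul] at e'
    refine smul_right_injective ℍ[ℝ] (by norm_num : (32 : ℝ) ≠ 0) ?_
    simp only [smul_sub, smul_mul_assoc, smul_smul, uq]
    convert e' using 2 <;> norm_num
  funext t
  fin_cases t
  · exact key _ _ _ h0
  · exact key _ _ _ h1
  · exact key _ _ _ h2

theorem gLine_lt : ∀ s < 4, genLine.getD s 0 < 315 := by decide +kernel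

theorem comb_key {S r0 x0 : Q8} {a : List Q8} {p : Q8 × Q8 × Q8 → Q8} {q : ℍ[ℝ]} (hS : emb S = (4 : ℝ) • q)
    (e : combEq S r0 x0 a p = true) :
    emb x0 - ((1 / 2 : ℝ) • q) * emb r0 =
      emb (a.getD 0 qzero) * emb (p (wgen3.getD 0 (qzero, qzero, qzero))) +
      emb (a.getD 1 qzero) * emb (p (wgen3.getD 1 (qzero, qzero, qzero))) +
      emb (a.getD 2 qzero) * emb (p (wgen3.getD 2 (qzero, qzero, qzero))) +
      emb (a.getD 3 qzero) * emb (p (wgen3.getD 3 (qzero, qzero, qzero))) := by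
  have e' := congrArg emb (qeq_eq e)
  simp only [emb_sub, emb_smul, emb_add, emb_raw, hS, smul_mul_assoc, smul_smul] at e'
  refine smul_right_injective ℍ[ℝ] (by norm_num : (32 : ℝ) ≠ 0) ?_
  simp only [smul_sub, smul_add, smul_mul_assoc, smul_smul] at e' ⊢
  convert e' using 2 <;> norm_num

/-- a lattice generator in the form of a triple -/
def wT (n : ℕ) : T3 := ⟨(wgen3.getD n (qzero, qzero, qzero)).1, (wgen3.getD n (qzero, qzero, qzero)).2.1,
  (wgen3.getD n (qzero, qzero, qzero)).2.2⟩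

theorem wgen_eq : wgen = [wT 0, wT 1, wT 2, wT 3] := rfl

theorem wT_mem {n : ℕ} (hn : n < 4) : vec (wT n) ∈ icoLeech := by
  refine wgen_mem _ ?_
  rw [wgen_eq]
  interval_cases n <;> simp

theorem gCoef_mem (s k n : ℕ) : emb ((gCoef s k).getD n qzero) ∈ icosians := by
  by_cases hn : n < (gCoef s k).length
  · rw [List.getD_eq_getElem _ _ hn]
    obtain ⟨ns, -, e⟩ := List.mem_map.1 (List.getElem_mem hn)
    rw [← e]; exact inI_coords _
  · rw [List.getD_eq_default _ _ (not_lt.1 hn), emb_zero]; exact zero_mem _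

theorem gen_lat_image {s k : ℕ} (hs : s < 4) (hk : k < 4) :
    qrefl (lv (genLine.getD s 0)) (vec (wT k)) ∈ icoLeech := by
  have h := allLt_spec (allLt_spec lat_chk s hs) k hk
  simp only [latChk, Bool.and_eq_true] at h
  have hS : emb (ipRaw (wgen3.getD k (qzero, qzero, qzero)) (line3 (genLine.getD s 0))) =
      (4 : ℝ) • qip (vec (wT k)) (lv (genLine.getD s 0)) := emb_qipRaw (wT k) (lineT (genLine.getD s 0))
  have k0 := comb_key hS h.1.1
  have k1 := comb_key hS h.1.2
  have k2 := comb_key hS h.2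
  have e : qrefl (lv (genLine.getD s 0)) (vec (wT k)) =
      lsmul (emb ((gCoef s k).getD 0 qzero)) (vec (wT 0)) + lsmul (emb ((gCoef s k).getD 1 qzero)) (vec (wT 1)) +
      lsmul (emb ((gCoef s k).getD 2 qzero)) (vec (wT 2)) + lsmul (emb ((gCoef s k).getD 3 qzero)) (vec (wT 3)) := by
    funext t
    fin_cases t
    · exact k0
    · exact k1
    · exact k2
  rw [e]
  exact lam_add (lam_add (lam_add (lam_smul (gCoef_mem _ _ _) (wT_mem (by norm_num)))
    (lam_smul (gCoef_mem _ _ _) (wT_mem (by norm_num)))) (lam_smul (gCoef_mem _ _ _) (wT_mem (by norm_num))))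
    (lam_smul (gCoef_mem _ _ _) (wT_mem (by norm_num)))

theorem gen_preserves {s : ℕ} (hs : s < 4) {v : Fin 3 → ℍ[ℝ]} (hv : v ∈ icoLeech) :
    qrefl (lv (genLine.getD s 0)) v ∈ icoLeech := by
  rw [qrefl_eq]
  refine lmap_mem (fun w hw => ?_) hv
  rw [← qrefl_eq]
  rw [wgen_eq] at hw
  simp only [List.mem_cons, List.not_mem_nil, or_false] at hw
  rcases hw with rfl | rfl | rfl | rfl
  · exact gen_lat_image hs (by norm_num)
  · exact gen_lat_image hs (by norm_num)
  · exact gen_lat_image hs (by norm_num)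
  · exact gen_lat_image hs (by norm_num)

end Cfsg.Agent.J2Cert

end
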