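import Mathlib
import Cfsg.Agent.Lib.Spor.J2.Geo
import Cfsg.Agent.Lib.Spor.J2.CheckPerm

/-! The action of the reflection group on the lines, its kernel, and the reflections. -/

set_option autoImplicit false

noncomputable section

namespace Cfsg.Agent.J2Cert

open Quaternion Cfsg.Spor

theorem allN_spec : ∀ {n : ℕ} {f : ℕ → Bool}, allN n f = true → ∀ i < n, f i = true
  | 0, _, _, i, hi => absurd hi (Nat.not_lt_zero i)
  | n + 1, f, h, i, hi => by
    simp only [allN, Bool.and_eq_true] at h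
    rcases Nat.lt_succ_iff_lt_or_eq.1 hi with hlt | rfl
    · exact allN_spec h.2 i hlt
    · exact h.1

theorem nbeq {a b : ℕ} : Nat.beq a b = true ↔ a = b := ⟨Nat.eq_of_beq_eq_true, fun h => h ▸ Nat.beq_refl a⟩

theorem nblt {a b : ℕ} : Nat.blt a b = true ↔ a < b := by
  simp [Nat.blt_eq]

theorem e_row {i : ℕ} (hi : i < 315) : (i ≠ 0 → papp eparT i < i ∧ papp elabT i < 4) ∧
    (∀ x < 315, eP i x = bif Nat.beq i 0 then x else gP (papp elabT i) (eP (papp eparT i) x)) ∧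
    eP i b1 = papp o1T i ∧ papp pos1T (papp o1T i) = i ∧ papp pos1T i < 315 ∧ papp o1T (papp pos1T i) = i := by
  have h := allN_spec e_chk i hi
  simp only [eRow, Bool.and_eq_true, nbeq, nblt] at h
  obtain ⟨⟨⟨⟨hrow, h1⟩, h2⟩, h3⟩, h4⟩ := h
  refine ⟨fun h0 => ?_, fun x hx => ?_, h1, h2, h3, h4⟩
  · rw [show Nat.beq i 0 = false from Bool.not_eq_true _ ▸ fun e => h0 (nbeq.1 e), cond_false] at hrow
    simp only [Bool.and_eq_true, nblt] at hrow
    exact hrow.1
  · cases hb : Nat.beq i 0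
    · rw [hb, cond_false] at hrow
      simp only [Bool.and_eq_true] at hrow
      rw [cond_false]
      exact nbeq.1 (allN_spec hrow.2 x hx)
    · rw [hb, cond_true] at hrow
      rw [cond_true]
      exact nbeq.1 (allN_spec hrow x hx)

theorem b1_lt : b1 < 315 := by decide +kernel
theorem b2_lt : b2 < 315 := by decide +kernel
theorem b3_lt : b3 < 315 := by decide +kernel

theorem axv_mem (t : Fin 3) : axv t ∈ icoLeech := by
  have h2 := two_mem
  refine ⟨fun s => by fin_cases t <;> fin_cases s <;> simp [axv, h2], ?_, ?_, ?_⟩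
  · fin_cases t <;> simp [axv, leftIdeal_zero, two_mem_H]
    exact ⟨-star icoH, neg_mem icoHb_mem, by rw [neg_mul, star_mul_icoH]⟩
  · fin_cases t <;> simp [axv, leftIdeal_zero, two_mem_H]
    exact ⟨-star icoH, neg_mem icoHb_mem, by rw [neg_mul, star_mul_icoH]⟩
  · fin_cases t <;> simp [axv, two_mem_Hb]

theorem o1_mem : ∀ k, k < 315 → lv (papp o1T k) ∈ icoLeech ∧ papp o1T k < 315 := by
  intro k
  induction k using Nat.strong_induction_on with
  | h k ih =>
    intro hk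
    obtain ⟨h1, h2, h3, -⟩ := e_row hk
    rw [← h3, h2 b1 b1_lt]
    by_cases h0 : k = 0
    · subst h0
      refine ⟨?_, b1_lt⟩
      show lv b1 ∈ icoLeech
      rw [show b1 = axLine 0 by decide +kernel, lv_axLine]
      exact axv_mem 0
    · rw [show Nat.beq k 0 = false from Bool.not_eq_true _ ▸ fun e => h0 (nbeq.1 e), cond_false]
      obtain ⟨hp, hl⟩ := h1 h0
      obtain ⟨hm, hlt⟩ := ih _ hp (hp.trans hk)
      rw [(e_row (hp.trans hk)).2.2.1]
      obtain ⟨hj, u, hu, e⟩ := gen_image hl hlt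
      refine ⟨?_, hj⟩
      have := gen_preserves hl hm
      rw [e] at this
      obtain ⟨u', hu', es⟩ := star_uq hu
      have h' := lam_smul (uq_mem hu') this
      rw [lsmul_lsmul, ← es, star_uq_mul hu, lsmul_one] at h'
      exact h'

theorem lv_mem {i : ℕ} (hi : i < 315) : lv i ∈ icoLeech := by
  obtain ⟨-, -, -, -, h5, h6⟩ := e_row hi
  have := (o1_mem _ h5).1
  rwa [h6] at this

/-- a line as a lattice element -/
def lvL (i : Fin 315) : icoLeech := ⟨lv i, lv_mem i.isLt⟩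

/-- `g` sends line `i` to line `j` -/
def Img (g : Equiv.Perm icoLeech) (i j : Fin 315) : Prop :=
  ∃ u < 120, ((g (lvL i) : icoLeech) : Fin 3 → ℍ[ℝ]) = lsmul (uq u) (lv j)

theorem img_exists {g : Equiv.Perm icoLeech} (hg : g ∈ twoJ2) (i : Fin 315) : ∃ j, Img g i j := by
  obtain ⟨M, -, hq⟩ := nice_mem hg
  obtain ⟨u, hu, j, hj, e⟩ := min_classify (g (lvL i)).2 ((hq _ _).trans (lv_norm i.isLt))
  exact ⟨⟨j, hj⟩, u, hu, e⟩

theorem Img.unique {g : Equiv.Perm icoLeech} {i j k : Fin 315} (h : Img g i j) (h' : Img g i k) : j = k := by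
  obtain ⟨u, hu, e⟩ := h
  obtain ⟨v, hv, e'⟩ := h'
  exact Fin.ext (line_unique' j.isLt k.isLt hu hv (e.symm.trans e')).1

theorem img_one (i : Fin 315) : Img 1 i i := ⟨0, by norm_num, by rw [uq_zero, lsmul_one]; rfl⟩

theorem Img.mul {g h : Equiv.Perm icoLeech} (hg : g ∈ twoJ2) {i j k : Fin 315} (h1 : Img h i j) (h2 : Img g j k) :
    Img (g * h) i k := by
  obtain ⟨M, hM, -⟩ := nice_mem hg
  obtain ⟨u, hu, e⟩ := h1
  obtain ⟨v, hv, e'⟩ := h2
  obtain ⟨w, hw, ew⟩ := uq_mul hu hv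
  refine ⟨w, hw, ?_⟩
  rw [Equiv.Perm.mul_apply, hM, e, lmap_smul, ← show ((g (lvL j) : icoLeech) : Fin 3 → ℍ[ℝ]) = lmap M (lv j) from hM _,
    e', lsmul_lsmul, ew]

instance lineAction : MulAction twoJ2 (Fin 315) where
  smul g i := (img_exists g.2 i).choose
  one_smul i := (img_exists (one_mem twoJ2) i).choose_spec.unique (img_one i)
  mul_smul g h i := (img_exists (mul_mem g.2 h.2) i).choose_spec.unique
    ((img_exists h.2 i).choose_spec.mul g.2 (img_exists g.2 _).choose_spec)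

theorem img_smul (g : twoJ2) (i : Fin 315) : Img g i (g • i) := (img_exists g.2 i).choose_spec

theorem smul_eq {g : twoJ2} {i j : Fin 315} (h : Img g i j) : g • i = j := (img_smul g i).unique h

/-- `g` is the reflection in the given line -/
def IsReflAt (g : Equiv.Perm icoLeech) (i : Fin 315) : Prop :=
  ∀ x : icoLeech, ((g x : icoLeech) : Fin 3 → ℍ[ℝ]) = qrefl (lv i) x

theorem IsReflAt.isRefl {g : Equiv.Perm icoLeech} {i : Fin 315} (h : IsReflAt g i) : IsIcoReflection g :=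
  ⟨lvL i, lv_norm i.isLt, h⟩

theorem IsReflAt.mem {g : Equiv.Perm icoLeech} {i : Fin 315} (h : IsReflAt g i) : g ∈ twoJ2 :=
  Subgroup.subset_closure h.isRefl

theorem IsReflAt.unique {g h : Equiv.Perm icoLeech} {i : Fin 315} (hg : IsReflAt g i) (hh : IsReflAt h i) : g = h :=
  Equiv.ext fun x => Subtype.ext ((hg x).trans (hh x).symm)

theorem exists_line {f : Equiv.Perm icoLeech} (hf : IsIcoReflection f) : ∃ i, IsReflAt f i := by
  obtain ⟨r, hr, h⟩ := hf
  obtain ⟨u, hu, i, hi, e⟩ := min_classify r.2 hr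
  exact ⟨⟨i, hi⟩, fun x => (h x).trans (by rw [e]; exact qrefl_lsmul (star_uq_mul hu) _ _)⟩

theorem IsReflAt.conj {g f : Equiv.Perm icoLeech} (hg : g ∈ twoJ2) {i j : Fin 315} (hf : IsReflAt f i) (h : Img g i j) :
    IsReflAt (g * f * g⁻¹) j := by
  obtain ⟨M, hM, hq⟩ := nice_mem hg
  obtain ⟨u, hu, e⟩ := h
  intro x
  have hy : ((g (g⁻¹ x) : icoLeech) : Fin 3 → ℍ[ℝ]) = x := by rw [← Equiv.Perm.mul_apply, mul_inv_cancel]; rfl
  set y := g⁻¹ x
  have e1 : qip (y : Fin 3 → ℍ[ℝ]) (lv i) = qip (x : Fin 3 → ℍ[ℝ]) (lsmul (uq u) (lv j)) := by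
    rw [show lv i = ((lvL i : icoLeech) : Fin 3 → ℍ[ℝ]) from rfl, ← hq, hy, e]
  rw [← qrefl_lsmul (star_uq_mul hu) (lv j) x, Equiv.Perm.mul_apply, Equiv.Perm.mul_apply, hM, hf]
  rw [qrefl_sub, qrefl_sub, e1]
  have hsub : ∀ a b : Fin 3 → ℍ[ℝ], lmap M (a - b) = lmap M a - lmap M b := fun a b => by
    funext c; simp [lmap, sub_mul, Finset.sum_sub_distrib]
  rw [hsub, lmap_smul, ← hM y, hy, show lmap M (lv i) = lsmul (uq u) (lv j) from (hM (lvL i)).symm.trans e]

/-- the generating reflections -/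
def genR (s : Fin 4) : Equiv.Perm icoLeech where
  toFun x := ⟨qrefl (lv (genLine.getD s 0)) x, gen_preserves s.isLt x.2⟩
  invFun x := ⟨qrefl (lv (genLine.getD s 0)) x, gen_preserves s.isLt x.2⟩
  left_inv x := Subtype.ext (qrefl_qrefl (lv_norm (gLine_lt s s.isLt)) _)
  right_inv x := Subtype.ext (qrefl_qrefl (lv_norm (gLine_lt s s.isLt)) _)

theorem genR_refl (s : Fin 4) : IsReflAt (genR s) ⟨genLine.getD s 0, gLine_lt s s.isLt⟩ := fun _ => rfl

/-- the generating reflections in the group -/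
def gG (s : Fin 4) : twoJ2 := ⟨genR s, (genR_refl s).mem⟩

theorem gG_smul (s : Fin 4) (i : Fin 315) : ((gG s • i : Fin 315) : ℕ) = gP s i := by
  obtain ⟨hj, u, hu, e⟩ := gen_image s.isLt i.isLt
  rw [smul_eq (g := gG s) (i := i) (j := ⟨gP s i, hj⟩) ⟨u, hu, e⟩]

/-- the subgroup generated by the four reflections -/
def Gen : Subgroup twoJ2 := Subgroup.closure (Set.range gG)

theorem exists_e : ∀ k, k < 315 → ∃ g ∈ Gen, ∀ x : Fin 315, ((g • x : Fin 315) : ℕ) = eP k x := by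
  intro k
  induction k using Nat.strong_induction_on with
  | h k ih =>
    intro hk
    obtain ⟨h1, h2, -⟩ := e_row hk
    by_cases h0 : k = 0
    · subst h0
      exact ⟨1, one_mem _, fun x => by rw [one_smul, h2 x x.isLt]; rfl⟩
    · obtain ⟨hp, hl⟩ := h1 h0
      obtain ⟨g, hg, e⟩ := ih _ hp (hp.trans hk)
      refine ⟨gG ⟨_, hl⟩ * g, mul_mem (Subgroup.subset_closure ⟨_, rfl⟩) hg, fun x => ?_⟩
      rw [mul_smul, gG_smul, e, h2 x x.isLt, show Nat.beq k 0 = false from Bool.not_eq_true _ ▸ fun e => h0 (nbeq.1 e),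
        cond_false]

/-- transversal elements of the reflection group -/
def eG (k : Fin 315) : twoJ2 := (exists_e k k.isLt).choose

theorem eG_mem (k : Fin 315) : eG k ∈ Gen := (exists_e k k.isLt).choose_spec.1

theorem eG_smul (k x : Fin 315) : ((eG k • x : Fin 315) : ℕ) = eP k x := (exists_e k k.isLt).choose_spec.2 x

/-- the first base line -/
def p1 : Fin 315 := ⟨b1, b1_lt⟩

/-- the position of a line in the first orbit -/
def pos (i : Fin 315) : Fin 315 := ⟨papp pos1T i, (e_row i.isLt).2.2.2.2.1⟩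

theorem eG_pos (i : Fin 315) : eG (pos i) • p1 = i :=
  Fin.ext (((eG_smul _ _).trans (e_row (pos i).isLt).2.2.1).trans (e_row i.isLt).2.2.2.2.2)

/-- the reflection in the first base line -/
def r0 : twoJ2 := (eG (pos ⟨genLine.getD 0 0, gLine_lt 0 (by norm_num)⟩))⁻¹ * gG 0 * eG (pos ⟨genLine.getD 0 0, gLine_lt 0 (by norm_num)⟩)

theorem r0_refl : IsReflAt (r0 : Equiv.Perm icoLeech) p1 := by
  set g := eG (pos ⟨genLine.getD 0 0, gLine_lt 0 (by norm_num)⟩) with hg
  have h : g⁻¹ • (⟨genLine.getD 0 0, gLine_lt 0 (by norm_num)⟩ : Fin 315) = p1 := by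
    rw [inv_smul_eq_iff, hg, eG_pos]
  have := (genR_refl 0).conj (g⁻¹).2 (h ▸ img_smul g⁻¹ _)
  simp only [InvMemClass.coe_inv, inv_inv] at this
  exact this

/-- the reflection in a line -/
def refl (i : Fin 315) : twoJ2 := eG (pos i) * r0 * (eG (pos i))⁻¹

theorem refl_isRefl (i : Fin 315) : IsReflAt (refl i : Equiv.Perm icoLeech) i := by
  have h := r0_refl.conj (eG (pos i)).2 (img_smul (eG (pos i)) p1)
  rw [eG_pos] at h
  exact h

theorem refl_mem_gen (i : Fin 315) : refl i ∈ Gen :=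
  mul_mem (mul_mem (eG_mem _) (mul_mem (mul_mem (inv_mem (eG_mem _)) (Subgroup.subset_closure ⟨0, rfl⟩)) (eG_mem _)))
    (inv_mem (eG_mem _))

theorem gen_top : Gen = ⊤ := by
  rw [eq_top_iff]
  intro g _
  have key : ∀ h : Equiv.Perm icoLeech, h ∈ Subgroup.closure {f | IsIcoReflection f} → ∃ hh : h ∈ twoJ2, (⟨h, hh⟩ : twoJ2) ∈ Gen := by
    intro h hh
    induction hh using Subgroup.closure_induction with
    | mem x hx =>
      obtain ⟨i, hi⟩ := exists_line hx
      refine ⟨hi.mem, ?_⟩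
      rw [show (⟨x, hi.mem⟩ : twoJ2) = refl i from Subtype.ext (hi.unique (refl_isRefl i))]
      exact refl_mem_gen i
    | one => exact ⟨one_mem _, one_mem _⟩
    | mul x y _ _ hx hy =>
      obtain ⟨h1, h1'⟩ := hx
      obtain ⟨h2, h2'⟩ := hy
      exact ⟨mul_mem h1 h2, mul_mem h1' h2'⟩
    | inv x _ hx =>
      obtain ⟨h1, h1'⟩ := hx
      exact ⟨inv_mem h1, inv_mem h1'⟩
  obtain ⟨_, h⟩ := key g.1 g.2
  exact h

/-- minus one -/
def negG : twoJ2 := refl ⟨axLine 0, axLine_lt 0⟩ * refl ⟨axLine 1, axLine_lt 1⟩ * refl ⟨axLine 2, axLine_lt 2⟩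

theorem qrefl_ax (t : Fin 3) (x : Fin 3 → ℍ[ℝ]) (s : Fin 3) : qrefl (axv t) x s = if s = t then - x s else x s := by
  have hq : qip x (axv t) = x t * 2 := by
    simp only [qip, axv]
    rw [Finset.sum_eq_single t]
    · rw [if_pos rfl, show star (2 : ℍ[ℝ]) = 2 from by
        rw [show (2 : ℍ[ℝ]) = (((2 : ℝ)) : ℍ[ℝ]) by norm_cast, Quaternion.star_coe]]
    · intro b _ hb
      rw [if_neg hb, star_zero, mul_zero]
    · simp
  simp only [qrefl, hq, axv]
  split
  · subst_vars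
    rw [show (2 : ℍ[ℝ]) = (((2 : ℝ)) : ℍ[ℝ]) by norm_cast]
    simp only [Quaternion.mul_coe_eq_smul, smul_mul_assoc, smul_smul]
    norm_num
    rw [two_smul]
    abel
  · simp

theorem negG_apply (x : icoLeech) : (((negG : twoJ2) : Equiv.Perm icoLeech) x : Fin 3 → ℍ[ℝ]) = -(x : Fin 3 → ℍ[ℝ]) := by
  have h : ∀ t : Fin 3, ∀ y : icoLeech,
      (((refl ⟨axLine t, axLine_lt t⟩ : twoJ2) : Equiv.Perm icoLeech) y : Fin 3 → ℍ[ℝ]) = qrefl (axv t) y := fun t y => by
    rw [← lv_axLine t]; exact refl_isRefl ⟨axLine t, axLine_lt t⟩ y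
  funext s
  simp only [negG, Subgroup.coe_mul, Equiv.Perm.mul_apply]
  rw [h 0, qrefl_ax, h 1, qrefl_ax, h 2, qrefl_ax]
  fin_cases s <;> simp [Pi.neg_apply]

theorem negG_ne : (negG : twoJ2) ≠ 1 := fun e => by
  have h := negG_apply (lvL p1)
  rw [e] at h
  have h' : lsmul (uq 0) (lv p1) = lsmul (uq 1) (lv p1) := by
    rw [uq_zero, uq_one, lsmul_one]
    refine h.trans ?_
    funext t; simp [lsmul, lvL]
  exact absurd (line_unique' p1.isLt p1.isLt (by norm_num) (by norm_num) h').2 (by norm_num)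

theorem negG_central : negG ∈ Subgroup.center twoJ2 := by
  refine Subgroup.mem_center_iff.2 fun g => Subtype.ext (Equiv.ext fun x => Subtype.ext ?_)
  obtain ⟨M, hM, -⟩ := nice_mem g.2
  rw [Subgroup.coe_mul, Subgroup.coe_mul, Equiv.Perm.mul_apply, Equiv.Perm.mul_apply, hM, negG_apply, negG_apply, hM]
  funext c; simp [lmap, Finset.sum_neg_distrib]

theorem negG_smul (i : Fin 315) : negG • i = i :=
  smul_eq ⟨1, by norm_num, by rw [negG_apply, uq_one]; funext t; simp [lsmul, lvL]⟩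

set_option maxHeartbeats 1600000 in
/-- fixing the frame forces a central element -/
theorem frame_faithful {g : twoJ2} (h : ∀ f ∈ frame, ∀ hf : f < 315, g • (⟨f, hf⟩ : Fin 315) = ⟨f, hf⟩) :
    g = 1 ∨ g = negG := by
  obtain ⟨M, hM, -⟩ := nice_mem g.2
  have hlt : ∀ f ∈ frame, f < 315 := fun f hf => nblt.1 (List.all_eq_true.1 frame_lt f hf)
  have hfix : ∀ f ∈ frame, ∃ u < 120, lmap M (lv f) = lsmul (uq u) (lv f) := fun f hf => by
    obtain ⟨u, hu, e⟩ := img_smul g ⟨f, hlt f hf⟩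
    rw [h f hf (hlt f hf), hM] at e
    exact ⟨u, hu, e⟩
  have hax : ∀ t : Fin 3, axLine t ∈ frame := by decide +kernel
  choose u hu eu using fun t => hfix _ (hax t)
  have hMd : ∀ t c, M t c = if c = t then uq (u t) else 0 := by
    intro t c
    have e := congrFun (eu t) c
    rw [lv_axLine] at e
    have e' : (2 : ℍ[ℝ]) * M t c = if c = t then uq (u t) * 2 else 0 := by
      have : lmap M (axv t) c = (2 : ℍ[ℝ]) * M t c := by simp [lmap, axv]
      rw [← this, e]
      simp only [lsmul, axv]; split <;> simp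
    refine smul_right_injective ℍ[ℝ] (by norm_num : (2 : ℝ) ≠ 0) ?_
    rw [show (2 : ℍ[ℝ]) = (((2 : ℝ)) : ℍ[ℝ]) by norm_cast, Quaternion.coe_mul_eq_smul] at e'
    show (2 : ℝ) • M t c = (2 : ℝ) • _
    rw [e']
    split
    · rw [Quaternion.mul_coe_eq_smul]
    · simp
  have hd : ∀ (x : Fin 3 → ℍ[ℝ]) (c : Fin 3), lmap M x c = x c * uq (u c) := fun x c => by
    simp [lmap, hMd]
  have hraw : ∀ (a : Q8) (t : Fin 3) (l : ℕ), emb a * uq (u t) = uq l * emb a →
      qeq (qraw a (units.getD (u t) qzero)) (qraw (units.getD l qzero) a) = true := fun a t l e => by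
    rw [emb_inj (show emb (qraw a (units.getD (u t) qzero)) = emb (qraw (units.getD l qzero) a) by
      rw [emb_raw, emb_raw]; exact congrArg _ e)]
    simp [qeq]
  obtain ⟨l, hl, el⟩ := hfix (frame.getD 3 0) (by decide +kernel)
  obtain ⟨l2, hl2, el2⟩ := hfix (frame.getD 4 0) (by decide +kernel)
  obtain ⟨l3, hl3, el3⟩ := hfix (frame.getD 5 0) (by decide +kernel)
  have hc : ∀ (f l : ℕ) (t : Fin 3), lmap M (lv f) = lsmul (uq l) (lv f) →
      lv f t * uq (u t) = uq l * lv f t := fun f l t e => by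
    have := congrFun e t
    rwa [hd] at this
  have hc0 : ∀ (f l : ℕ), lmap M (lv f) = lsmul (uq l) (lv f) →
      emb (line3 f).1 * uq (u 0) = uq l * emb (line3 f).1 := fun f l e => by rw [← lv_zero]; exact hc f l 0 e
  have hc1 : ∀ (f l : ℕ), lmap M (lv f) = lsmul (uq l) (lv f) →
      emb (line3 f).2.1 * uq (u 1) = uq l * emb (line3 f).2.1 := fun f l e => by rw [← lv_one]; exact hc f l 1 e
  have hc2 : ∀ (f l : ℕ), lmap M (lv f) = lsmul (uq l) (lv f) →
      emb (line3 f).2.2 * uq (u 2) = uq l * emb (line3 f).2.2 := fun f l e => by rw [← lv_two]; exact hc f l 2 e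
  generalize hf3 : frame.getD 3 0 = f3 at el
  generalize hf4 : frame.getD 4 0 = f4 at el2
  generalize hf5 : frame.getD 5 0 = f5 at el3
  have D := allLt_spec diag_chk (u 0) (hu 0)
  simp only [diagChk, hf3, hf4, hf5] at D
  have D1 := allLt_spec D l hl
  rw [hraw (line3 f3).1 0 l (hc0 _ l el), Bool.not_true, Bool.false_or] at D1
  have D2 := allLt_spec D1 (u 1) (hu 1)
  rw [hraw (line3 f3).2.1 1 l (hc1 _ l el), Bool.not_true, Bool.false_or] at D2
  have D3 := allLt_spec D2 l2 hl2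
  rw [hraw (line3 f4).1 0 l2 (hc0 _ l2 el2), Bool.not_true, Bool.false_or] at D3
  have D4 := allLt_spec D3 (u 2) (hu 2)
  rw [hraw (line3 f4).2.2 2 l2 (hc2 _ l2 el2), Bool.not_true, Bool.false_or] at D4
  have D5 := allLt_spec D4 l3 hl3
  rw [hraw (line3 f5).1 0 l3 (hc0 _ l3 el3), hraw (line3 f5).2.1 1 l3 (hc1 _ l3 el3),
    hraw (line3 f5).2.2 2 l3 (hc2 _ l3 el3)] at D5
  simp only [Bool.and_self, Bool.not_true, Bool.false_or, Bool.and_eq_true, decide_eq_true_eq, nbeq] at D5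
  obtain ⟨⟨h2, e1⟩, e2⟩ := D5
  have hu' : ∀ t, u t = u 0 := fun t => by fin_cases t <;> simp [← e1, ← e2]
  rcases (show u 0 = 0 ∨ u 0 = 1 by omega) with h0 | h0
  · refine Or.inl (Subtype.ext (Equiv.ext fun x => Subtype.ext ?_))
    rw [hM]
    funext c
    rw [hd, hu', h0, uq_zero, mul_one]
    rfl
  · refine Or.inr (Subtype.ext (Equiv.ext fun x => Subtype.ext ?_))
    rw [hM, negG_apply]
    funext c
    rw [hd, hu', h0, uq_one, mul_neg_one]
    rfl

end Cfsg.Agent.J2Cert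

end
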