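import Cfsg.Agent.Lib.Spor.J2.PermDefs

/-! Elements of order seven whose products with the generators again have order seven. -/

set_option autoImplicit false
set_option maxHeartbeats 4000000
set_option maxRecDepth 10000

noncomputable section

namespace Cfsg.Agent.J2Cert

/-- elements of order seven -/
def sevenL : List (Nat × Nat × Nat) := [(307, 7, 3), (294, 82, 10), (111, 145, 7), (167, 144, 2)]

/-- the condition at one generator -/
def sevenRow (s : Nat) : Bool :=
  let w := sevenL.getD s (0, 0, 0)
  Nat.blt w.1 315 && Nat.blt w.2.1 160 && Nat.blt w.2.2 12 &&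
    (baseL.all fun x => Nat.beq (itr (xP w.1 w.2.1 w.2.2) 7 x) x) &&
    baseL.all fun x => Nat.beq (itr (fun y => gP s (xP w.1 w.2.1 w.2.2 y)) 7 x) x

theorem seven_chk : allN 4 sevenRow = true := by decide +kernel

theorem r0_lt : (allN 315 fun x => Nat.blt (r0P x) 315) = true := by decide +kernel

theorem sub_chk : (allN 6 fun o => Nat.blt (subRep.getD o 0) 315) = true := by decide +kernel

theorem ordList_mem : (allN 11 fun n => ordList.contains (ordList.getD n 0) && !(Nat.beq (ordList.getD n 0) 0)) = true := by
  decide +kernel

end Cfsg.Agent.J2Cert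

end
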