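import Mathlib
import Cfsg.Agent.Lib.Spor.J2.Action
import Cfsg.Agent.Lib.Spor.J2.CheckSeven

/-! Centre, order and transitivity of the icosian reflection group. -/

set_option autoImplicit false

noncomputable section

namespace Cfsg.Agent.J2Cert

open Quaternion Cfsg.Spor

theorem refl_conj (g : twoJ2) (i : Fin 315) : g * refl i * g⁻¹ = refl (g • i) := by
  refine Subtype.ext ?_
  have h := (refl_isRefl i).conj g.2 (img_smul g i)
  exact h.unique (refl_isRefl (g • i))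

theorem refl_p1 : refl p1 = r0 := Subtype.ext ((refl_isRefl p1).unique r0_refl)

theorem r0_smul (x : Fin 315) : ((r0 • x : Fin 315) : ℕ) = r0P x := by
  set k : Fin 315 := pos ⟨genLine.getD 0 0, gLine_lt 0 (by norm_num)⟩ with hk
  have hlt : r0P x < 315 := nblt.1 (allN_spec r0_lt x x.isLt)
  have key : eG k • r0 • x = eG k • (⟨r0P x, hlt⟩ : Fin 315) := by
    refine Fin.ext ?_
    have hk0 : (k : ℕ) = k0 := by rw [hk, pos, k0]
    rw [eG_smul k ⟨r0P x, hlt⟩, hk0, Fin.val_mk]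
    rw [nbeq.1 (allN_spec r0_chk x x.isLt), r0, ← hk, mul_smul, mul_smul, smul_inv_smul, gG_smul, eG_smul]
    rw [hk0, Fin.val_zero]
  exact congrArg Fin.val (MulAction.injective (eG k) key)

theorem refl_injective : Function.Injective refl := by
  intro i j h
  set g := eG (pos j)
  have hg : g • p1 = j := eG_pos j
  have h1 : refl (g⁻¹ • i) = r0 := by
    rw [← refl_p1, ← refl_conj, h, refl_conj, ← hg, inv_smul_smul]
  suffices H : g⁻¹ • i = p1 by rw [← hg, ← H, smul_inv_smul]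
  set y := g⁻¹ • i
  set k := pos y
  have hc : eG k * r0 = r0 * eG k := by
    have := refl_conj (eG k) p1
    rw [eG_pos, refl_p1, h1] at this
    exact mul_inv_eq_iff_eq_mul.1 this
  have hagree : agree frame (fun x => eP k (r0P x)) (fun x => r0P (eP k x)) = true :=
    List.all_eq_true.2 fun f hf => by
      have hf' : f < 315 := nblt.1 (List.all_eq_true.1 frame_lt f hf)
      have := congrArg (fun w : twoJ2 => ((w • (⟨f, hf'⟩ : Fin 315) : Fin 315) : ℕ)) hc
      simp only [mul_smul, eG_smul, r0_smul] at this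
      exact nbeq.2 this
  have h0 := allN_spec r0_conj_chk k k.isLt
  rw [hagree, Bool.not_true, Bool.or_false] at h0
  have hk0 : k = (0 : Fin 315) := Fin.ext (nbeq.1 h0)
  have hy : eG k • p1 = y := eG_pos y
  refine Fin.ext ?_
  rw [← hy, eG_smul, hk0]
  exact (e_row (show (0 : ℕ) < 315 by norm_num)).2.1 b1 b1_lt

theorem center_smul {z : twoJ2} (hz : z ∈ Subgroup.center twoJ2) (i : Fin 315) : z • i = i := by
  refine refl_injective ?_
  rw [← refl_conj, ← Subgroup.mem_center_iff.1 hz (refl i), mul_inv_cancel_right]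

theorem center_eq (z : twoJ2) : z ∈ Subgroup.center twoJ2 ↔ z = 1 ∨ z = negG := by
  constructor
  · exact fun hz => frame_faithful fun f _ hf => center_smul hz _
  · rintro (rfl | rfl)
    · exact one_mem _
    · exact negG_central

theorem card_center : Nat.card (Subgroup.center twoJ2) = 2 := by
  have e : (Subgroup.center twoJ2 : Set twoJ2) = {1, negG} := Set.ext fun z => center_eq z
  rw [← SetLike.coe_sort_coe, Nat.card_coe_set_eq, e, Set.ncard_pair negG_ne.symm]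

/-- the action of the Hall–Janko group on the lines -/
def psi : J2 →* Equiv.Perm (Fin 315) :=
  QuotientGroup.lift (Subgroup.center twoJ2) (MulAction.toPermHom twoJ2 (Fin 315)) fun z hz =>
    Equiv.ext fun i => center_smul hz i

instance j2Action : MulAction J2 (Fin 315) := MulAction.compHom (Fin 315) psi

theorem mk_smul (g : twoJ2) (i : Fin 315) : (QuotientGroup.mk g : J2) • i = g • i := rfl

/-- a permutation table describes an element -/
def Acts (q : J2) (σ : ℕ → ℕ) : Prop := ∀ x : Fin 315, ((q • x : Fin 315) : ℕ) = σ x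

theorem eq_of_frame {p q : J2} (h : ∀ f ∈ frame, ∀ hf : f < 315, p • (⟨f, hf⟩ : Fin 315) = q • ⟨f, hf⟩) : p = q := by
  obtain ⟨a, rfl⟩ := QuotientGroup.mk_surjective p
  obtain ⟨b, rfl⟩ := QuotientGroup.mk_surjective q
  refine QuotientGroup.eq.2 ((center_eq _).2 (frame_faithful fun f hf hf' => ?_))
  rw [mul_smul, inv_smul_eq_iff]
  exact (h f hf hf').symm

theorem eq_of_smul {p q : J2} (h : ∀ x : Fin 315, p • x = q • x) : p = q := eq_of_frame fun _ _ _ => h _

theorem psi_injective : Function.Injective psi := fun p q h => eq_of_smul fun x => congrFun (congrArg DFunLike.coe h) x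

instance finite_J2 : Finite J2 := Finite.of_injective psi psi_injective

theorem acts_one : Acts 1 id := fun x => by rw [one_smul]; rfl

theorem Acts.mul {p q : J2} {σ τ : ℕ → ℕ} (hp : Acts p σ) (hq : Acts q τ) : Acts (p * q) (fun x => σ (τ x)) :=
  fun x => by rw [mul_smul, hp, hq]

theorem Acts.congr {p : J2} {σ τ : ℕ → ℕ} (hp : Acts p σ) (h : ∀ x < 315, σ x = τ x) : Acts p τ :=
  fun x => (hp x).trans (h x x.isLt)

theorem Acts.lt {p : J2} {σ : ℕ → ℕ} (hp : Acts p σ) {x : ℕ} (hx : x < 315) : σ x < 315 := by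
  have := (p • (⟨x, hx⟩ : Fin 315)).isLt
  rwa [hp ⟨x, hx⟩] at this

theorem Acts.ext {p q : J2} {σ τ : ℕ → ℕ} (hp : Acts p σ) (hq : Acts q τ) (h : agree frame σ τ = true) : p = q :=
  eq_of_frame fun f hf hf' => Fin.ext (by rw [hp, hq]; exact nbeq.1 (List.all_eq_true.1 h f hf))

theorem Acts.pow {p : J2} {σ : ℕ → ℕ} (hp : Acts p σ) : ∀ n : ℕ, Acts (p ^ n) (itr σ n)
  | 0 => by rw [pow_zero]; exact acts_one
  | n + 1 => by rw [pow_succ']; exact (hp.mul (Acts.pow hp n)).congr fun _ _ => rfl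

theorem exists_word {f : ℕ → ℕ → ℕ} : ∀ w : List ℕ, (∀ t ∈ w, ∃ g, Acts g (f t)) → ∃ g, Acts g (wP f w)
  | [], _ => ⟨1, acts_one⟩
  | s :: w, h => by
    obtain ⟨a, ha⟩ := h s (by simp)
    obtain ⟨b, hb⟩ := exists_word w fun t ht => h t (by simp [ht])
    exact ⟨a * b, ha.mul hb⟩

theorem exists_g (s : ℕ) (hs : s < 4) : ∃ g : J2, Acts g (gP s) :=
  ⟨QuotientGroup.mk (gG ⟨s, hs⟩), fun x => gG_smul ⟨s, hs⟩ x⟩

theorem exists_h (s : ℕ) (hs : s < 2) : ∃ g : J2, Acts g (hP s) := by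
  have h := allN_spec hg_chk s hs
  simp only [hgRow, Bool.and_eq_true, List.all_eq_true, nblt] at h
  obtain ⟨g, hg⟩ := exists_word (f := gP) _ fun t ht => exists_g t (h.1 t ht)
  exact ⟨g, hg.congr fun x hx => (nbeq.1 (allN_spec h.2 x hx)).symm⟩

theorem exists_n (s : ℕ) (hs : s < 2) : ∃ g : J2, Acts g (nP s) := by
  have h := allN_spec mg_chk s hs
  simp only [mgRow, Bool.and_eq_true, List.all_eq_true, nblt] at h
  obtain ⟨g, hg⟩ := exists_word (f := hP) _ fun t ht => exists_h t (h.1 t ht)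
  exact ⟨g, hg.congr fun x hx => (nbeq.1 (allN_spec h.2 x hx)).symm⟩

/-- the four reflections -/
def gJ (s : Fin 4) : J2 := QuotientGroup.mk (gG s)
/-- stabiliser generators -/
def hJ (s : Fin 2) : J2 := (exists_h s s.isLt).choose
/-- last generators -/
def nJ (s : Fin 2) : J2 := (exists_n s s.isLt).choose

theorem acts_gJ (s : Fin 4) : Acts (gJ s) (gP s) := fun x => gG_smul s x
theorem acts_hJ (s : Fin 2) : Acts (hJ s) (hP s) := (exists_h s s.isLt).choose_spec
theorem acts_nJ (s : Fin 2) : Acts (nJ s) (nP s) := (exists_n s s.isLt).choose_spec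

theorem f_row {j : ℕ} (hj : j < 160) : (j ≠ 0 → papp fparT j < j ∧ papp flabT j < 2) ∧
    (∀ x < 315, fP j x = bif Nat.beq j 0 then x else hP (papp flabT j) (fP (papp fparT j) x)) ∧
    fP j b1 = b1 ∧ fP j b2 = papp o2T j ∧ ∀ k < j, papp o2T j ≠ papp o2T k := by
  have h := allN_spec f_chk j hj
  simp only [fRow, Bool.and_eq_true, nbeq] at h
  obtain ⟨⟨⟨hrow, h1⟩, h2⟩, h3⟩ := h
  refine ⟨fun h0 => ?_, fun x hx => ?_, h1, h2, fun k hk e => ?_⟩
  · rw [show Nat.beq j 0 = false from Bool.not_eq_true _ ▸ fun e => h0 (nbeq.1 e), cond_false] at hrow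
    simp only [Bool.and_eq_true, nblt] at hrow
    exact hrow.1
  · cases hb : Nat.beq j 0
    · rw [hb, cond_false] at hrow
      simp only [Bool.and_eq_true] at hrow
      rw [cond_false]
      exact nbeq.1 (allN_spec hrow.2 x hx)
    · rw [hb, cond_true] at hrow
      rw [cond_true]
      exact nbeq.1 (allN_spec hrow x hx)
  · have := allN_spec h3 k hk
    rw [e, Nat.beq_refl, Bool.not_true] at this
    exact Bool.noConfusion this

theorem m_row {l : ℕ} (hl : l < 12) : (l ≠ 0 → papp mparT l < l ∧ papp mlabT l < 2) ∧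
    (∀ x < 315, mP l x = bif Nat.beq l 0 then x else nP (papp mlabT l) (mP (papp mparT l) x)) ∧
    mP l b1 = b1 ∧ mP l b2 = b2 ∧ mP l b3 = papp o3T l ∧ ∀ k < l, papp o3T l ≠ papp o3T k := by
  have h := allN_spec m_chk l hl
  simp only [mRow, Bool.and_eq_true, nbeq] at h
  obtain ⟨⟨⟨⟨hrow, h1⟩, h2⟩, h3⟩, h4⟩ := h
  refine ⟨fun h0 => ?_, fun x hx => ?_, h1, h2, h3, fun k hk e => ?_⟩
  · rw [show Nat.beq l 0 = false from Bool.not_eq_true _ ▸ fun e => h0 (nbeq.1 e), cond_false] at hrow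
    simp only [Bool.and_eq_true, nblt] at hrow
    exact hrow.1
  · cases hb : Nat.beq l 0
    · rw [hb, cond_false] at hrow
      simp only [Bool.and_eq_true] at hrow
      rw [cond_false]
      exact nbeq.1 (allN_spec hrow.2 x hx)
    · rw [hb, cond_true] at hrow
      rw [cond_true]
      exact nbeq.1 (allN_spec hrow x hx)
  · have := allN_spec h4 k hk
    rw [e, Nat.beq_refl, Bool.not_true] at this
    exact Bool.noConfusion this

/-- generators of the first stabiliser -/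
def hnJ (s : ℕ) (hs : s < 4) : J2 := if h : s < 2 then hJ ⟨s, h⟩ else nJ ⟨s - 2, by omega⟩

theorem acts_hnJ {s : ℕ} (hs : s < 4) : Acts (hnJ s hs) (hnP s) := by
  unfold hnJ hnP
  split
  · next h => rw [show Nat.blt s 2 = true from nblt.2 h]; exact acts_hJ ⟨s, h⟩
  · next h =>
    rw [show Nat.blt s 2 = false from Bool.not_eq_true _ ▸ fun e => h (nblt.1 e)]
    exact acts_nJ ⟨s - 2, by omega⟩

/-- the last stabiliser -/
def T3set : Set J2 := Set.range nJ
/-- the first stabiliser -/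
def T2set : Set J2 := Set.range fun s : Fin 4 => hnJ s s.isLt

theorem exists_mJ : ∀ l, l < 12 → ∃ g ∈ Subgroup.closure T3set, Acts g (mP l) := by
  intro l
  induction l using Nat.strong_induction_on with
  | h l ih =>
    intro hl
    obtain ⟨h1, h2, -⟩ := m_row hl
    by_cases h0 : l = 0
    · subst h0
      exact ⟨1, one_mem _, acts_one.congr fun x hx => by rw [h2 x hx]; rfl⟩
    · obtain ⟨hp, hs⟩ := h1 h0
      obtain ⟨g, hg, e⟩ := ih _ hp (hp.trans hl)
      refine ⟨nJ ⟨_, hs⟩ * g, mul_mem (Subgroup.subset_closure ⟨_, rfl⟩) hg, ((acts_nJ _).mul e).congr fun x hx => ?_⟩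
      rw [h2 x hx, show Nat.beq l 0 = false from Bool.not_eq_true _ ▸ fun e => h0 (nbeq.1 e), cond_false]

/-- elements of the last stabiliser -/
def mJ (l : Fin 12) : J2 := (exists_mJ l l.isLt).choose
theorem mJ_mem (l : Fin 12) : mJ l ∈ Subgroup.closure T3set := (exists_mJ l l.isLt).choose_spec.1
theorem acts_mJ (l : Fin 12) : Acts (mJ l) (mP l) := (exists_mJ l l.isLt).choose_spec.2

theorem T3_le : Subgroup.closure T3set ≤ Subgroup.closure T2set := by
  refine (Subgroup.closure_le _).2 ?_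
  rintro _ ⟨s, rfl⟩
  refine Subgroup.subset_closure ⟨⟨s + 2, by omega⟩, ?_⟩
  have := s.isLt
  simp [hnJ]

theorem exists_fJ : ∀ j, j < 160 → ∃ g ∈ Subgroup.closure T2set, Acts g (fP j) := by
  intro j
  induction j using Nat.strong_induction_on with
  | h j ih =>
    intro hj
    obtain ⟨h1, h2, -⟩ := f_row hj
    by_cases h0 : j = 0
    · subst h0
      exact ⟨1, one_mem _, acts_one.congr fun x hx => by rw [h2 x hx]; rfl⟩
    · obtain ⟨hp, hs⟩ := h1 h0
      obtain ⟨g, hg, e⟩ := ih _ hp (hp.trans hj)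
      have hs4 : papp flabT j < 4 := hs.trans (by norm_num)
      refine ⟨hnJ (papp flabT j) hs4 * g, mul_mem (Subgroup.subset_closure ⟨⟨_, hs4⟩, rfl⟩) hg,
        ((acts_hnJ _).mul e).congr fun x hx => ?_⟩
      rw [h2 x hx, show Nat.beq j 0 = false from Bool.not_eq_true _ ▸ fun e => h0 (nbeq.1 e), cond_false, hnP,
        show Nat.blt (papp flabT j) 2 = true from nblt.2 hs, cond_true]

/-- elements of the first stabiliser -/
def fJ (j : Fin 160) : J2 := (exists_fJ j j.isLt).choose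
theorem fJ_mem (j : Fin 160) : fJ j ∈ Subgroup.closure T2set := (exists_fJ j j.isLt).choose_spec.1
theorem acts_fJ (j : Fin 160) : Acts (fJ j) (fP j) := (exists_fJ j j.isLt).choose_spec.2

/-- transversal elements -/
def eJ (i : Fin 315) : J2 := QuotientGroup.mk (eG i)
theorem acts_eJ (i : Fin 315) : Acts (eJ i) (eP i) := fun x => eG_smul i x

/-- normal form -/
def xJ (i : Fin 315) (j : Fin 160) (l : Fin 12) : J2 := eJ i * (fJ j * mJ l)
theorem acts_xJ (i : Fin 315) (j : Fin 160) (l : Fin 12) : Acts (xJ i j l) (xP i j l) :=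
  (acts_eJ i).mul ((acts_fJ j).mul (acts_mJ l))

theorem stable_mem {G : Type*} [Group G] [Finite G] {T S : Set G} (hm : ∀ t ∈ T, ∀ x ∈ S, t * x ∈ S)
    {g : G} (hg : g ∈ Subgroup.closure T) : ∀ x ∈ S, g * x ∈ S := by
  induction hg using Subgroup.closure_induction with
  | mem t ht => exact hm t ht
  | one => intro x hx; rwa [one_mul]
  | mul a b _ _ ha hb => intro x hx; rw [mul_assoc]; exact ha _ (hb x hx)
  | inv a _ ha =>
    intro x hx
    have hp : ∀ n : ℕ, a ^ n * x ∈ S := fun n => by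
      induction n with
      | zero => rwa [pow_zero, one_mul]
      | succ n ih => rw [pow_succ', mul_assoc]; exact ha _ ih
    have h1 : a⁻¹ = a ^ (orderOf a - 1) := inv_eq_of_mul_eq_one_right (by
      rw [← pow_succ', Nat.sub_add_cancel (orderOf_pos a), pow_orderOf_eq_one])
    rw [h1]
    exact hp _

theorem mJ_mul (a b : Fin 12) : ∃ c, mJ a * mJ b = mJ c := by
  refine (stable_mem (S := Set.range mJ) ?_ (mJ_mem a) (mJ b) ⟨b, rfl⟩).imp fun c h => h.symm
  rintro _ ⟨s, rfl⟩ _ ⟨l, rfl⟩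
  have h := allN_spec (allN_spec close3_chk s s.isLt) l l.isLt
  simp only [close3, Bool.and_eq_true, nblt] at h
  exact ⟨⟨_, h.1⟩, (((acts_nJ s).mul (acts_mJ l)).ext (acts_mJ ⟨_, h.1⟩) h.2).symm⟩

theorem fm_mul (a : Fin 160) (b : Fin 12) (c : Fin 160) (d : Fin 12) :
    ∃ j l, fJ a * mJ b * (fJ c * mJ d) = fJ j * mJ l := by
  have key := stable_mem (S := Set.range fun p : Fin 160 × Fin 12 => fJ p.1 * mJ p.2) (T := T2set) ?_
    (g := fJ a * mJ b) (mul_mem (fJ_mem a) (T3_le (mJ_mem b))) _ ⟨(c, d), rfl⟩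
  · obtain ⟨⟨j, l⟩, h⟩ := key
    exact ⟨j, l, h.symm⟩
  rintro _ ⟨s, rfl⟩ _ ⟨⟨j, l⟩, rfl⟩
  have h := allN_spec (allN_spec close2_chk s s.isLt) j j.isLt
  simp only [close2, Bool.and_eq_true, nblt] at h
  obtain ⟨⟨h1, h2⟩, h3⟩ := h
  obtain ⟨l', hl'⟩ := mJ_mul ⟨_, h2⟩ l
  refine ⟨(⟨_, h1⟩, l'), ?_⟩
  show fJ _ * mJ l' = hnJ s _ * (fJ j * mJ l)
  rw [← mul_assoc (hnJ s _), ((acts_hnJ s.isLt).mul (acts_fJ j)).ext ((acts_fJ ⟨_, h1⟩).mul (acts_mJ ⟨_, h2⟩)) h3,
    mul_assoc, hl']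

theorem eJ_zero : eJ 0 = 1 := eq_of_smul fun x => Fin.ext (by
  rw [acts_eJ, one_smul]; exact (e_row (show (0 : ℕ) < 315 by norm_num)).2.1 x x.isLt)

theorem fJ_zero : fJ 0 = 1 := eq_of_smul fun x => Fin.ext (by
  rw [acts_fJ, one_smul]; exact (f_row (show (0 : ℕ) < 160 by norm_num)).2.1 x x.isLt)

theorem mJ_zero : mJ 0 = 1 := eq_of_smul fun x => Fin.ext (by
  rw [acts_mJ, one_smul]; exact (m_row (show (0 : ℕ) < 12 by norm_num)).2.1 x x.isLt)

theorem closure_gJ : Subgroup.closure (Set.range gJ) = ⊤ := by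
  have h := congrArg (Subgroup.map (QuotientGroup.mk' (Subgroup.center twoJ2))) gen_top
  rw [Gen, MonoidHom.map_closure, ← Set.range_comp, Subgroup.map_top_of_surjective _ (QuotientGroup.mk'_surjective _)] at h
  exact h

theorem exists_xJ (q : J2) : ∃ i j l, q = xJ i j l := by
  have h := stable_mem (S := Set.range fun p : Fin 315 × Fin 160 × Fin 12 => xJ p.1 p.2.1 p.2.2) (T := Set.range gJ) ?_
    (g := q) (by rw [closure_gJ]; trivial) (xJ 0 0 0) ⟨(0, 0, 0), rfl⟩
  · obtain ⟨⟨i, j, l⟩, h⟩ := h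
    rw [show xJ 0 0 0 = 1 by rw [xJ, eJ_zero, fJ_zero, mJ_zero, one_mul, one_mul], mul_one] at h
    exact ⟨i, j, l, h.symm⟩
  rintro _ ⟨s, rfl⟩ _ ⟨⟨i, j, l⟩, rfl⟩
  have h := allN_spec (allN_spec close1_chk s s.isLt) i i.isLt
  simp only [close1, Bool.and_eq_true, nblt] at h
  obtain ⟨⟨h1, h2⟩, h3⟩ := h
  have ho : gP s (papp o1T i) < 315 := (acts_gJ s).lt (o1_mem i i.isLt).2
  obtain ⟨j', l', hjl⟩ := fm_mul ⟨_, h1⟩ ⟨_, h2⟩ j l
  refine ⟨(⟨_, (e_row ho).2.2.2.2.1⟩, j', l'), ?_⟩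
  show eJ _ * (fJ j' * mJ l') = gJ s * (eJ i * (fJ j * mJ l))
  rw [← mul_assoc (gJ s), ((acts_gJ s).mul (acts_eJ i)).ext
    (acts_xJ ⟨_, (e_row ho).2.2.2.2.1⟩ ⟨_, h1⟩ ⟨_, h2⟩) h3, xJ, mul_assoc _ (fJ _ * mJ _), hjl]

theorem eP_b1 {i : ℕ} (hi : i < 315) : eP i b1 = papp o1T i := (e_row hi).2.2.1

theorem o1_inj {i k : ℕ} (hi : i < 315) (hk : k < 315) (h : papp o1T i = papp o1T k) : i = k := by
  rw [← (e_row hi).2.2.2.1, h, (e_row hk).2.2.2.1]

theorem o2_inj {i k : ℕ} (hi : i < 160) (hk : k < 160) (h : papp o2T i = papp o2T k) : i = k := by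
  rcases lt_trichotomy i k with h' | h' | h'
  · exact absurd h.symm ((f_row hk).2.2.2.2 i h')
  · exact h'
  · exact absurd h ((f_row hi).2.2.2.2 k h')

theorem o3_inj {i k : ℕ} (hi : i < 12) (hk : k < 12) (h : papp o3T i = papp o3T k) : i = k := by
  rcases lt_trichotomy i k with h' | h' | h'
  · exact absurd h.symm ((m_row hk).2.2.2.2.2 i h')
  · exact h'
  · exact absurd h ((m_row hi).2.2.2.2.2 k h')

/-- elements are determined by the three base lines -/
theorem xJ_inj {i i' : Fin 315} {j j' : Fin 160} {l l' : Fin 12}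
    (h : ∀ x ∈ baseL, ∀ hx : x < 315, xJ i j l • (⟨x, hx⟩ : Fin 315) = xJ i' j' l' • ⟨x, hx⟩) :
    i = i' ∧ j = j' ∧ l = l' := by
  have hb : b1 ∈ baseL ∧ b2 ∈ baseL ∧ b3 ∈ baseL := by decide +kernel
  have e1 := congrArg Fin.val (h b1 hb.1 b1_lt)
  rw [acts_xJ, acts_xJ] at e1
  simp only [xP, (m_row l.isLt).2.2.1, (m_row l'.isLt).2.2.1, (f_row j.isLt).2.2.1, (f_row j'.isLt).2.2.1,
    eP_b1 i.isLt, eP_b1 i'.isLt] at e1
  obtain rfl : i = i' := Fin.ext (o1_inj i.isLt i'.isLt e1)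
  have e2 := h b2 hb.2.1 b2_lt
  rw [xJ, xJ, mul_smul, mul_smul, mul_smul, mul_smul] at e2
  have e2' := congrArg Fin.val (MulAction.injective (eJ i) e2)
  rw [acts_fJ, acts_fJ, acts_mJ, acts_mJ] at e2'
  simp only [(m_row l.isLt).2.2.2.1, (m_row l'.isLt).2.2.2.1, (f_row j.isLt).2.2.2.1, (f_row j'.isLt).2.2.2.1] at e2'
  obtain rfl : j = j' := Fin.ext (o2_inj j.isLt j'.isLt e2')
  have e3 := h b3 hb.2.2 b3_lt
  rw [xJ, xJ, mul_smul, mul_smul, mul_smul, mul_smul] at e3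
  have e3' := congrArg Fin.val (MulAction.injective (fJ j) (MulAction.injective (eJ i) e3))
  rw [acts_mJ, acts_mJ] at e3'
  simp only [(m_row l.isLt).2.2.2.2.1, (m_row l'.isLt).2.2.2.2.1] at e3'
  exact ⟨rfl, rfl, Fin.ext (o3_inj l.isLt l'.isLt e3')⟩

theorem eq_of_base {p q : J2} (h : ∀ x ∈ baseL, ∀ hx : x < 315, p • (⟨x, hx⟩ : Fin 315) = q • ⟨x, hx⟩) : p = q := by
  obtain ⟨i, j, l, rfl⟩ := exists_xJ p
  obtain ⟨i', j', l', rfl⟩ := exists_xJ q
  obtain ⟨rfl, rfl, rfl⟩ := xJ_inj h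
  rfl

theorem Acts.eq_one {p : J2} {σ : ℕ → ℕ} (hp : Acts p σ) (h : (baseL.all fun x => Nat.beq (σ x) x) = true) : p = 1 :=
  eq_of_base fun x hx hx' => Fin.ext (by rw [hp, one_smul]; exact nbeq.1 (List.all_eq_true.1 h x hx))

/-- the elements of the Hall–Janko group -/
theorem xJ_bijective : Function.Bijective (fun p : Fin 315 × Fin 160 × Fin 12 => xJ p.1 p.2.1 p.2.2) := by
  refine ⟨fun a b h => ?_, fun q => ?_⟩
  · have h' : xJ a.1 a.2.1 a.2.2 = xJ b.1 b.2.1 b.2.2 := h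
    obtain ⟨h1, h2, h3⟩ := xJ_inj (i := a.1) (i' := b.1) (j := a.2.1) (j' := b.2.1) (l := a.2.2) (l' := b.2.2)
      fun x _ hx => by rw [h']
    exact Prod.ext h1 (Prod.ext h2 h3)
  · obtain ⟨i, j, l, h⟩ := exists_xJ q
    exact ⟨(i, j, l), h.symm⟩

theorem card_J2 : Nat.card J2 = 604800 := by
  rw [← Nat.card_congr (Equiv.ofBijective _ xJ_bijective), Nat.card_prod, Nat.card_prod, Nat.card_fin, Nat.card_fin,
    Nat.card_fin]

theorem card_twoJ2 : Nat.card twoJ2 = 1209600 := by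
  rw [Subgroup.card_eq_card_quotient_mul_card_subgroup (Subgroup.center twoJ2), card_center]
  show Nat.card J2 * 2 = 1209600
  rw [card_J2]

theorem eJ_pos (i : Fin 315) : eJ (pos i) • p1 = i := eG_pos i

end Cfsg.Agent.J2Cert

end
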