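import Cfsg.Agent.Lib.Spor.J2.PermDefs

/-! The normal extraspecial subgroup of the centraliser of a reflection. -/

set_option autoImplicit false
set_option maxHeartbeats 4000000
set_option maxRecDepth 10000

noncomputable section

namespace Cfsg.Agent.J2Cert

/-- the thirty-two elements, in normal form -/
def qList : List (Nat × Nat) := [(0, 0), (2, 7), (3, 0), (6, 10), (8, 7), (11, 7), (14, 0), (17, 10), (22, 10), (25, 10), (32, 0), (40, 0), (45, 0), (55, 7), (65, 11), (73, 7), (86, 10), (88, 0), (92, 0), (95, 6), (119, 11), (120, 7), (126, 11), (129, 3), (137, 2), (140, 0), (144, 1), (150, 0), (151, 1), (153, 5), (154, 7), (155, 7)]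

/-- their multiplication table -/
def qTab : List (List Nat) := [[0, 1, 2, 3, 4, 5, 6, 7, 8, 9, 10, 11, 12, 13, 14, 15, 16, 17, 18, 19, 20, 21, 22, 23, 24, 25, 26, 27, 28, 29, 30, 31],
  [1, 3, 5, 6, 8, 9, 0, 11, 12, 10, 2, 15, 13, 4, 27, 16, 7, 21, 17, 31, 26, 22, 18, 20, 25, 14, 28, 24, 23, 30, 19, 29],
  [2, 5, 0, 9, 7, 1, 10, 4, 11, 3, 6, 8, 15, 16, 22, 12, 13, 24, 27, 23, 31, 25, 14, 19, 17, 21, 29, 18, 30, 26, 28, 20],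
  [3, 6, 9, 0, 12, 10, 1, 15, 13, 2, 5, 16, 4, 8, 24, 7, 11, 22, 21, 29, 28, 18, 17, 26, 14, 27, 23, 25, 20, 19, 31, 30],
  [4, 8, 15, 12, 3, 16, 13, 2, 6, 7, 11, 5, 0, 1, 26, 9, 10, 29, 31, 17, 27, 30, 19, 14, 23, 20, 24, 28, 25, 22, 18, 21],
  [5, 9, 1, 10, 11, 3, 2, 8, 15, 6, 0, 12, 16, 7, 18, 13, 4, 25, 24, 20, 29, 14, 27, 31, 21, 22, 30, 17, 19, 28, 23, 26],
  [6, 0, 10, 1, 13, 2, 3, 16, 4, 5, 9, 7, 8, 12, 25, 11, 15, 18, 22, 30, 23, 17, 21, 28, 27, 24, 20, 14, 26, 31, 29, 19],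
  [7, 11, 12, 15, 9, 13, 16, 0, 10, 4, 8, 1, 2, 5, 29, 3, 6, 26, 20, 24, 18, 28, 23, 22, 19, 31, 17, 30, 21, 14, 27, 25],
  [8, 12, 16, 13, 6, 7, 4, 5, 0, 11, 15, 9, 1, 3, 28, 10, 2, 30, 29, 21, 24, 19, 31, 27, 20, 26, 25, 23, 14, 18, 17, 22],
  [9, 10, 3, 2, 15, 6, 5, 12, 16, 0, 1, 13, 7, 11, 17, 4, 8, 14, 25, 26, 30, 27, 24, 29, 22, 18, 19, 21, 31, 23, 20, 28],
  [10, 2, 6, 5, 16, 0, 9, 13, 7, 1, 3, 4, 11, 15, 21, 8, 12, 27, 14, 28, 19, 24, 25, 30, 18, 17, 31, 22, 29, 20, 26, 23],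
  [11, 15, 13, 16, 10, 4, 7, 1, 2, 8, 12, 3, 5, 9, 30, 6, 0, 28, 26, 25, 17, 23, 20, 18, 31, 29, 21, 19, 22, 27, 24, 14],
  [12, 13, 7, 4, 0, 11, 8, 9, 1, 15, 16, 10, 3, 6, 23, 2, 5, 19, 30, 22, 25, 31, 29, 24, 26, 28, 14, 20, 27, 17, 21, 18],
  [13, 4, 11, 8, 1, 15, 12, 10, 3, 16, 7, 2, 6, 0, 20, 5, 9, 31, 19, 18, 14, 29, 30, 25, 28, 23, 27, 26, 24, 21, 22, 17],
  [14, 25, 17, 24, 23, 18, 27, 29, 28, 22, 21, 31, 26, 20, 3, 19, 30, 9, 10, 7, 8, 5, 2, 12, 0, 6, 4, 1, 13, 15, 11, 16],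
  [15, 16, 4, 7, 2, 8, 11, 3, 5, 12, 13, 6, 9, 10, 19, 0, 1, 23, 28, 14, 21, 20, 26, 17, 29, 30, 22, 31, 18, 24, 25, 27],
  [16, 7, 8, 11, 5, 12, 15, 6, 9, 13, 4, 0, 10, 2, 31, 1, 3, 20, 23, 27, 22, 26, 28, 21, 30, 19, 18, 29, 17, 25, 14, 24],
  [17, 18, 14, 22, 29, 25, 21, 23, 31, 24, 27, 28, 19, 30, 2, 26, 20, 0, 1, 12, 16, 6, 3, 7, 9, 5, 15, 10, 11, 4, 13, 8],
  [18, 22, 25, 21, 31, 24, 17, 28, 19, 27, 14, 26, 30, 29, 10, 20, 23, 6, 0, 8, 15, 3, 1, 16, 5, 2, 11, 9, 7, 13, 12, 4],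
  [19, 30, 23, 29, 17, 28, 31, 24, 18, 26, 20, 27, 22, 21, 7, 14, 25, 12, 13, 3, 5, 8, 4, 9, 15, 11, 2, 16, 10, 0, 6, 1],
  [20, 23, 31, 28, 25, 19, 26, 21, 24, 30, 29, 17, 27, 14, 8, 18, 22, 16, 7, 10, 3, 15, 11, 6, 13, 12, 1, 4, 0, 5, 2, 9],
  [21, 17, 27, 18, 30, 14, 22, 20, 29, 25, 24, 23, 31, 19, 5, 28, 26, 1, 3, 13, 7, 0, 6, 11, 10, 9, 16, 2, 15, 8, 4, 12],
  [22, 21, 24, 17, 19, 27, 18, 26, 30, 14, 25, 20, 29, 31, 9, 23, 28, 3, 6, 4, 11, 1, 0, 15, 2, 10, 7, 5, 16, 12, 8, 13],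
  [23, 28, 19, 26, 24, 30, 20, 17, 27, 29, 31, 18, 14, 25, 4, 22, 21, 15, 16, 9, 1, 11, 7, 3, 12, 8, 0, 13, 6, 2, 10, 5],
  [24, 27, 22, 14, 26, 21, 25, 19, 20, 17, 18, 30, 23, 28, 0, 29, 31, 2, 5, 15, 13, 10, 9, 4, 3, 1, 12, 6, 8, 7, 16, 11],
  [25, 24, 18, 27, 28, 22, 14, 31, 26, 21, 17, 19, 20, 23, 1, 30, 29, 5, 9, 16, 4, 2, 10, 8, 6, 3, 13, 0, 12, 11, 7, 15],
  [26, 20, 29, 23, 14, 31, 28, 22, 25, 19, 30, 21, 24, 27, 12, 17, 18, 7, 11, 2, 6, 16, 15, 0, 4, 13, 3, 8, 1, 9, 5, 10],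
  [27, 14, 21, 25, 20, 17, 24, 30, 23, 18, 22, 29, 28, 26, 6, 31, 19, 10, 2, 11, 12, 9, 5, 13, 1, 0, 8, 3, 4, 16, 15, 7],
  [28, 26, 30, 20, 27, 29, 23, 18, 14, 31, 19, 22, 25, 24, 13, 21, 17, 11, 15, 5, 0, 7, 16, 1, 8, 4, 6, 12, 3, 10, 9, 2],
  [29, 31, 26, 19, 22, 20, 30, 14, 21, 23, 28, 25, 17, 18, 15, 24, 27, 4, 8, 0, 10, 13, 12, 2, 7, 16, 9, 11, 5, 3, 1, 6],
  [30, 29, 28, 31, 18, 26, 19, 27, 22, 20, 23, 14, 21, 17, 16, 25, 24, 8, 12, 1, 2, 4, 13, 5, 11, 7, 10, 15, 9, 6, 3, 0],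
  [31, 19, 20, 30, 21, 23, 29, 25, 17, 28, 26, 24, 18, 22, 11, 27, 14, 13, 4, 6, 9, 12, 8, 10, 16, 15, 5, 7, 2, 1, 0, 3]]

/-- permutation of an element -/
def qP (a x : Nat) : Nat := fP (qList.getD a (0, 0)).1 (mP (qList.getD a (0, 0)).2 x)

/-- product in the table -/
def qM (a b : Nat) : Nat := (qTab.getD a []).getD b 0

theorem q_chk : (allN 32 fun a => Nat.blt (qList.getD a (0, 0)).1 160 && Nat.blt (qList.getD a (0, 0)).2 12 &&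
    (allN a fun b => !(Nat.beq (qList.getD a (0, 0)).1 (qList.getD b (0, 0)).1 && Nat.beq (qList.getD a (0, 0)).2 (qList.getD b (0, 0)).2)) &&
    allN 32 fun b => Nat.blt (qM a b) 32 && agree frame (fun x => qP a (qP b x)) (qP (qM a b))) = true := by
  decide +kernel

theorem qz_chk : (allN 32 fun a => Nat.beq (qM 3 a) (qM a 3) &&
    (Nat.beq (qM a a) 0 || Nat.beq (qM a a) 3) &&
    (allN 32 fun b => Nat.beq (qM a b) (qM b a) || Nat.beq (qM a b) (qM 3 (qM b a))) &&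
    (Nat.beq a 0 || Nat.beq a 3 || !(allN 32 fun b => Nat.beq (qM a b) (qM b a)))) = true := by
  decide +kernel

end Cfsg.Agent.J2Cert

end
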