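import Mathlib
import Cfsg.Agent.Lib.Spor.J2.CheckQ

/-! The map of the centraliser of a reflection onto the alternating group of degree five. -/

set_option autoImplicit false
set_option maxHeartbeats 4000000
set_option maxRecDepth 10000

noncomputable section

namespace Cfsg.Agent.J2Cert

/-- the target -/
abbrev A5 := alternatingGroup (Fin 5)

/-- images of the four generators -/
def img : ℕ → A5
  | 0 => ⟨Equiv.swap 1 2 * Equiv.swap 3 4, Equiv.Perm.mem_alternatingGroup.2 (by decide +kernel)⟩
  | 1 => ⟨List.formPerm [0, 1, 3], Equiv.Perm.mem_alternatingGroup.2 (by decide +kernel)⟩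
  | 2 => ⟨List.formPerm [0, 1, 4], Equiv.Perm.mem_alternatingGroup.2 (by decide +kernel)⟩
  | _ => ⟨List.formPerm [1, 4, 3], Equiv.Perm.mem_alternatingGroup.2 (by decide +kernel)⟩

/-- images of the first level -/
def alp : ℕ → ℕ → A5
  | 0, _ => 1
  | k + 1, j => bif Nat.beq j 0 then 1 else img (papp flabT j) * alp k (papp fparT j)

/-- images of the last level -/
def bet : ℕ → ℕ → A5
  | 0, _ => 1
  | k + 1, l => bif Nat.beq l 0 then 1 else img (2 + papp mlabT l) * bet k (papp mparT l)

theorem alp_step : (allN 160 fun j => Nat.beq j 0 || decide (alp 24 j = img (papp flabT j) * alp 24 (papp fparT j))) = true := by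
  decide +kernel

theorem bet_step : (allN 12 fun l => Nat.beq l 0 || decide (bet 12 l = img (2 + papp mlabT l) * bet 12 (papp mparT l))) = true := by
  decide +kernel

theorem img2_chk : (allN 4 fun s => allN 160 fun j =>
    decide (img s * alp 24 j = alp 24 (papp (sk2a.getD s 0) j) * bet 12 (papp (sk2b.getD s 0) j))) = true := by
  decide +kernel

theorem img3_chk : (allN 2 fun s => allN 12 fun l =>
    decide (img (s + 2) * bet 12 l = bet 12 (papp (sk3.getD s 0) l))) = true := by
  decide +kernel

theorem ker_chk : (allN 160 fun j => allN 12 fun l => !(decide (alp 24 j * bet 12 l = 1)) ||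
    (List.range 32).any fun a => Nat.beq (qList.getD a (0, 0)).1 j && Nat.beq (qList.getD a (0, 0)).2 l) = true := by
  decide +kernel

theorem ker_chk' : (allN 32 fun a =>
    decide (alp 24 (qList.getD a (0, 0)).1 * bet 12 (qList.getD a (0, 0)).2 = 1)) = true := by
  decide +kernel

end Cfsg.Agent.J2Cert

end
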