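import Mathlib
import Cfsg.Agent.Lib.Spor.J2.Group
import Cfsg.Agent.Lib.Spor.J2.CheckOrder

/-! The Hall–Janko group is simple; its element orders. -/

set_option autoImplicit false

noncomputable section

namespace Cfsg.Agent.J2Cert

open Quaternion Cfsg.Spor

theorem conj_row (x : Fin 315) : papp subT x < 6 ∧ ∃ j : Fin 160, ∃ l : Fin 12,
    fP j (mP l x) = subRep.getD (papp subT x) 0 ∧ ((x : ℕ) = b1 ∨ papp subT x ≠ 0) := by
  have h := allN_spec conj_chk x x.isLt
  simp only [conjRow, Bool.and_eq_true, Bool.or_eq_true, Bool.not_eq_true', nblt, nbeq] at h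
  obtain ⟨⟨⟨⟨h1, h2⟩, h3⟩, h4⟩, h5⟩ := h
  refine ⟨h1, ⟨_, h2⟩, ⟨_, h3⟩, h4, h5.imp id fun e h0 => ?_⟩
  rw [h0, Nat.beq_refl] at e
  exact Bool.noConfusion e

theorem rep_lt {o : ℕ} (ho : o < 6) : subRep.getD o 0 < 315 := nblt.1 (allN_spec sub_chk o ho)

/-- the transversal element of a suborbit -/
def eSub (o : ℕ) (ho : o < 6) : J2 := eJ (pos ⟨_, rep_lt ho⟩)

theorem eSub_b1 {o : ℕ} (ho : o < 6) : eSub o ho • p1 = (⟨_, rep_lt ho⟩ : Fin 315) := eJ_pos _

theorem acts_eSub {o : ℕ} (ho : o < 6) : Acts (eSub o ho) (eP (subI o)) := acts_eJ _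

theorem fm_fix (j : Fin 160) (l : Fin 12) : (fJ j * mJ l) • p1 = p1 :=
  Fin.ext (by rw [mul_smul, acts_fJ, acts_mJ]; show fP j (mP l b1) = b1; rw [(m_row l.isLt).2.2.1, (f_row j.isLt).2.2.1])

theorem normal_eq_top (N : Subgroup J2) [hN : N.Normal] (hne : N ≠ ⊥) : N = ⊤ := by
  classical
  let InB : Fin 315 → Prop := fun y => ∃ n ∈ N, n • p1 = y
  have hbase : InB p1 := ⟨1, one_mem _, one_smul _ _⟩
  have mapB : ∀ g : J2, InB (g • p1) → ∀ y, InB y → InB (g • y) := by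
    rintro g ⟨m, hm, hm0⟩ y ⟨n, hn, hn0⟩
    refine ⟨g * n * g⁻¹ * m, mul_mem (hN.conj_mem n hn g) hm, ?_⟩
    rw [mul_smul, hm0, mul_smul, inv_smul_smul, mul_smul, hn0]
  have hstab : ∀ (j : Fin 160) (l : Fin 12) (y : Fin 315), InB y → InB ((fJ j * mJ l) • y) := fun j l =>
    mapB _ (by rw [fm_fix]; exact hbase)
  obtain ⟨r, hr, hr0⟩ : ∃ r : Fin 315, InB r ∧ r ≠ p1 := by
    by_contra hc
    push Not at hc
    refine hne ((Subgroup.eq_bot_iff_forall _).2 fun n hn => eq_of_smul fun x => ?_)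
    have := hc (((eJ (pos x))⁻¹ * n * eJ (pos x)) • p1) ⟨_, by simpa using hN.conj_mem n hn (eJ (pos x))⁻¹, rfl⟩
    rw [mul_smul, mul_smul, eJ_pos, inv_smul_eq_iff, eJ_pos] at this
    rw [this, one_smul]
  obtain ⟨ho, j, l, hrep, hro⟩ := conj_row r
  have ho0 : papp subT r ≠ 0 := hro.resolve_left fun e => hr0 (Fin.ext e)
  set o := papp subT r
  have hqB : InB ⟨_, rep_lt ho⟩ := by
    have : (fJ j * mJ l) • r = ⟨_, rep_lt ho⟩ := Fin.ext (by rw [mul_smul, acts_fJ, acts_mJ]; exact hrep)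
    exact this ▸ hstab j l r hr
  have hmove : ∀ (j : Fin 160) (l : Fin 12) (y : Fin 315), InB y → InB ((eSub o ho * (fJ j * mJ l)) • y) := fun j l y hy => by
    rw [mul_smul]
    exact mapB _ (by rw [eSub_b1]; exact hqB) _ (hstab j l y hy)
  have hwalk : ∀ p : List (ℕ × ℕ), (∀ k ∈ p, k.1 < 160 ∧ k.2 < 12) → ∀ y : Fin 315, InB y →
      ∃ z : Fin 315, (z : ℕ) = walk o p y ∧ InB z := by
    intro p
    induction p with
    | nil => exact fun _ y hy => ⟨y, rfl, hy⟩
    | cons k p ih =>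
      intro hp y hy
      obtain ⟨h1, h2⟩ := hp k (by simp)
      obtain ⟨z, hz, hzB⟩ := ih (fun q hq => hp q (by simp [hq])) _ (hmove ⟨k.1, h1⟩ ⟨k.2, h2⟩ y hy)
      refine ⟨z, hz.trans ?_, hzB⟩
      rw [walk, mul_smul, mul_smul, acts_eSub, acts_fJ, acts_mJ]
      rfl
  have hgB : ∀ (s : Fin 4) (y : Fin 315), InB y → InB (gJ s • y) := by
    intro s
    refine mapB _ ?_
    have h := allN_spec (allN_spec path_chk (o - 1) (by omega)) s s.isLt
    simp only [Bool.and_eq_true, List.all_eq_true, nblt, nbeq] at h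
    rw [show o - 1 + 1 = o by omega] at h
    obtain ⟨z, hz, hzB⟩ := hwalk _ h.1 p1 hbase
    have : gJ s • p1 = z := Fin.ext ((acts_gJ s p1).trans (h.2.symm.trans hz.symm))
    exact this ▸ hzB
  have hall : ∀ k, ∀ hk : k < 315, InB ⟨papp o1T k, (o1_mem k hk).2⟩ := by
    intro k
    induction k using Nat.strong_induction_on with
    | h k ih =>
      intro hk
      obtain ⟨h1, h2, h3, -⟩ := e_row hk
      by_cases h0 : k = 0
      · have : (⟨papp o1T k, (o1_mem k hk).2⟩ : Fin 315) = p1 := Fin.ext (by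
          show papp o1T k = b1
          rw [← h3, h2 b1 b1_lt, h0]
          rfl)
        exact this ▸ hbase
      · obtain ⟨hp, hs⟩ := h1 h0
        have := hgB ⟨_, hs⟩ _ (ih _ hp (hp.trans hk))
        have e : (⟨papp o1T k, (o1_mem k hk).2⟩ : Fin 315) = gJ ⟨_, hs⟩ • ⟨papp o1T (papp eparT k), (o1_mem _ (hp.trans hk)).2⟩ :=
          Fin.ext (by
            rw [acts_gJ]
            show papp o1T k = gP (papp elabT k) (papp o1T (papp eparT k))
            rw [← h3, h2 b1 b1_lt, show Nat.beq k 0 = false from Bool.not_eq_true _ ▸ fun e => h0 (nbeq.1 e), cond_false,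
              eP_b1 (hp.trans hk)])
        exact e ▸ this
  have h315 : 315 ∣ Nat.card N := by
    have ht : MulAction.orbit N p1 = Set.univ := Set.eq_univ_of_forall fun y => by
      obtain ⟨-, -, -, -, h5, h6⟩ := e_row y.isLt
      obtain ⟨m, hm, e⟩ := hall _ h5
      exact ⟨⟨m, hm⟩, e.trans (Fin.ext h6)⟩
    have h := MulAction.index_stabilizer N p1
    rw [ht, Set.ncard_univ, Nat.card_fin] at h
    rw [← h]
    exact Subgroup.index_dvd_card _
  have hidx : N.index ∣ 1920 := by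
    obtain ⟨c, hc⟩ := h315
    have h := Subgroup.card_mul_index N
    rw [card_J2, hc, mul_assoc] at h
    exact ⟨c, by rw [mul_comm]; omega⟩
  have seven : ∀ x : J2, x ^ 7 = 1 → x ∈ N := fun x hx => by
    refine (QuotientGroup.eq_one_iff x).1 (orderOf_eq_one_iff.1 (Nat.dvd_one.1 ?_))
    have h1 : orderOf (x : J2 ⧸ N) ∣ 7 := orderOf_dvd_of_pow_eq_one (by rw [← QuotientGroup.mk_pow, hx]; rfl)
    have h2 : orderOf (x : J2 ⧸ N) ∣ 1920 := ((Subgroup.index_eq_card N) ▸ orderOf_dvd_natCard _ : _ ∣ N.index).trans hidx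
    exact (Nat.dvd_gcd h1 h2).trans (by norm_num)
  rw [← top_le_iff, ← closure_gJ, Subgroup.closure_le]
  rintro _ ⟨s, rfl⟩
  have h := allN_spec seven_chk s s.isLt
  simp only [sevenRow, Bool.and_eq_true, nblt] at h
  obtain ⟨⟨⟨⟨hi, hj⟩, hl⟩, hx⟩, hy⟩ := h
  have ax := acts_xJ ⟨_, hi⟩ ⟨_, hj⟩ ⟨_, hl⟩
  have h1 := seven _ ((ax.pow 7).eq_one hx)
  have h2 := seven _ ((((acts_gJ s).mul ax).pow 7).eq_one hy)
  simpa using mul_mem h2 (inv_mem h1)

theorem simple_J2 : IsSimpleGroup J2 := by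
  haveI : Nontrivial J2 := Finite.one_lt_card_iff_nontrivial.1 (by rw [card_J2]; norm_num)
  exact ⟨fun N hN => (em (N = ⊥)).imp id fun h => normal_eq_top N (hN := hN) h⟩

theorem noncomm_J2 : ∃ a b : J2, a * b ≠ b * a := by
  by_contra hc
  push Not at hc
  haveI := simple_J2
  letI : CommGroup J2 := { (inferInstance : Group J2) with mul_comm := hc }
  have h := (IsSimpleGroup.prime_card (α := J2))
  rw [card_J2] at h
  norm_num at h

theorem ord_row {o : ℕ} (ho : o < 6) (j : Fin 160) (l : Fin 12) : ordOf o j l < 11 ∧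
    (eSub o ho * (fJ j * mJ l)) ^ ordList.getD (ordOf o j l) 0 = 1 := by
  have h := allN_spec ord_chk (12 * o + l) (by omega)
  simp only [ordRow, show (12 * o + (l : ℕ)) / 12 = o by omega, show (12 * o + (l : ℕ)) % 12 = l by omega] at h
  have h' := allN_spec h j j.isLt
  simp only [Bool.and_eq_true, nblt] at h'
  exact ⟨h'.1, (((acts_eSub ho).mul ((acts_fJ j).mul (acts_mJ l))).pow _).eq_one h'.2⟩

/-- Element orders of the Hall–Janko group. -/
theorem range_orderOf : Set.range (orderOf : J2 → ℕ) = {n | n ∈ ordList} := by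
  ext n
  constructor
  · rintro ⟨g, rfl⟩
    obtain ⟨ho, j, l, hrep, -⟩ := conj_row (g • p1)
    set o := papp subT (g • p1 : Fin 315)
    set c := fJ j * mJ l
    have hc : (c * g * c⁻¹) • p1 = ⟨_, rep_lt ho⟩ := by
      rw [mul_smul, mul_smul, show c⁻¹ • p1 = p1 from inv_smul_eq_iff.2 (fm_fix j l).symm]
      exact Fin.ext (by rw [mul_smul, acts_fJ, acts_mJ]; exact hrep)
    obtain ⟨i, j', l', hx⟩ := exists_xJ (c * g * c⁻¹)
    have hi : i = pos ⟨_, rep_lt ho⟩ := by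
      refine Fin.ext (o1_inj i.isLt (pos ⟨_, rep_lt ho⟩).isLt ?_)
      rw [hx, xJ, mul_smul, fm_fix] at hc
      rw [← eP_b1 i.isLt, ← eP_b1 (pos ⟨_, rep_lt ho⟩).isLt]
      exact (acts_eJ i p1).symm.trans ((congrArg Fin.val (hc.trans (eJ_pos _).symm)).trans (acts_eJ _ p1))
    subst hi
    obtain ⟨h1, h2⟩ := ord_row ho j' l'
    have hord : orderOf g ∣ ordList.getD (ordOf o j' l') 0 := by
      rw [← orderOf_injective (MulAut.conj c).toMonoidHom (MulAut.conj c).injective]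
      show orderOf (c * g * c⁻¹) ∣ _
      rw [hx]
      exact orderOf_dvd_of_pow_eq_one h2
    have hm := allN_spec ordList_mem _ h1
    simp only [Bool.and_eq_true, Bool.not_eq_true', List.contains_iff_mem] at hm
    have hne : ordList.getD (ordOf o j' l') 0 ≠ 0 := fun e => by
      rw [e, Nat.beq_refl] at hm; exact Bool.noConfusion hm.2
    have key : ∀ m ∈ ordList, ∀ d ∈ Nat.divisors m, d ∈ ordList := by decide +kernel
    exact key _ hm.1 _ (Nat.mem_divisors.2 ⟨hord, hne⟩)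
  · intro hn
    obtain ⟨k, hk, rfl⟩ : ∃ k < 11, n = ordList.getD k 0 := by
      obtain ⟨k, hk, rfl⟩ := List.getElem_of_mem (show n ∈ ordList from hn)
      exact ⟨k, hk, (List.getD_eq_getElem _ _ hk).symm⟩
    have hw := allN_spec wit_chk k hk
    simp only [witRow, Bool.and_eq_true, nblt, nbeq] at hw
    set w := ordWit.getD k (0, 0, 0)
    obtain ⟨⟨⟨⟨ho, hj⟩, hl⟩, hidx⟩, hmin⟩ := hw
    obtain ⟨-, h2⟩ := ord_row ho ⟨_, hj⟩ ⟨_, hl⟩
    simp only [hidx] at h2
    set x := eSub w.1 ho * (fJ ⟨_, hj⟩ * mJ ⟨_, hl⟩)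
    refine ⟨x, ?_⟩
    have hn0 : ordList.getD k 0 ≠ 0 := fun e => by
      have := allN_spec ordList_mem k hk
      rw [e] at this
      simp at this
    have hdvd := orderOf_dvd_of_pow_eq_one h2
    by_contra hne
    have hlt : orderOf x < ordList.getD k 0 := lt_of_le_of_ne (Nat.le_of_dvd (Nat.pos_of_ne_zero hn0) hdvd) hne
    have h' := allN_spec hmin _ hlt
    simp only [Bool.or_eq_true, Bool.not_eq_true', List.any_eq_true, nbeq] at h'
    rcases h' with (e | e) | ⟨f, hf, e⟩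
    · exact (orderOf_pos x).ne' e
    · rw [Nat.mod_eq_zero_of_dvd hdvd, Nat.beq_refl] at e
      exact Bool.noConfusion e
    · have hf' : f < 315 := nblt.1 (List.all_eq_true.1 base_lt f hf)
      have hp := ((acts_eSub ho).mul ((acts_fJ ⟨_, hj⟩).mul (acts_mJ ⟨_, hl⟩))).pow (orderOf x) ⟨f, hf'⟩
      rw [pow_orderOf_eq_one, one_smul] at hp
      rw [show itr (xP (subI w.1) w.2.1 w.2.2) (orderOf x) f = f from hp.symm, Nat.beq_refl] at e
      exact Bool.noConfusion e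

theorem ncard_minimal : {r : Fin 3 → ℍ[ℝ] | r ∈ icoLeech ∧ qip r r = 4}.ncard = 37800 := by
  have e : {r : Fin 3 → ℍ[ℝ] | r ∈ icoLeech ∧ qip r r = 4} =
      Set.range fun p : Fin 120 × Fin 315 => lsmul (uq p.1) (lv p.2) := by
    ext r
    constructor
    · rintro ⟨hr, h4⟩
      obtain ⟨u, hu, i, hi, e⟩ := min_classify hr h4
      exact ⟨(⟨u, hu⟩, ⟨i, hi⟩), e.symm⟩
    · rintro ⟨⟨u, i⟩, rfl⟩
      exact ⟨lam_smul (uq_mem u.isLt) (lv_mem i.isLt), qip_lsmul_lsmul (uq_mul_star u.isLt) (lv_norm i.isLt)⟩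
  rw [e, Set.ncard_range_of_injective, Nat.card_prod, Nat.card_fin, Nat.card_fin]
  intro p q h
  obtain ⟨h1, h2⟩ := line_unique' p.2.isLt q.2.isLt p.1.isLt q.1.isLt h
  exact Prod.ext (Fin.ext h2) (Fin.ext h1)

theorem ncard_refl : {f : Equiv.Perm icoLeech | IsIcoReflection f}.ncard = 315 := by
  have e : {f : Equiv.Perm icoLeech | IsIcoReflection f} = Set.range fun i => (refl i : Equiv.Perm icoLeech) := by
    ext f
    constructor
    · intro hf
      obtain ⟨i, hi⟩ := exists_line hf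
      exact ⟨i, (hi.unique (refl_isRefl i)).symm⟩
    · rintro ⟨i, rfl⟩
      exact (refl_isRefl i).isRefl
  rw [e, Set.ncard_range_of_injective (fun i j h => refl_injective (Subtype.ext h)), Nat.card_fin]

theorem refl_transitive {f f' : Equiv.Perm icoLeech} (hf : IsIcoReflection f) (hf' : IsIcoReflection f') :
    ∃ g ∈ twoJ2, g * f * g⁻¹ = f' := by
  obtain ⟨i, hi⟩ := exists_line hf
  obtain ⟨j, hj⟩ := exists_line hf'
  refine ⟨((eG (pos j) * (eG (pos i))⁻¹ : twoJ2) : Equiv.Perm icoLeech), SetLike.coe_mem _, ?_⟩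
  rw [hi.unique (refl_isRefl i), hj.unique (refl_isRefl j)]
  have h := refl_conj (eG (pos j) * (eG (pos i))⁻¹) i
  rw [mul_smul, inv_smul_eq_iff.2 (eG_pos i).symm, eG_pos] at h
  exact congrArg Subtype.val h

end Cfsg.Agent.J2Cert

end
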