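import Mathlib
import Cfsg.Prelude.Def_Transfer
import Cfsg.Agent.Lib.Grp.Frattini
import Cfsg.Agent.Lib.Spor.J2.Structure
import Cfsg.Agent.Lib.Spor.J2.QuotA5

/-! The centraliser of a reflection in the Hall–Janko group. -/

set_option autoImplicit false

noncomputable section

namespace Cfsg.Agent.J2Cert

open Cfsg.Spor
open scoped commutatorElement

/-- A group of order `32` with centre of order two containing all squares and commutators is extraspecial. -/
theorem extraspecial_of_facts {Q : Type*} [Group Q] [Finite Q] (hcard : Nat.card Q = 32)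
    (hZ : Nat.card (Subgroup.center Q) = 2) (hsq : ∀ x : Q, x ^ 2 ∈ Subgroup.center Q)
    (hcomm : ∀ x y : Q, x * y * x⁻¹ * y⁻¹ ∈ Subgroup.center Q) : Cfsg.IsExtraspecial 2 Q := by
  haveI : Fact (Nat.Prime 2) := ⟨Nat.prime_two⟩
  have hp : IsPGroup 2 Q := IsPGroup.of_card (n := 5) (by rw [hcard]; norm_num)
  have h1 : commutator Q ≤ Subgroup.center Q := by
    rw [commutator_eq_closure, Subgroup.closure_le]
    rintro _ ⟨x, y, rfl⟩
    rw [commutatorElement_def]
    exact hcomm x y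
  have hne : commutator Q ≠ ⊥ := fun e => by
    have : Subgroup.center Q = ⊤ := eq_top_iff.2 fun x _ => Subgroup.mem_center_iff.2 fun g => by
      have h : ⁅g, x⁆ ∈ commutator Q := Subgroup.commutator_mem_commutator (Subgroup.mem_top _) (Subgroup.mem_top _)
      rw [e, Subgroup.mem_bot] at h
      exact commutatorElement_eq_one_iff_mul_comm.1 h
    rw [this, Subgroup.card_top, hcard] at hZ
    norm_num at hZ
  have hc : commutator Q = Subgroup.center Q := by
    refine Subgroup.eq_of_le_of_card_ge h1 ?_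
    rw [hZ]
    have := (Subgroup.one_lt_card_iff_ne_bot _).2 hne
    omega
  refine ⟨⟨hp, le_antisymm ?_ ?_, hc⟩, hZ⟩
  · exact Grp.frattini_le_of_elementary Nat.prime_two h1 hsq
  · exact hc ▸ Grp.pGroup_commutator_le_frattini hp

/-- the image of the reflection in the first base line -/
def zJ : J2 := QuotientGroup.mk r0

theorem acts_zJ : Acts zJ r0P := fun x => r0_smul x

theorem mk_refl_smul (q : J2) (i : Fin 315) :
    q * (QuotientGroup.mk (refl i) : J2) * q⁻¹ = QuotientGroup.mk (refl (q • i)) := by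
  obtain ⟨g, rfl⟩ := QuotientGroup.mk_surjective q
  rw [mk_smul, ← refl_conj]
  rfl

theorem fm_comm (j : Fin 160) (l : Fin 12) : fJ j * mJ l * zJ = zJ * (fJ j * mJ l) := by
  have h := mk_refl_smul (fJ j * mJ l) p1
  rw [fm_fix, refl_p1] at h
  exact mul_inv_eq_iff_eq_mul.1 h

theorem mem_C {q : J2} : q ∈ Subgroup.centralizer ({zJ} : Set J2) ↔ ∃ j l, q = fJ j * mJ l := by
  rw [Subgroup.mem_centralizer_singleton_iff]
  constructor
  · intro h
    obtain ⟨i, j, l, rfl⟩ := exists_xJ q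
    have hc := fm_comm j l
    rw [xJ] at h
    have he : eJ i * zJ = zJ * eJ i := by
      apply mul_right_cancel (b := fJ j * mJ l)
      calc eJ i * zJ * (fJ j * mJ l) = eJ i * ((fJ j * mJ l) * zJ) := by rw [hc, mul_assoc]
        _ = zJ * eJ i * (fJ j * mJ l) := by simpa [mul_assoc] using h
    have hagree : agree frame (fun x => eP i (r0P x)) (fun x => r0P (eP i x)) = true :=
      List.all_eq_true.2 fun f hf => by
        have hf' : f < 315 := nblt.1 (List.all_eq_true.1 frame_lt f hf)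
        have h1 := ((acts_eJ i).mul acts_zJ) ⟨f, hf'⟩
        have h2 := (acts_zJ.mul (acts_eJ i)) ⟨f, hf'⟩
        rw [he, h2] at h1
        exact nbeq.2 h1.symm
    have h0 := allN_spec r0_conj_chk i i.isLt
    rw [hagree, Bool.not_true, Bool.or_false] at h0
    obtain rfl : i = 0 := Fin.ext (nbeq.1 h0)
    exact ⟨j, l, by rw [xJ, eJ_zero, one_mul]⟩
  · rintro ⟨j, l, rfl⟩
    exact fm_comm j l

/-- the centraliser -/
abbrev Cz : Subgroup J2 := Subgroup.centralizer ({zJ} : Set J2)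

/-- normal form in the centraliser -/
def cz (p : Fin 160 × Fin 12) : Cz := ⟨fJ p.1 * mJ p.2, mem_C.2 ⟨_, _, rfl⟩⟩

theorem cz_bij : Function.Bijective cz := by
  refine ⟨fun a b h => ?_, fun q => ?_⟩
  · have h' : fJ a.1 * mJ a.2 = fJ b.1 * mJ b.2 := congrArg Subtype.val h
    obtain ⟨-, h1, h2⟩ := xJ_inj (i := 0) (i' := 0) (j := a.1) (j' := b.1) (l := a.2) (l' := b.2)
      fun x _ hx => by rw [xJ, xJ, h']
    exact Prod.ext h1 h2
  · obtain ⟨j, l, h⟩ := mem_C.1 q.2
    exact ⟨(j, l), Subtype.ext h.symm⟩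

/-- generators together with their images -/
def graphGen (s : Fin 4) : J2 × A5 := (hnJ s s.isLt, img s)

theorem alp_zero : alp 24 0 = 1 := rfl
theorem bet_zero : bet 12 0 = 1 := rfl

theorem pair_m : ∀ l, ∀ hl : l < 12,
    (mJ ⟨l, hl⟩, bet 12 l) ∈ Subgroup.closure (Set.range fun s : Fin 2 => (nJ s, img (s + 2))) := by
  intro l
  induction l using Nat.strong_induction_on with
  | h l ih =>
    intro hl
    by_cases h0 : l = 0
    · subst h0
      rw [show (⟨0, hl⟩ : Fin 12) = 0 from rfl, mJ_zero, bet_zero]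
      exact one_mem _
    · obtain ⟨h1, h2, -⟩ := m_row hl
      obtain ⟨hp, hs⟩ := h1 h0
      have hb := allN_spec bet_step l hl
      simp only [Bool.or_eq_true, nbeq, h0, decide_eq_true_eq, false_or] at hb
      have he : mJ ⟨l, hl⟩ = nJ ⟨_, hs⟩ * mJ ⟨_, hp.trans hl⟩ := eq_of_smul fun x => Fin.ext (by
        rw [acts_mJ, (acts_nJ _).mul (acts_mJ _), h2 x x.isLt,
          show Nat.beq l 0 = false from Bool.not_eq_true _ ▸ fun e => h0 (nbeq.1 e), cond_false])
      rw [he, hb, Nat.add_comm 2]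
      exact mul_mem (Subgroup.subset_closure (Set.mem_range_self (⟨_, hs⟩ : Fin 2)) :
        ((nJ ⟨_, hs⟩, img (papp mlabT l + 2)) : J2 × A5) ∈ _) (ih _ hp (hp.trans hl))

theorem pair_f : ∀ j, ∀ hj : j < 160, (fJ ⟨j, hj⟩, alp 24 j) ∈ Subgroup.closure (Set.range graphGen) := by
  intro j
  induction j using Nat.strong_induction_on with
  | h j ih =>
    intro hj
    by_cases h0 : j = 0
    · subst h0
      rw [show (⟨0, hj⟩ : Fin 160) = 0 from rfl, fJ_zero, alp_zero]
      exact one_mem _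
    · obtain ⟨h1, h2, -⟩ := f_row hj
      obtain ⟨hp, hs⟩ := h1 h0
      have hb := allN_spec alp_step j hj
      simp only [Bool.or_eq_true, nbeq, h0, decide_eq_true_eq, false_or] at hb
      have hs4 : papp flabT j < 4 := hs.trans (by norm_num)
      have he : fJ ⟨j, hj⟩ = hnJ (papp flabT j) hs4 * fJ ⟨_, hp.trans hj⟩ := eq_of_smul fun x => Fin.ext (by
        rw [acts_fJ, (acts_hnJ _).mul (acts_fJ _), h2 x x.isLt,
          show Nat.beq j 0 = false from Bool.not_eq_true _ ▸ fun e => h0 (nbeq.1 e), cond_false]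
        simp only [hnP, show Nat.blt (papp flabT j) 2 = true from nblt.2 hs, cond_true])
      rw [he, hb]
      exact mul_mem (Subgroup.subset_closure (Set.mem_range_self (f := graphGen) (⟨_, hs4⟩ : Fin 4)) :
        ((hnJ (papp flabT j) hs4, img (papp flabT j)) : J2 × A5) ∈ _) (ih _ hp (hp.trans hj))

theorem pair_le : Subgroup.closure (Set.range fun s : Fin 2 => (nJ s, img (s + 2))) ≤
    Subgroup.closure (Set.range graphGen) := by
  refine (Subgroup.closure_le _).2 ?_
  rintro _ ⟨s, rfl⟩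
  refine Subgroup.subset_closure ⟨⟨s + 2, by omega⟩, ?_⟩
  have := s.isLt
  simp [graphGen, hnJ]

theorem pair_m_mul (a b : Fin 12) : ∃ c : Fin 12, mJ a * mJ b = mJ c ∧ bet 12 a * bet 12 b = bet 12 c := by
  have key := stable_mem (S := Set.range fun l : Fin 12 => (mJ l, bet 12 l)) ?_ (pair_m a a.isLt) _ ⟨b, rfl⟩
  · obtain ⟨c, hc⟩ := key
    exact ⟨c, (Prod.ext_iff.1 hc).1.symm, (Prod.ext_iff.1 hc).2.symm⟩
  rintro _ ⟨s, rfl⟩ _ ⟨l, rfl⟩
  have h := allN_spec (allN_spec close3_chk s s.isLt) l l.isLt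
  simp only [close3, Bool.and_eq_true, nblt] at h
  have hi := allN_spec (allN_spec img3_chk s s.isLt) l l.isLt
  simp only [decide_eq_true_eq] at hi
  exact ⟨⟨_, h.1⟩, Prod.ext (((acts_nJ s).mul (acts_mJ l)).ext (acts_mJ ⟨_, h.1⟩) h.2).symm hi.symm⟩

theorem pair_mul (p q : Fin 160 × Fin 12) : ∃ r : Fin 160 × Fin 12, cz p * cz q = cz r ∧
    alp 24 p.1 * bet 12 p.2 * (alp 24 q.1 * bet 12 q.2) = alp 24 r.1 * bet 12 r.2 := by
  have key := stable_mem (S := Set.range fun p : Fin 160 × Fin 12 => (fJ p.1 * mJ p.2, alp 24 p.1 * bet 12 p.2))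
    (T := Set.range graphGen) ?_ (mul_mem (pair_f p.1 p.1.isLt) (pair_le (pair_m p.2 p.2.isLt))) _ ⟨q, rfl⟩
  · obtain ⟨r, hr⟩ := key
    exact ⟨r, Subtype.ext (Prod.ext_iff.1 hr).1.symm, (Prod.ext_iff.1 hr).2.symm⟩
  rintro _ ⟨s, rfl⟩ _ ⟨⟨j, l⟩, rfl⟩
  have h := allN_spec (allN_spec close2_chk s s.isLt) j j.isLt
  simp only [close2, Bool.and_eq_true, nblt] at h
  obtain ⟨⟨h1, h2⟩, h3⟩ := h
  have hi := allN_spec (allN_spec img2_chk s s.isLt) j j.isLt
  simp only [decide_eq_true_eq] at hi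
  obtain ⟨l', hl', hb⟩ := pair_m_mul ⟨_, h2⟩ l
  refine ⟨(⟨_, h1⟩, l'), Prod.ext ?_ ?_⟩
  · show fJ _ * mJ l' = hnJ s s.isLt * (fJ j * mJ l)
    rw [← mul_assoc (hnJ s s.isLt), ((acts_hnJ s.isLt).mul (acts_fJ j)).ext ((acts_fJ ⟨_, h1⟩).mul (acts_mJ ⟨_, h2⟩)) h3,
      mul_assoc, hl']
  · show alp 24 _ * bet 12 l' = img s * (alp 24 j * bet 12 l)
    rw [← mul_assoc (img s), hi, mul_assoc, ← hb]

/-- the map onto the alternating group -/
def phi : Cz →* A5 :=
  MonoidHom.mk' (fun x => alp 24 ((Equiv.ofBijective cz cz_bij).symm x).1 * bet 12 ((Equiv.ofBijective cz cz_bij).symm x).2)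
    fun x y => by
      set e := Equiv.ofBijective cz cz_bij
      obtain ⟨p, rfl⟩ := e.surjective x
      obtain ⟨q, rfl⟩ := e.surjective y
      obtain ⟨r, hr, hv⟩ := pair_mul p q
      have hr' : e p * e q = e r := hr
      simp only [hr', Equiv.symm_apply_apply, hv]

theorem phi_cz (p : Fin 160 × Fin 12) : phi (cz p) = alp 24 p.1 * bet 12 p.2 := by
  show alp 24 ((Equiv.ofBijective cz cz_bij).symm (Equiv.ofBijective cz cz_bij p)).1 *
    bet 12 ((Equiv.ofBijective cz cz_bij).symm (Equiv.ofBijective cz cz_bij p)).2 = _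
  rw [Equiv.symm_apply_apply]

theorem q_row {a : ℕ} (ha : a < 32) : (qList.getD a (0, 0)).1 < 160 ∧ (qList.getD a (0, 0)).2 < 12 ∧
    (∀ b < a, qList.getD a (0, 0) ≠ qList.getD b (0, 0)) ∧
    ∀ b < 32, qM a b < 32 ∧ agree frame (fun x => qP a (qP b x)) (qP (qM a b)) = true := by
  have h := allN_spec q_chk a ha
  simp only [Bool.and_eq_true, nblt] at h
  obtain ⟨⟨⟨h1, h2⟩, h3⟩, h4⟩ := h
  refine ⟨h1, h2, fun b hb e => ?_, fun b hb => ?_⟩
  · have := allN_spec h3 b hb
    rw [e, Nat.beq_refl, Nat.beq_refl] at this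
    exact Bool.noConfusion this
  · have h := allN_spec h4 b hb
    simp only [Bool.and_eq_true, nblt] at h
    exact h

/-- elements of the kernel -/
def qk (a : Fin 32) : phi.ker :=
  ⟨cz (⟨_, (q_row a.isLt).1⟩, ⟨_, (q_row a.isLt).2.1⟩), by
    rw [MonoidHom.mem_ker, phi_cz]
    exact of_decide_eq_true (allN_spec ker_chk' a a.isLt)⟩

theorem qk_inj : Function.Injective qk := by
  intro a b h
  have h' := cz_bij.1 (congrArg Subtype.val h)
  have e : qList.getD a (0, 0) = qList.getD b (0, 0) :=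
    Prod.ext (congrArg (fun p => (p.1 : ℕ)) h') (congrArg (fun p => (p.2 : ℕ)) h')
  rcases lt_trichotomy (a : ℕ) b with hlt | heq | hgt
  · exact absurd e.symm ((q_row b.isLt).2.2.1 a hlt)
  · exact Fin.ext heq
  · exact absurd e ((q_row a.isLt).2.2.1 b hgt)

theorem qk_surj : Function.Surjective qk := by
  rintro ⟨x, hx⟩
  obtain ⟨⟨j, l⟩, rfl⟩ := cz_bij.2 x
  have h := allN_spec (allN_spec ker_chk j j.isLt) l l.isLt
  rw [MonoidHom.mem_ker, phi_cz] at hx
  simp only [hx, decide_true, Bool.not_true, Bool.false_or, List.any_eq_true, List.mem_range, Bool.and_eq_true, nbeq] at h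
  obtain ⟨a, ha, e1, e2⟩ := h
  exact ⟨⟨a, ha⟩, Subtype.ext (congrArg cz (Prod.ext (Fin.ext e1) (Fin.ext e2)))⟩

theorem card_ker : Nat.card phi.ker = 32 := by
  rw [← Nat.card_eq_of_bijective qk ⟨qk_inj, qk_surj⟩, Nat.card_fin]

theorem phi_surj : Function.Surjective phi := by
  rw [← MonoidHom.range_eq_top]
  refine Subgroup.eq_top_of_card_eq _ ?_
  have h1 := Subgroup.card_mul_index phi.ker
  rw [Subgroup.index_ker, card_ker, ← Nat.card_eq_of_bijective cz cz_bij, Nat.card_prod, Nat.card_fin, Nat.card_fin] at h1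
  have h2 : Nat.card A5 = 60 := by rw [Nat.card_eq_fintype_card]; decide +kernel
  omega

theorem qk_mul (a b : Fin 32) : qk a * qk b = qk ⟨qM a b, ((q_row a.isLt).2.2.2 b b.isLt).1⟩ := by
  refine Subtype.ext (Subtype.ext ?_)
  exact Acts.ext (((acts_fJ _).mul (acts_mJ _)).mul ((acts_fJ _).mul (acts_mJ _))) ((acts_fJ _).mul (acts_mJ _))
    ((q_row a.isLt).2.2.2 b b.isLt).2

theorem qz_row (a : Fin 32) : qM 3 a = qM a 3 ∧ (qM a a = 0 ∨ qM a a = 3) ∧
    (∀ b : Fin 32, qM a b = qM b a ∨ qM a b = qM 3 (qM b a)) ∧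
    ((∀ b : Fin 32, qM a b = qM b a) → (a : ℕ) = 0 ∨ (a : ℕ) = 3) := by
  have h := allN_spec qz_chk a a.isLt
  simp only [Bool.and_eq_true, Bool.or_eq_true, nbeq, Bool.not_eq_true'] at h
  obtain ⟨⟨⟨h1, h2⟩, h3⟩, h4⟩ := h
  refine ⟨h1, h2, fun b => ?_, fun hall => ?_⟩
  · have := allN_spec h3 b b.isLt
    simpa only [Bool.or_eq_true, nbeq] using this
  · rcases h4 with h4 | h4
    · exact h4
    · exfalso
      have hT : allN 32 (fun b => Nat.beq (qM a b) (qM b a)) = true := by
        have key : ∀ n ≤ 32, allN n (fun b => Nat.beq (qM a b) (qM b a)) = true := by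
          intro n
          induction n with
          | zero => exact fun _ => rfl
          | succ n ih =>
            intro hn
            simp only [allN, Bool.and_eq_true]
            exact ⟨nbeq.2 (hall ⟨n, by omega⟩), ih (by omega)⟩
        exact key 32 le_rfl
      rw [hT] at h4
      exact Bool.noConfusion h4

theorem qk_zero : qk 0 = 1 := by
  have h := qk_mul 0 0
  rw [show (⟨qM (0 : Fin 32) (0 : Fin 32), ((q_row (0 : Fin 32).isLt).2.2.2 _ (0 : Fin 32).isLt).1⟩ : Fin 32) = 0 from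
    Fin.ext (by decide +kernel)] at h
  exact mul_eq_left.1 h

theorem center_ker : (Subgroup.center phi.ker : Set phi.ker) = {qk 0, qk 3} := by
  ext x
  obtain ⟨a, rfl⟩ := qk_surj x
  rw [SetLike.mem_coe, Subgroup.mem_center_iff]
  constructor
  · intro h
    rcases (qz_row a).2.2.2 fun b => by
      have := h (qk b)
      rw [qk_mul, qk_mul] at this
      exact (congrArg Fin.val (qk_inj this)).symm with e | e
    · exact Or.inl (congrArg qk (Fin.ext e))
    · exact Or.inr (congrArg qk (Fin.ext e))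
  · intro h g
    rcases h with h | h
    · rw [h, qk_zero, mul_one, one_mul]
    · rw [h]
      obtain ⟨b, rfl⟩ := qk_surj g
      rw [qk_mul, qk_mul]
      exact congrArg qk (Fin.ext (qz_row b).1.symm)

theorem extraspecial_ker : Cfsg.IsExtraspecial 2 phi.ker := by
  have hz : ∀ x : phi.ker, x = qk 0 ∨ x = qk 3 → x ∈ Subgroup.center phi.ker := fun x hx => by
    rw [← SetLike.mem_coe, center_ker]; exact hx
  refine extraspecial_of_facts card_ker ?_ (fun x => ?_) fun x y => ?_
  · rw [← SetLike.coe_sort_coe, Nat.card_coe_set_eq, center_ker, Set.ncard_pair (fun e => absurd (qk_inj e) (by decide))]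
  · obtain ⟨a, rfl⟩ := qk_surj x
    refine hz _ ?_
    rw [sq, qk_mul]
    exact (qz_row a).2.1.imp (fun e => congrArg qk (Fin.ext e)) fun e => congrArg qk (Fin.ext e)
  · obtain ⟨a, rfl⟩ := qk_surj x
    obtain ⟨b, rfl⟩ := qk_surj y
    rcases (qz_row a).2.2.1 b with e | e
    · rw [show qk a * qk b = qk b * qk a by rw [qk_mul, qk_mul]; exact congrArg qk (Fin.ext e), mul_inv_cancel_right,
        mul_inv_cancel]
      exact one_mem _
    · rw [show qk a * qk b = qk 3 * (qk b * qk a) by rw [qk_mul b a, qk_mul, qk_mul]; exact congrArg qk (Fin.ext e),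
        ← mul_assoc (qk 3), mul_inv_cancel_right, mul_inv_cancel_right]
      exact hz _ (Or.inr rfl)

/-- The centraliser of the image of any reflection. -/
theorem centralizer_structure {f : Equiv.Perm icoLeech} (hf : IsIcoReflection f) (hfm : f ∈ twoJ2) :
    ∃ (Q : Subgroup ↥(Subgroup.centralizer {(QuotientGroup.mk ⟨f, hfm⟩ : J2)})) (_ : Q.Normal),
      Nat.card Q = 32 ∧ Cfsg.IsExtraspecial 2 Q ∧
      Nonempty (↥(Subgroup.centralizer {(QuotientGroup.mk ⟨f, hfm⟩ : J2)}) ⧸ Q ≃* alternatingGroup (Fin 5)) := by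
  obtain ⟨i, hi⟩ := exists_line hf
  have hfi : (⟨f, hfm⟩ : twoJ2) = refl i := Subtype.ext (hi.unique (refl_isRefl i))
  have hw : (QuotientGroup.mk ⟨f, hfm⟩ : J2) = eJ (pos i) * zJ * (eJ (pos i))⁻¹ := by
    rw [zJ, ← refl_p1, mk_refl_smul, eJ_pos, hfi]
  generalize (QuotientGroup.mk ⟨f, hfm⟩ : J2) = w at hw ⊢
  set g := eJ (pos i)
  have hC : Subgroup.centralizer ({w} : Set J2) = Cz.map (MulAut.conj g).toMonoidHom := by
    ext x
    simp only [Subgroup.mem_map, Subgroup.mem_centralizer_singleton_iff, MulEquiv.coe_toMonoidHom, MulAut.conj_apply]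
    constructor
    · intro h
      refine ⟨g⁻¹ * x * g, ?_, by group⟩
      rw [hw] at h
      calc g⁻¹ * x * g * zJ = g⁻¹ * (x * (g * zJ * g⁻¹)) * g := by group
        _ = g⁻¹ * ((g * zJ * g⁻¹) * x) * g := by rw [h]
        _ = zJ * (g⁻¹ * x * g) := by group
    · rintro ⟨y, hy, rfl⟩
      rw [hw]
      calc g * y * g⁻¹ * (g * zJ * g⁻¹) = g * (y * zJ) * g⁻¹ := by group
        _ = g * (zJ * y) * g⁻¹ := by rw [hy]
        _ = g * zJ * g⁻¹ * (g * y * g⁻¹) := by group
  let E : Subgroup.centralizer ({w} : Set J2) ≃* Cz :=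
    (MulEquiv.subgroupCongr hC).trans (Cz.equivMapOfInjective _ (MulAut.conj g).injective).symm
  let Ψ := phi.comp E.toMonoidHom
  let e : Ψ.ker ≃* phi.ker :=
    { toFun := fun x => ⟨E x, x.2⟩
      invFun := fun y => ⟨E.symm y, by
        show phi (E (E.symm y)) = 1
        rw [E.apply_symm_apply]
        exact y.2⟩
      left_inv := fun x => Subtype.ext (E.symm_apply_apply _)
      right_inv := fun y => Subtype.ext (E.apply_symm_apply _)
      map_mul' := fun x y => Subtype.ext (map_mul E _ _) }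
  refine ⟨Ψ.ker, inferInstance, ?_, ?_, ⟨QuotientGroup.quotientKerEquivOfSurjective Ψ (phi_surj.comp E.surjective)⟩⟩
  · rw [Nat.card_congr e.toEquiv, card_ker]
  ·
    haveI : Finite Ψ.ker := Finite.of_equiv _ e.symm.toEquiv
    refine extraspecial_of_facts ((Nat.card_congr e.toEquiv).trans card_ker) ?_ (fun x => ?_) fun x y => ?_
    · rw [Nat.card_congr (Subgroup.centerCongr e).toEquiv]; exact extraspecial_ker.2
    · obtain ⟨⟨-, -, hc⟩, -⟩ := extraspecial_ker
      refine Subgroup.mem_center_iff.2 fun g => e.injective ?_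
      simp only [map_mul, map_pow]
      haveI : Fact (Nat.Prime 2) := ⟨Nat.prime_two⟩
      exact Subgroup.mem_center_iff.1 (extraspecial_ker.1.2.1 ▸ Grp.pGroup_pow_mem_frattini extraspecial_ker.1.1 (e x)) _
    · refine Subgroup.mem_center_iff.2 fun g => e.injective ?_
      simp only [map_mul, map_inv]
      refine Subgroup.mem_center_iff.1 (extraspecial_ker.1.2.2.le ?_) _
      rw [← commutatorElement_def]
      exact Subgroup.commutator_mem_commutator (Subgroup.mem_top _) (Subgroup.mem_top _)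

end Cfsg.Agent.J2Cert

end
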