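import Cfsg.Agent.Lib.Spor.J2.CheckQ

/-! Fusion inside a Sylow 2-subgroup. -/

set_option autoImplicit false
set_option maxHeartbeats 4000000
set_option maxRecDepth 10000

noncomputable section

namespace Cfsg.Agent.J2Cert

/-- reflections in the subgroup: transversal index and position -/
def qRefl : List (Nat × Nat) := [(16, 8), (22, 15), (132, 17), (75, 18), (43, 21), (153, 22), (120, 7), (29, 13), (162, 2), (34, 9), (0, 3)]

/-- a tree spanning the subgroup: element, reflection, parent -/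
def qTree : List (Nat × Nat × Nat) := [(0, 0, 0), (8, 0, 0), (15, 1, 0), (17, 2, 0), (18, 3, 0), (21, 4, 0), (22, 5, 0), (7, 6, 0), (13, 7, 0), (2, 8, 0), (9, 9, 0), (3, 10, 0), (5, 1, 1), (31, 2, 1), (19, 3, 1), (29, 4, 1), (30, 5, 1), (10, 6, 1), (11, 8, 1), (16, 9, 1), (26, 2, 2), (20, 3, 2), (28, 4, 2), (23, 5, 2), (12, 8, 2), (4, 9, 2), (6, 3, 3), (1, 4, 3), (24, 8, 3), (14, 9, 3), (27, 8, 4), (25, 9, 4)]

/-- fusions out of the subgroup: element, conjugator, image -/
def qFuse : List (Nat × (Nat × Nat × Nat) × (Nat × Nat)) := [(1, (43, 144, 3), (100, 6)), (1, (43, 115, 7), (72, 9))]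

theorem refl_chk : (allN 11 fun t => let w := qRefl.getD t (0, 0)
    Nat.blt w.1 315 && Nat.blt w.2 32 && agree frame (fun x => eP w.1 (r0P x)) (fun x => qP w.2 (eP w.1 x))) = true := by
  decide +kernel

theorem tree_chk : (allN 32 fun n => let w := qTree.getD n (0, 0, 0)
    Nat.blt w.1 32 && (bif Nat.beq n 0 then Nat.beq w.1 0 else
      Nat.blt w.2.2 n && Nat.blt w.2.1 11 &&
        Nat.beq w.1 (qM (qRefl.getD w.2.1 (0, 0)).2 (qTree.getD w.2.2 (0, 0, 0)).1))) = true := by
  decide +kernel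

theorem tree_full : (allN 32 fun a => (List.range 32).any fun n => Nat.beq (qTree.getD n (0, 0, 0)).1 a) = true := by
  decide +kernel

theorem z_chk : agree frame r0P (qP 3) = true := by decide +kernel

theorem fuse_chk : (allN 2 fun t => let w := qFuse.getD t (0, (0, 0, 0), (0, 0))
    Nat.blt w.1 32 && Nat.blt w.2.1.1 315 && Nat.blt w.2.1.2.1 160 && Nat.blt w.2.1.2.2 12 &&
      Nat.blt w.2.2.1 160 && Nat.blt w.2.2.2 12 &&
      agree frame (fun x => xP w.2.1.1 w.2.1.2.1 w.2.1.2.2 (qP w.1 x))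
        (fun x => fP w.2.2.1 (mP w.2.2.2 (xP w.2.1.1 w.2.1.2.1 w.2.1.2.2 x)))) = true := by
  decide +kernel

/-- the centraliser of the subgroup -/
theorem cq_chk : (allN 160 fun j => allN 12 fun l =>
    ((List.range 32).any fun a => Nat.beq (qList.getD a (0, 0)).1 j && Nat.beq (qList.getD a (0, 0)).2 l) ||
      [25, 6].any fun a => !(agree frame (fun x => fP j (mP l (qP a x))) (fun x => qP a (fP j (mP l x))))) = true := by
  decide +kernel

end Cfsg.Agent.J2Cert

end
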