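import Mathlib
import Cfsg.Prelude.Def_Spor_J2
import Cfsg.Agent.Lib.Fus.SimpleCriterion
import Cfsg.Agent.Lib.Spor.J2.Centraliser
import Cfsg.Agent.Lib.Spor.J2.CheckSylow

/-! The 2-fusion system of the Hall–Janko group is simple. -/

set_option autoImplicit false

noncomputable section

namespace Cfsg.Agent.J2Cert

open Cfsg.Spor

/-- Data in a group forcing a simple 2-fusion system on a Sylow subgroup. -/
structure SimpleData {G : Type*} [Group G] (S : Subgroup G) : Prop where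
  data : ∃ (z : G) (Q : Subgroup G), z ∈ S ∧ z ≠ 1 ∧
    (∀ w ∈ S, (∀ s ∈ S, s * w = w * s) → w = 1 ∨ w = z) ∧
    Q ≤ S ∧ S ≤ Subgroup.normalizer (Q : Set G) ∧ Subgroup.centralizer (Q : Set G) ≤ Q ∧
    (∀ s ∈ S, s * z = z * s) ∧
    Subgroup.centralizer ({z} : Set G) ≤
      Subgroup.closure {x : G | x ∈ Subgroup.normalizer (Q : Set G) ∧ ∃ k : ℕ, x ^ 2 ^ k = 1} ∧
    ∀ T : Subgroup G, z ∈ T → (∀ g : G, ∀ x ∈ T, g * x * g⁻¹ ∈ S → g * x * g⁻¹ ∈ T) → S ≤ T

theorem mem_normalizer_map {G H : Type*} [Group G] [Group H] (E : G ≃* H) {Q : Subgroup G} {x : G}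
    (hx : x ∈ Subgroup.normalizer (Q : Set G)) : E x ∈ Subgroup.normalizer ((Q.map E.toMonoidHom : Subgroup H) : Set H) := by
  have h := Subgroup.le_normalizer_map E.toMonoidHom (Subgroup.mem_map_of_mem E.toMonoidHom hx)
  exact h

theorem SimpleData.map {G H : Type*} [Group G] [Group H] (E : G ≃* H) {S : Subgroup G} (h : SimpleData S) :
    SimpleData (S.map E.toMonoidHom) := by
  obtain ⟨z, Q, h1, h2, h3, h4, h5, h6, h7, h8, h9⟩ := h.data
  have hm : ∀ (K : Subgroup G) (x : G), E x ∈ K.map E.toMonoidHom ↔ x ∈ K := fun K x =>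
    ⟨fun ⟨y, hy, e⟩ => E.injective e ▸ hy, fun hx => ⟨x, hx, rfl⟩⟩
  refine ⟨E z, Q.map E.toMonoidHom, (hm S z).2 h1, fun e => h2 (E.injective (e.trans (map_one E).symm)), ?_, ?_, ?_, ?_, ?_, ?_, ?_⟩
  · intro w hw hc
    obtain ⟨w, hw', rfl⟩ := hw
    rcases h3 w hw' fun s hs => E.injective (by simpa using hc (E s) ((hm S s).2 hs)) with e | e
    · exact Or.inl (by rw [e]; exact map_one E)
    · exact Or.inr (by rw [e]; rfl)
  · exact Subgroup.map_mono h4
  · rintro _ ⟨x, hx, rfl⟩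
    exact mem_normalizer_map E (h5 hx)
  · intro c hc
    obtain ⟨c, rfl⟩ := E.surjective c
    refine (hm Q c).2 (h6 (Subgroup.mem_centralizer_iff.2 fun q hq => E.injective ?_))
    simpa using Subgroup.mem_centralizer_iff.1 hc (E q) ((hm Q q).2 hq)
  · rintro _ ⟨s, hs, rfl⟩
    show E s * E z = E z * E s
    rw [← map_mul, ← map_mul, h7 s hs]
  · intro x hx
    obtain ⟨x, rfl⟩ := E.surjective x
    have hx' : x ∈ Subgroup.centralizer ({z} : Set G) := Subgroup.mem_centralizer_singleton_iff.2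
      (E.injective (by simpa using Subgroup.mem_centralizer_singleton_iff.1 hx))
    have h := Subgroup.mem_map_of_mem E.toMonoidHom (h8 hx')
    rw [MonoidHom.map_closure] at h
    refine Subgroup.closure_mono ?_ h
    rintro _ ⟨y, ⟨hy, k, hk⟩, rfl⟩
    exact ⟨mem_normalizer_map E hy, k, by rw [← map_pow, hk, map_one]⟩
  · intro T hz hT
    rw [Subgroup.map_le_iff_le_comap]
    refine h9 (T.comap E.toMonoidHom) hz fun g x hx hgx => ?_
    have := hT (E g) (E x) hx (by rw [← map_inv E, ← map_mul, ← map_mul]; exact (hm S _).2 hgx)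
    show E (g * x * g⁻¹) ∈ T
    rwa [map_mul, map_mul, map_inv]

theorem SimpleData.isSimple {G : Type*} [Group G] [Finite G] (S : Sylow 2 G) (h : SimpleData (S : Subgroup G)) :
    (Cfsg.groupFusionSystem (S : Subgroup G)).IsSimple 2 := by
  haveI : Fact (Nat.Prime 2) := ⟨Nat.prime_two⟩
  obtain ⟨z, Q, h1, h2, h3, h4, h5, h6, h7, h8, h9⟩ := h.data
  refine Fus.isSimple_group_of S ?_ ?_ ?_
  · intro e
    rw [e, Subgroup.mem_bot] at h1
    exact h2 h1
  · intro T hTS hT1 hTn hTc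
    refine h9 T ?_ hTc
    haveI : (T.subgroupOf (S : Subgroup G)).Normal := Subgroup.normal_subgroupOf_of_le_normalizer hTn
    haveI : Group.IsNilpotent (S : Subgroup G) := S.2.isNilpotent
    obtain ⟨w, hw, hw1⟩ := Subgroup.bot_or_exists_ne_one _ |>.resolve_left
      (Grp.inf_center_ne_bot (T.subgroupOf (S : Subgroup G)) fun h => hT1 (by
        rw [Subgroup.subgroupOf_eq_bot] at h
        exact h.eq_bot_of_le hTS))
    rcases h3 w w.2 fun s hs => congrArg Subtype.val (Subgroup.mem_center_iff.1 hw.2 ⟨s, hs⟩) with e | e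
    · exact absurd (Subtype.ext e) hw1
    · exact e ▸ hw.1
  · intro g hg
    have hgz : g * z * g⁻¹ = z := by
      have hgS := (Subgroup.mem_normalizer_iff.1 hg z).1 h1
      refine (h3 _ hgS fun s hs => ?_).resolve_left fun e => h2 (by
        have h' := congrArg (fun t => g⁻¹ * t * g) e
        simpa [mul_assoc] using h')
      have hs' : g⁻¹ * s * g ∈ (S : Subgroup G) := (Subgroup.mem_normalizer_iff.1 hg _).2 (by simpa [mul_assoc] using hs)
      calc s * (g * z * g⁻¹) = g * ((g⁻¹ * s * g) * z) * g⁻¹ := by group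
        _ = g * (z * (g⁻¹ * s * g)) * g⁻¹ := by rw [h7 _ hs']
        _ = g * z * g⁻¹ * s := by group
    refine Subgroup.subset_closure ⟨hg, Or.inr ⟨Q, h4, h5, h6, h8 ?_⟩⟩
    exact Subgroup.mem_centralizer_singleton_iff.2 (mul_inv_eq_iff_eq_mul.1 hgz)

/-- the four-group -/
def V4 : Subgroup A5 where
  carrier := {a | ∀ x : Fin 5, x = 4 → (a : Equiv.Perm (Fin 5)) x = x} ∩
    {a | (a : Equiv.Perm (Fin 5)) * (a : Equiv.Perm (Fin 5)) = 1}
  one_mem' := ⟨fun _ _ => rfl, by simp⟩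
  mul_mem' := fun {a b} ha hb => by
    have key : ∀ a b : A5, ((∀ x : Fin 5, x = 4 → (a : Equiv.Perm (Fin 5)) x = x) ∧
        (a : Equiv.Perm (Fin 5)) * (a : Equiv.Perm (Fin 5)) = 1) →
      ((∀ x : Fin 5, x = 4 → (b : Equiv.Perm (Fin 5)) x = x) ∧
        (b : Equiv.Perm (Fin 5)) * (b : Equiv.Perm (Fin 5)) = 1) →
      ((∀ x : Fin 5, x = 4 → ((a * b : A5) : Equiv.Perm (Fin 5)) x = x) ∧
        ((a * b : A5) : Equiv.Perm (Fin 5)) * ((a * b : A5) : Equiv.Perm (Fin 5)) = 1) := by decide +kernel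
    exact key a b ha hb
  inv_mem' := fun {a} ha => by
    have e : a⁻¹ = a := inv_eq_of_mul_eq_one_right (Subtype.ext ha.2)
    rwa [e]

theorem mem_V4 {a : A5} : a ∈ V4 ↔ (∀ x : Fin 5, x = 4 → (a : Equiv.Perm (Fin 5)) x = x) ∧
    (a : Equiv.Perm (Fin 5)) * (a : Equiv.Perm (Fin 5)) = 1 := Iff.rfl

theorem card_V4 : Nat.card V4 = 4 := by
  have h : (V4 : Set A5) = ↑(Finset.univ.filter fun a : A5 => (∀ x : Fin 5, x = 4 → (a : Equiv.Perm (Fin 5)) x = x) ∧
    (a : Equiv.Perm (Fin 5)) * (a : Equiv.Perm (Fin 5)) = 1) := by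
    ext a; simp [mem_V4]
  rw [← SetLike.coe_sort_coe, Nat.card_coe_set_eq, h, Set.ncard_coe_finset]
  decide +kernel

/-- the Sylow subgroup -/
def S0 : Subgroup J2 := (V4.comap phi).map Cz.subtype

/-- the extraspecial subgroup -/
def Q0 : Subgroup J2 := phi.ker.map Cz.subtype

theorem card_S0 : Nat.card S0 = 128 := by
  rw [S0, Subgroup.card_map_of_injective Cz.subtype_injective]
  have h1 := Subgroup.card_mul_index (V4.comap phi)
  rw [Subgroup.index_comap_of_surjective _ phi_surj, ← Nat.card_eq_of_bijective cz cz_bij, Nat.card_prod, Nat.card_fin,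
    Nat.card_fin] at h1
  have h2 := Subgroup.card_mul_index V4
  rw [card_V4, show Nat.card A5 = 60 by rw [Nat.card_eq_fintype_card]; decide +kernel] at h2
  rw [show V4.index = 15 by omega] at h1
  omega

theorem Q0_le : Q0 ≤ S0 := Subgroup.map_mono (MonoidHom.ker_le_comap _ _)

/-- elements of the extraspecial subgroup as elements of the group -/
def qJ (a : Fin 32) : J2 := ((qk a : Cz) : J2)

theorem qJ_mem (a : Fin 32) : qJ a ∈ Q0 := ⟨(qk a : Cz), (qk a).2, rfl⟩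

theorem acts_qJ (a : Fin 32) : Acts (qJ a) (qP a) := (acts_fJ _).mul (acts_mJ _)

theorem mem_Q0 {x : J2} (hx : x ∈ Q0) : ∃ a, x = qJ a := by
  obtain ⟨y, hy, rfl⟩ := hx
  obtain ⟨a, ha⟩ := qk_surj ⟨y, hy⟩
  exact ⟨a, by rw [qJ, ha]; rfl⟩

theorem zJ_eq : zJ = qJ 3 := acts_zJ.ext (acts_qJ 3) z_chk

theorem qJ_zero : qJ 0 = 1 := by rw [qJ, qk_zero]; rfl

theorem centralizer_Q0 : Subgroup.centralizer (Q0 : Set J2) ≤ Q0 := by
  intro x hx
  rw [Subgroup.mem_centralizer_iff] at hx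
  have hz : x ∈ Cz := Subgroup.mem_centralizer_singleton_iff.2 (by rw [zJ_eq]; exact (hx _ (qJ_mem 3)).symm)
  obtain ⟨⟨j, l⟩, hjl⟩ := cz_bij.2 ⟨x, hz⟩
  have hxe : x = fJ j * mJ l := (congrArg Subtype.val hjl).symm
  have h := allN_spec (allN_spec cq_chk j j.isLt) l l.isLt
  simp only [Bool.or_eq_true, List.any_eq_true, List.mem_range, Bool.and_eq_true, nbeq, Bool.not_eq_true'] at h
  rcases h with ⟨a, ha, e1, e2⟩ | ⟨a, ha, e⟩
  · rw [hxe]
    have hp : ((⟨_, (q_row ha).1⟩, ⟨_, (q_row ha).2.1⟩) : Fin 160 × Fin 12) = (j, l) := Prod.ext (Fin.ext e1) (Fin.ext e2)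
    have h2 : qJ ⟨a, ha⟩ = fJ j * mJ l := congrArg (fun p => ((cz p : Cz) : J2)) hp
    exact h2 ▸ qJ_mem _
  · exfalso
    have ha' : a < 32 := by
      simp only [List.mem_cons, List.not_mem_nil, or_false] at ha
      rcases ha with rfl | rfl <;> norm_num
    have hc := hx _ (qJ_mem ⟨a, ha'⟩)
    rw [hxe] at hc
    have hagree : agree frame (fun y => fP j (mP l (qP a y))) (fun y => qP a (fP j (mP l y))) = true :=
      List.all_eq_true.2 fun f hf => by
        have hf' : f < 315 := nblt.1 (List.all_eq_true.1 frame_lt f hf)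
        have h1 := (((acts_fJ j).mul (acts_mJ l)).mul (acts_qJ ⟨a, ha'⟩)) ⟨f, hf'⟩
        have h2 := ((acts_qJ ⟨a, ha'⟩).mul ((acts_fJ j).mul (acts_mJ l))) ⟨f, hf'⟩
        rw [← hc, h2] at h1
        exact nbeq.2 h1.symm
    rw [hagree] at e
    exact Bool.noConfusion e

theorem refl_row {t : ℕ} (ht : t < 11) : ∃ k : Fin 315, ∃ a : Fin 32, (a : ℕ) = (qRefl.getD t (0, 0)).2 ∧
    eJ k * zJ * (eJ k)⁻¹ = qJ a := by
  have h := allN_spec refl_chk t ht
  simp only [Bool.and_eq_true, nblt] at h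
  refine ⟨⟨_, h.1.1⟩, ⟨_, h.1.2⟩, rfl, mul_inv_eq_iff_eq_mul.2 ?_⟩
  exact ((acts_eJ _).mul acts_zJ).ext ((acts_qJ _).mul (acts_eJ _)) h.2

theorem Q0_le_closed {T : Subgroup J2} (hz : zJ ∈ T)
    (hT : ∀ g : J2, ∀ x ∈ T, g * x * g⁻¹ ∈ S0 → g * x * g⁻¹ ∈ T) : Q0 ≤ T := by
  have hgen : ∀ t, t < 11 → ∃ a : Fin 32, (a : ℕ) = (qRefl.getD t (0, 0)).2 ∧ qJ a ∈ T := fun t ht => by
    obtain ⟨k, a, ha, e⟩ := refl_row ht
    exact ⟨a, ha, e ▸ hT _ _ hz (e ▸ Q0_le (qJ_mem a))⟩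
  have htree : ∀ n, n < 32 → ∃ a : Fin 32, (a : ℕ) = (qTree.getD n (0, 0, 0)).1 ∧ qJ a ∈ T := by
    intro n
    induction n using Nat.strong_induction_on with
    | h n ih =>
      intro hn
      have h := allN_spec tree_chk n hn
      simp only [Bool.and_eq_true, nblt] at h
      obtain ⟨h1, h2⟩ := h
      by_cases h0 : n = 0
      · rw [show Nat.beq n 0 = true from nbeq.2 h0, cond_true, nbeq] at h2
        refine ⟨0, h2.symm, ?_⟩
        rw [qJ_zero]; exact one_mem _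
      · rw [show Nat.beq n 0 = false from Bool.not_eq_true _ ▸ fun e => h0 (nbeq.1 e), cond_false] at h2
        simp only [Bool.and_eq_true, nblt, nbeq] at h2
        obtain ⟨⟨hp, hr⟩, he⟩ := h2
        obtain ⟨a, ha, haT⟩ := hgen _ hr
        obtain ⟨b, hb, hbT⟩ := ih _ hp (hp.trans hn)
        refine ⟨⟨_, h1⟩, rfl, ?_⟩
        have hm : qJ a * qJ b = qJ ⟨_, h1⟩ := by
          show ((qk a * qk b : phi.ker) : Cz).1 = _
          rw [qk_mul]
          refine congrArg qJ (Fin.ext ?_)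
          show qM a b = (qTree.getD n (0, 0, 0)).1
          rw [he, ha, hb]
        exact hm ▸ mul_mem haT hbT
  intro x hx
  obtain ⟨a, rfl⟩ := mem_Q0 hx
  have h := allN_spec tree_full a a.isLt
  simp only [List.any_eq_true, List.mem_range, nbeq] at h
  obtain ⟨n, hn, e⟩ := h
  obtain ⟨b, hb, hbT⟩ := htree n hn
  rwa [show a = b from Fin.ext (by rw [hb, e])]

/-- recorded fusion -/
def fuseImg (t : ℕ) : A5 := alp 24 (qFuse.getD t (0, (0, 0, 0), (0, 0))).2.2.1 * bet 12 (qFuse.getD t (0, (0, 0, 0), (0, 0))).2.2.2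

theorem fuse_V4 : ∀ t < 2, (∀ x : Fin 5, x = 4 → ((fuseImg t : A5) : Equiv.Perm (Fin 5)) x = x) ∧
    ((fuseImg t : A5) : Equiv.Perm (Fin 5)) * ((fuseImg t : A5) : Equiv.Perm (Fin 5)) = 1 := by decide +kernel

theorem V4_gen : ∀ a : A5, (∀ x : Fin 5, x = 4 → (a : Equiv.Perm (Fin 5)) x = x) ∧
    (a : Equiv.Perm (Fin 5)) * (a : Equiv.Perm (Fin 5)) = 1 →
    a = 1 ∨ a = fuseImg 0 ∨ a = fuseImg 1 ∨ a = fuseImg 0 * fuseImg 1 := by decide +kernel

theorem closed_S0 {T : Subgroup J2} (hz : zJ ∈ T)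
    (hT : ∀ g : J2, ∀ x ∈ T, g * x * g⁻¹ ∈ S0 → g * x * g⁻¹ ∈ T) : S0 ≤ T := by
  have hQ := Q0_le_closed hz hT
  have hy : ∀ t < 2, ∃ y : Cz, phi y = fuseImg t ∧ (y : J2) ∈ T := fun t ht => by
    have h := allN_spec fuse_chk t ht
    simp only [Bool.and_eq_true, nblt] at h
    obtain ⟨⟨⟨⟨⟨⟨h1, h2⟩, h3⟩, h4⟩, h5⟩, h6⟩, h7⟩ := h
    have hm := ((acts_xJ ⟨_, h2⟩ ⟨_, h3⟩ ⟨_, h4⟩).mul (acts_qJ ⟨_, h1⟩)).ext
      (((acts_fJ ⟨_, h5⟩).mul (acts_mJ ⟨_, h6⟩)).mul (acts_xJ ⟨_, h2⟩ ⟨_, h3⟩ ⟨_, h4⟩)) h7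
    refine ⟨cz (⟨_, h5⟩, ⟨_, h6⟩), phi_cz _, ?_⟩
    have e : xJ ⟨_, h2⟩ ⟨_, h3⟩ ⟨_, h4⟩ * qJ ⟨_, h1⟩ * (xJ ⟨_, h2⟩ ⟨_, h3⟩ ⟨_, h4⟩)⁻¹ =
        ((cz (⟨_, h5⟩, ⟨_, h6⟩) : Cz) : J2) := mul_inv_eq_iff_eq_mul.2 hm
    rw [← e]
    refine hT _ _ (hQ (qJ_mem _)) ?_
    rw [e]
    exact Subgroup.mem_map_of_mem _ (show cz _ ∈ V4.comap phi from by
      rw [Subgroup.mem_comap, phi_cz]; exact mem_V4.2 (fuse_V4 t ht))
  obtain ⟨y0, e0, m0⟩ := hy 0 (by norm_num)
  obtain ⟨y1, e1, m1⟩ := hy 1 (by norm_num)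
  rintro _ ⟨s, hs, rfl⟩
  have key : ∀ y : Cz, phi y = phi s → (y : J2) ∈ T → (s : J2) ∈ T := fun y e hm => by
    have : ((y⁻¹ * s : Cz) : J2) ∈ T := hQ (Subgroup.mem_map_of_mem _ (show y⁻¹ * s ∈ phi.ker from by
      rw [MonoidHom.mem_ker, map_mul, map_inv, e, inv_mul_cancel]))
    simpa using mul_mem hm this
  rcases V4_gen (phi s) (mem_V4.1 hs) with e | e | e | e
  · exact key 1 (by rw [map_one, e]) (one_mem _)
  · exact key y0 (by rw [e0, e]) m0
  · exact key y1 (by rw [e1, e]) m1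
  · exact key (y0 * y1) (by rw [map_mul, e0, e1, e]) (mul_mem m0 m1)

theorem Cz_le_normalizer : Cz ≤ Subgroup.normalizer (Q0 : Set J2) := by
  intro x hx
  have h := Subgroup.le_normalizer_map Cz.subtype
    (Subgroup.mem_map_of_mem Cz.subtype (show (⟨x, hx⟩ : Cz) ∈ Subgroup.normalizer (phi.ker : Set Cz) by
      rw [Subgroup.normalizer_eq_top phi.ker]; trivial))
  exact h

theorem Cz_le_closure : Cz ≤
    Subgroup.closure {x : J2 | x ∈ Subgroup.normalizer (Q0 : Set J2) ∧ ∃ k : ℕ, x ^ 2 ^ k = 1} := by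
  set W : Set Cz := {x | ∃ k : ℕ, x ^ 2 ^ k = 1} with hW
  set N := Subgroup.closure W
  have hN : N.Normal := by
    refine ⟨fun n hn g => ?_⟩
    have h := Subgroup.mem_map_of_mem (MulAut.conj g).toMonoidHom hn
    rw [MonoidHom.map_closure] at h
    refine Subgroup.closure_mono ?_ h
    rintro _ ⟨y, ⟨k, hk⟩, rfl⟩
    exact ⟨k, by rw [← map_pow, hk, map_one]⟩
  have hp : IsPGroup 2 phi.ker := IsPGroup.of_card (n := 5) (by rw [card_ker]; norm_num)
  have hker : phi.ker ≤ N := fun x hx => Subgroup.subset_closure (by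
    obtain ⟨k, hk⟩ := hp ⟨x, hx⟩
    exact ⟨k, congrArg Subtype.val hk⟩)
  obtain ⟨x, hx⟩ := phi_surj (img 0)
  have hxN : x ∈ N := Subgroup.subset_closure (by
    have hsq : x ^ 2 ∈ phi.ker := by
      rw [MonoidHom.mem_ker, map_pow, hx]
      decide +kernel
    obtain ⟨k, hk⟩ := hp ⟨x ^ 2, hsq⟩
    exact ⟨k + 1, by rw [pow_succ', pow_mul]; exact congrArg Subtype.val hk⟩)
  have htop : N.map phi = ⊤ := by
    haveI : (N.map phi).Normal := hN.map _ phi_surj
    haveI := alternatingGroup.isSimpleGroup_five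
    refine (IsSimpleGroup.eq_bot_or_eq_top_of_normal (N.map phi) inferInstance).resolve_left fun e => ?_
    have := Subgroup.mem_map_of_mem phi hxN
    rw [e, Subgroup.mem_bot, hx] at this
    revert this
    decide +kernel
  intro c hc
  have hcN : (⟨c, hc⟩ : Cz) ∈ N := by
    have h : phi ⟨c, hc⟩ ∈ N.map phi := htop ▸ Subgroup.mem_top _
    obtain ⟨n, hn, e⟩ := h
    have h' : n⁻¹ * ⟨c, hc⟩ ∈ N := hker (by rw [MonoidHom.mem_ker, map_mul, map_inv, e, inv_mul_cancel])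
    simpa using mul_mem hn h'
  have h := Subgroup.mem_map_of_mem Cz.subtype hcN
  rw [MonoidHom.map_closure] at h
  refine Subgroup.closure_mono ?_ h
  rintro _ ⟨y, ⟨k, hk⟩, rfl⟩
  exact ⟨Cz_le_normalizer y.2, k, by rw [← map_pow, hk, map_one]⟩

theorem simpleData_S0 : SimpleData S0 := by
  have hzQ : zJ ∈ Q0 := zJ_eq ▸ qJ_mem 3
  have hzC : ∀ s ∈ S0, s * zJ = zJ * s := by
    rintro _ ⟨s, -, rfl⟩
    exact Subgroup.mem_centralizer_singleton_iff.1 s.2
  refine ⟨zJ, Q0, Q0_le hzQ, ?_, ?_, Q0_le, ?_, centralizer_Q0, hzC, Cz_le_closure, fun T h1 h2 => closed_S0 h1 h2⟩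
  · intro e
    have h : qk 3 = qk 0 := Subtype.ext (Subtype.ext (zJ_eq.symm.trans (e.trans qJ_zero.symm)))
    exact absurd (qk_inj h) (by decide)
  · intro w hw hc
    have hwQ : w ∈ Q0 := centralizer_Q0 (Subgroup.mem_centralizer_iff.2 fun q hq => hc q (Q0_le hq))
    obtain ⟨a, rfl⟩ := mem_Q0 hwQ
    have hmem : qk a ∈ Subgroup.center phi.ker := Subgroup.mem_center_iff.2 fun g => by
      obtain ⟨b, rfl⟩ := qk_surj g
      exact Subtype.ext (Subtype.ext (hc _ (Q0_le (qJ_mem b))))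
    rw [← SetLike.mem_coe, center_ker] at hmem
    rcases hmem with e | e
    · exact Or.inl (by rw [show a = 0 from qk_inj e, qJ_zero])
    · exact Or.inr (by rw [show a = 3 from qk_inj e, zJ_eq])
  · rintro _ ⟨s, -, rfl⟩
    exact Cz_le_normalizer s.2

/-- The 2-fusion system of any group isomorphic to the Hall–Janko group is simple. -/
theorem fusion_simple {G : Type*} [Group G] [Finite G] (hG : Cfsg.Spor.IsoJ2 G) (S : Sylow 2 G) :
    (Cfsg.groupFusionSystem (S : Subgroup G)).IsSimple 2 := by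
  haveI : Fact (Nat.Prime 2) := ⟨Nat.prime_two⟩
  obtain ⟨f⟩ := hG
  set P := S0.map f.symm.toMonoidHom
  have hPc : Nat.card P = 128 := by rw [Subgroup.card_map_of_injective (show Function.Injective f.symm.toMonoidHom from f.symm.injective), card_S0]
  have hGc : Nat.card G = 604800 := by rw [Nat.card_congr f.toEquiv, card_J2]
  let P0 : Sylow 2 G := Sylow.ofCard P (by
    rw [hPc, hGc, show (128 : ℕ) = 2 ^ 7 by norm_num]
    congr 1
    refine le_antisymm ?_ ?_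
    · exact (Nat.Prime.pow_dvd_iff_le_factorization Nat.prime_two (by norm_num)).1 (by norm_num)
    · by_contra hlt
      exact absurd ((Nat.Prime.pow_dvd_iff_le_factorization Nat.prime_two (k := 8) (n := 604800) (by norm_num)).2 (by omega))
        (by norm_num))
  obtain ⟨c, hc⟩ := MulAction.exists_smul_eq G P0 S
  have hS : (S : Subgroup G) = S0.map (f.symm.trans (MulAut.conj c)).toMonoidHom := by
    rw [← hc, Sylow.coe_subgroup_smul]
    show (S0.map f.symm.toMonoidHom).map (MulAut.conj c).toMonoidHom = _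
    rw [Subgroup.map_map]
    rfl
  refine SimpleData.isSimple S ?_
  rw [hS]
  exact simpleData_S0.map _

end Cfsg.Agent.J2Cert

end
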