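import Cfsg.Agent.Lib.Spor.J2.MinDefs
import Cfsg.Agent.Lib.Spor.J2.DataPerm
import Cfsg.Agent.Lib.Spor.J2.DataGeo

/-! Checking functions for the reflections. -/

set_option autoImplicit false

noncomputable section

namespace Cfsg.Agent.J2Cert

/-- all numbers below a bound -/
def allLt : Nat → (Nat → Bool) → Bool
  | 0, _ => true
  | n + 1, f => f n && allLt n f

/-- unit of an image -/
def gUnit (s i : Nat) : Nat := Nat.mod (Nat.shiftRight (genUnit.getD s 0) (Nat.mul 7 i)) 128

/-- four times the Hermitian product of integer triples -/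
def ipRaw (u v : Q8 × Q8 × Q8) : Q8 := qadd (qadd (qraw u.1 (qstar v.1)) (qraw u.2.1 (qstar v.2.1))) (qraw u.2.2 (qstar v.2.2))

/-- one entry of the image under a reflection -/
def imgEq (S r x u v : Q8) : Bool := qeq (qsub (qsmul 32 x) (qraw S r)) (qsmul 8 (qraw u v))

/-- the line table -/
def line3 (i : Nat) : Q8 × Q8 × Q8 := lineList.getD i (qzero, qzero, qzero)

/-- the image of a line under a generating reflection -/
def refChk (s i : Nat) : Bool :=
  let r := line3 (genLine.getD s 0)
  let x := line3 i
  let y := line3 (papp (gTab.find s) i)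
  let u := units.getD (gUnit s i) qzero
  let S := ipRaw x r
  decide (gUnit s i < 120) && decide (papp (gTab.find s) i < 315) &&
    imgEq S r.1 x.1 u y.1 && imgEq S r.2.1 x.2.1 u y.2.1 && imgEq S r.2.2 x.2.2 u y.2.2

/-- the four lattice generators -/
def wgen3 : List (Q8 × Q8 × Q8) :=
  let h : Q8 := ⟨0, -2, 2, 0, 2, 0, 2, 0⟩
  let t : Q8 := qadd qone qone
  [(qstar h, qstar h, qstar h), (h, h, qzero), (t, t, t), (qzero, qsmul (-1) h, qsmul (-1) h)]

/-- one entry of a combination of the lattice generators -/
def combEq (S r x : Q8) (a : List Q8) (p : Q8 × Q8 × Q8 → Q8) : Bool :=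
  qeq (qsub (qsmul 32 x) (qraw S r)) (qsmul 8
    (qadd (qadd (qadd (qraw (a.getD 0 qzero) (p (wgen3.getD 0 (qzero, qzero, qzero))))
      (qraw (a.getD 1 qzero) (p (wgen3.getD 1 (qzero, qzero, qzero)))))
      (qraw (a.getD 2 qzero) (p (wgen3.getD 2 (qzero, qzero, qzero)))))
      (qraw (a.getD 3 qzero) (p (wgen3.getD 3 (qzero, qzero, qzero))))))

/-- coefficient -/
def gCoef (s k : Nat) : List Q8 := ((genCoef.getD s []).getD k []).map fun ns => lin ns bas

/-- a generating reflection maps a lattice generator into the lattice -/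
def latChk (s k : Nat) : Bool :=
  let r := line3 (genLine.getD s 0)
  let x := wgen3.getD k (qzero, qzero, qzero)
  let S := ipRaw x r
  combEq S r.1 x.1 (gCoef s k) (fun v => v.1) && combEq S r.2.1 x.2.1 (gCoef s k) (fun v => v.2.1) &&
    combEq S r.2.2 x.2.2 (gCoef s k) (fun v => v.2.2)

/-- index of a line is unique: representatives are not unit multiples of each other -/
def repChk2 (a : Nat) : Bool :=
  allLt 120 fun u => Nat.beq u 0 ||
    !(mulOK (units.getD u qzero) (reps.getD a qzero)) || !(repCode (code8 (qmul (units.getD u qzero) (reps.getD a qzero))))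

/-- lines are pairwise different -/
def lineDiff (i : Nat) : Bool := allLt i fun j =>
  !(qeq (line3 i).1 (line3 j).1 && qeq (line3 i).2.1 (line3 j).2.1 && qeq (line3 i).2.2 (line3 j).2.2)

/-- the first nonzero entry of a line is a representative -/
def lineNormal (i : Nat) : Bool :=
  let r := line3 i
  (reps.any fun a => qeq r.1 a) || (qeq r.1 qzero && ((reps.any fun a => qeq r.2.1 a) ||
    (qeq r.2.1 qzero && reps.any fun a => qeq r.2.2 a)))

/-- a pair line forces the second diagonal entry -/
def pairHit (a b : Q8) (u0 l u1 : Nat) : Bool :=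
  qeq (qraw a (units.getD u0 qzero)) (qraw (units.getD l qzero) a) && qeq (qraw b (units.getD u1 qzero)) (qraw (units.getD l qzero) b)

/-- fixing the frame forces a central element -/
def diagChk (u0 : Nat) : Bool :=
  let p := line3 (frame.getD 3 0)
  let q := line3 (frame.getD 4 0)
  let r := line3 (frame.getD 5 0)
  allLt 120 fun l => !(qeq (qraw p.1 (units.getD u0 qzero)) (qraw (units.getD l qzero) p.1)) ||
    allLt 120 fun u1 => !(qeq (qraw p.2.1 (units.getD u1 qzero)) (qraw (units.getD l qzero) p.2.1)) ||
      allLt 120 fun l2 => !(qeq (qraw q.1 (units.getD u0 qzero)) (qraw (units.getD l2 qzero) q.1)) ||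
        allLt 120 fun u2 => !(qeq (qraw q.2.2 (units.getD u2 qzero)) (qraw (units.getD l2 qzero) q.2.2)) ||
          allLt 120 fun l3 => !(qeq (qraw r.1 (units.getD u0 qzero)) (qraw (units.getD l3 qzero) r.1) &&
            qeq (qraw r.2.1 (units.getD u1 qzero)) (qraw (units.getD l3 qzero) r.2.1) &&
            qeq (qraw r.2.2 (units.getD u2 qzero)) (qraw (units.getD l3 qzero) r.2.2)) ||
            (decide (u0 < 2) && Nat.beq u0 u1 && Nat.beq u0 u2)

end Cfsg.Agent.J2Cert

end
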