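import Cfsg.Agent.Lib.Spor.J2.DataVec

/-! Functions on the tables for the minimal vectors. -/

set_option autoImplicit false

noncomputable section

namespace Cfsg.Agent.J2Cert

/-- contribution of a pair to the norm -/
def sqp (p : Int × Int) : Int × Int := (p.1 * p.1 + 5 * (p.2 * p.2), 2 * (p.1 * p.2))

/-- sum of norms -/
def nadd (p q : Int × Int) : Int × Int := (p.1 + q.1, p.2 + q.2)

/-- sixteen times the norm -/
def nrm (x : Q8) : Int × Int := nadd (nadd (nadd (sqp (x.a, x.b)) (sqp (x.c, x.d))) (sqp (x.e, x.f))) (sqp (x.g, x.h))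

/-- what can still be completed to total norm four -/
def okB (n : Int × Int) : Bool := decide (n.1 ≤ 64) && decide (5 * (n.2 * n.2) ≤ (64 - n.1) * (64 - n.1))

/-- linear functional -/
def dotq (c v : Q8) : Int := c.a * v.a + c.b * v.b + c.c * v.c + c.d * v.d + c.e * v.e + c.f * v.f + c.g * v.g + c.h * v.h

/-- residues -/
def clsList (cols : List Q8) (v : Q8) : List Nat := cols.map fun c => (dotq c v % 8).toNat

/-- residues packed -/
def packCls : List Nat → Nat
  | [] => 0
  | k :: l => k + 8 * packCls l

/-- the class modulo the left ideal of `h` -/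
def clsH (v : Q8) : Nat := packCls (clsList colH v)

/-- membership functional -/
def memB (j : Nat) (v : Q8) : Bool := decide (dotq (colB.getD j qzero) v % 4 = 0)

/-- residue of a linear functional vanishes -/
def clsHbZero (v : Q8) : Bool := colHb.all fun c => decide (dotq c v % 8 = 0)

/-- code of a vector -/
def code8 (v : Q8) : Nat :=
  ((v.a + 16) + 32 * ((v.b + 16) + 32 * ((v.c + 16) + 32 * ((v.d + 16) + 32 * ((v.e + 16) + 32 * ((v.f + 16) + 32 * ((v.g + 16) + 32 * (v.h + 16)))))))).toNat

/-- digit of a code -/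
def dig (n : Nat) (k : Nat) : Int := ((n / 32 ^ k) % 32 : Nat) - 16

/-- vector of a code -/
def dec8 (n : Nat) : Q8 := ⟨dig n 0, dig n 1, dig n 2, dig n 3, dig n 4, dig n 5, dig n 6, dig n 7⟩

/-- bucket of a norm and a class -/
def bucket (k c : Nat) : List (Nat × Nat) :=
  match (buckets.getD k []).find? (fun p => Nat.beq p.1 c) with
  | some p => p.2
  | none => []

/-- number of a norm -/
def normIdx (n : Int × Int) : Nat := norms.findIdx fun p => decide (p.1 = n.1) && decide (p.2 = n.2)

/-- an element is listed -/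
def listed (v : Q8) : Bool :=
  decide (normIdx (nrm v) < 9) && (bucket (normIdx (nrm v)) (clsH v)).any fun p => Nat.beq p.1 (code8 v)

/-- survivors with a given first pair are listed -/
def pairChk (p : Int × Int) : Bool :=
  let n1 := sqp p
  pairs.all fun q =>
    let n2 := nadd n1 (sqp q)
    !(okB n2 && memB 0 ⟨p.1, p.2, q.1, q.2, 0, 0, 0, 0⟩ && memB 1 ⟨p.1, p.2, q.1, q.2, 0, 0, 0, 0⟩) ||
    pairs.all fun r =>
      let n3 := nadd n2 (sqp r)
      !(okB n3 && memB 2 ⟨p.1, p.2, q.1, q.2, r.1, r.2, 0, 0⟩ && memB 3 ⟨p.1, p.2, q.1, q.2, r.1, r.2, 0, 0⟩) ||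
      pairs.all fun s =>
        let v : Q8 := ⟨p.1, p.2, q.1, q.2, r.1, r.2, s.1, s.2⟩
        !(okB (nadd n3 (sqp s)) && memB 4 v && memB 5 v) || listed v

/-- a listed element is a unit multiple of a representative -/
def entryChk (p : Nat × Nat) : Bool :=
  if Nat.beq p.2 0 then qeq (dec8 p.1) qzero
  else decide ((p.2 - 1) % 128 < 120) && decide ((p.2 - 1) / 128 < 51) &&
    qeq (qsmul 4 (dec8 p.1)) (qraw (units.getD ((p.2 - 1) % 128) qzero) (reps.getD ((p.2 - 1) / 128) qzero))

/-- a triple with first entry the given representative is a listed line -/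
def lineHit (j : Nat) (y z : Nat) : Bool :=
  (linesBy.getD j []).any fun l => Nat.beq l.1 (y + 1099511627776 * z)

/-- code of a representative -/
def repCode (n : Nat) : Bool := reps.any fun a => Nat.beq n (code8 a)

/-- completeness for one first entry -/
def firstChk (j : Nat) : Bool :=
  let a := (qzero :: reps).getD j qzero
  (List.range 9).all fun k2 =>
    let n2 := nadd (nrm a) (norms.getD k2 (0, 0))
    let k3 := normIdx (64 - n2.1, - n2.2)
    decide (9 ≤ k3) ||
      (bucket k2 (clsH a)).all fun y =>
        (bucket k3 (clsH a)).all fun z =>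
          (decide (j = 0) && !(Nat.beq y.1 (code8 qzero)) && !(repCode y.1)) ||
          (decide (j = 0) && Nat.beq y.1 (code8 qzero) && !(Nat.beq z.1 (code8 qzero)) && !(repCode z.1)) ||
          !(clsHbZero (qadd (qadd a (dec8 y.1)) (dec8 z.1))) || lineHit j y.1 z.1

/-- a listed line is coded correctly -/
def lineCodeChk (j : Nat) : Bool := (linesBy.getD j []).all fun l =>
  decide (l.2 < 315) && qeq (lineList.getD l.2 (qzero, qzero, qzero)).1 ((qzero :: reps).getD j qzero) &&
    Nat.beq l.1 (code8 (lineList.getD l.2 (qzero, qzero, qzero)).2.1 +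
      1099511627776 * code8 (lineList.getD l.2 (qzero, qzero, qzero)).2.2)

end Cfsg.Agent.J2Cert

end
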