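import Cfsg.Agent.Lib.Spor.J2.MultTwo

/-! The double cover is a stem extension. -/

set_option autoImplicit false

noncomputable section

namespace Cfsg.Agent.J2Cert.Mult

open Quaternion Cfsg.Spor
open scoped commutatorElement

theorem finite_twoJ2 : Finite twoJ2 := Nat.finite_of_card_ne_zero (by rw [card_twoJ2]; norm_num)

theorem center_equiv : Nonempty (Subgroup.center twoJ2 ≃* Multiplicative (ZMod 2)) := by
  have : Fact (Nat.Prime 2) := ⟨Nat.prime_two⟩
  exact ⟨mulEquivOfPrimeCardEq card_center (by simp [Nat.card_eq_fintype_card])⟩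

theorem center_le_commutator : Subgroup.center twoJ2 ≤ commutator twoJ2 := by
  have := simple_J2
  have hmap : (commutator twoJ2).map (QuotientGroup.mk' (Subgroup.center twoJ2)) = ⊤ := by
    have hN : ((commutator twoJ2).map (QuotientGroup.mk' (Subgroup.center twoJ2))).Normal :=
      Subgroup.Normal.map inferInstance _ (QuotientGroup.mk'_surjective _)
    refine (hN.eq_bot_or_eq_top).resolve_left fun hb => ?_
    obtain ⟨p, q, hpq⟩ := noncomm_J2
    obtain ⟨g, rfl⟩ := QuotientGroup.mk'_surjective _ p
    obtain ⟨h, rfl⟩ := QuotientGroup.mk'_surjective _ q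
    have hm : QuotientGroup.mk' (Subgroup.center twoJ2) ⁅g, h⁆ ∈
        (commutator twoJ2).map (QuotientGroup.mk' (Subgroup.center twoJ2)) :=
      Subgroup.mem_map_of_mem _ (Subgroup.commutator_mem_commutator (Subgroup.mem_top g) (Subgroup.mem_top h))
    rw [hb, Subgroup.mem_bot, map_commutatorElement] at hm
    exact hpq (commutatorElement_eq_one_iff_commute.1 hm).eq
  obtain ⟨g, hg⟩ := neg_lift
  have hneg : negG ∈ commutator twoJ2 := by
    obtain ⟨c, hc, e⟩ : QuotientGroup.mk' (Subgroup.center twoJ2) g ∈
        (commutator twoJ2).map (QuotientGroup.mk' (Subgroup.center twoJ2)) := by rw [hmap]; trivial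
    obtain ⟨z, hz, rfl⟩ : ∃ z ∈ Subgroup.center twoJ2, g = c * z :=
      ⟨c⁻¹ * g, by rw [← QuotientGroup.eq]; exact e, (mul_inv_cancel_left c g).symm⟩
    have hzz : z * z = 1 := by
      rcases (center_eq z).1 hz with rfl | rfl
      · exact one_mul _
      · have := pow_card_eq_one' (G := Subgroup.center twoJ2) (x := ⟨negG, negG_central⟩)
        rw [card_center, pow_two] at this
        exact congrArg Subtype.val this
    rw [← hg, show c * z * (c * z) = c * c * (z * z) by
      rw [mul_assoc c z, ← mul_assoc z, ← Subgroup.mem_center_iff.1 hz c]; simp only [mul_assoc], hzz, mul_one]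
    exact mul_mem hc hc
  intro z hz
  rcases (center_eq z).1 hz with rfl | rfl
  · exact one_mem _
  · exact hneg

end Cfsg.Agent.J2Cert.Mult

end
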