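import Cfsg.Agent.Lib.Spor.J2.CheckQ
import Cfsg.Agent.Lib.Spor.J2.GeoDefs

/-! Witness data for the Schur multiplier of the Hall–Janko group. -/

set_option autoImplicit false
set_option maxRecDepth 100000

noncomputable section

namespace Cfsg.Agent.J2Cert.Mult

/-- An element of order five in the involution centraliser. -/
def dCode : Nat × Nat := (1, 1)
/-- Its conjugation on the extraspecial subgroup. -/
def dTab : List Nat := [0, 16, 17, 3, 1, 20, 11, 18, 7, 22, 28, 23, 6, 15, 30, 21, 26, 8, 2, 4, 25, 9, 13, 29, 31, 24, 19, 14, 27, 12, 10, 5]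
/-- The first complementary involution. -/
def xCode : Nat × Nat := (0, 4)
/-- Its conjugation. -/
def xTab : List Nat := [0, 14, 18, 3, 19, 10, 24, 8, 7, 21, 5, 28, 29, 15, 1, 13, 20, 17, 2, 4, 16, 9, 22, 31, 6, 27, 30, 25, 11, 12, 26, 23]
/-- The second complementary involution. -/
def yCode : Nat × Nat := (0, 5)
/-- Its conjugation. -/
def yTab : List Nat := [0, 26, 13, 3, 29, 27, 23, 21, 9, 8, 25, 16, 19, 2, 30, 18, 11, 17, 15, 12, 28, 7, 22, 6, 31, 10, 1, 5, 20, 4, 14, 24]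
/-- For each element: an element moving it inside its coset of the centre, the image, and witnesses
`(b, x, w, w', u)` covering the centraliser. -/
def commWit : List ((Nat × Nat) × Nat × List (Nat × Nat × Nat × Nat × Nat)) := [
  ((0, 0), 0, []),
  ((0, 7), 1, [(0, 0, 0, 0, 0), (1, 1, 0, 0, 0), (2, 1, 7, 8, 10), (3, 3, 0, 0, 0), (4, 3, 2, 15, 12), (5, 3, 7, 8, 10), (6, 6, 0, 0, 0), (7, 6, 4, 5, 11), (8, 6, 2, 15, 12), (9, 6, 7, 8, 10), (10, 0, 7, 8, 10), (11, 0, 4, 5, 11), (12, 0, 2, 15, 12), (13, 1, 2, 15, 12), (15, 1, 4, 5, 11), (16, 3, 4, 5, 11)]),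
  ((0, 2), 2, [(0, 0, 0, 0, 0), (1, 9, 19, 20, 10), (2, 2, 0, 0, 0), (3, 3, 0, 0, 0), (5, 3, 19, 20, 10), (6, 2, 19, 20, 10), (9, 9, 0, 0, 0), (10, 0, 19, 20, 10), (19, 0, 20, 10, 19), (20, 0, 1, 26, 20), (23, 2, 20, 10, 19), (26, 9, 20, 10, 19), (28, 3, 1, 26, 20), (29, 3, 20, 10, 19), (30, 9, 1, 26, 20), (31, 2, 1, 26, 20)]),
  ((1, 1), 3, [(0, 0, 0, 0, 0), (1, 0, 25, 24, 1), (2, 3, 23, 29, 9), (3, 3, 0, 0, 0), (4, 0, 20, 25, 4), (5, 0, 8, 7, 5), (6, 3, 25, 24, 1), (7, 3, 1, 16, 15), (8, 3, 4, 1, 13), (9, 0, 23, 29, 9), (10, 3, 8, 7, 5), (11, 3, 14, 30, 16), (12, 3, 20, 25, 4), (13, 0, 4, 1, 13), (14, 3, 2, 17, 24), (15, 0, 1, 16, 15), (16, 0, 14, 30, 16), (17, 3, 19, 4, 22), (18, 3, 11, 23, 21), (19, 0, 5, 20, 19), (20, 0, 7, 18, 20), (21, 0, 11, 23, 21), (22, 0, 19, 4, 22), (23, 3, 30, 10, 26), (24, 0, 2, 17, 24), (25, 0, 18, 2, 25), (26, 0, 30, 10,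 26), (27, 3, 18, 2, 25), (28, 3, 7, 18, 20), (29, 3, 5, 20, 19), (30, 3, 17, 8, 31), (31, 0, 17, 8, 31)]),
  ((9, 3), 4, [(0, 0, 0, 0, 0), (1, 0, 17, 18, 1), (3, 3, 0, 0, 0), (4, 4, 0, 0, 0), (6, 3, 17, 18, 1), (8, 4, 17, 18, 1), (12, 12, 0, 0, 0), (13, 12, 17, 18, 1), (17, 12, 18, 13, 29), (18, 12, 1, 29, 31), (19, 3, 18, 13, 29), (21, 4, 1, 29, 31), (22, 4, 18, 13, 29), (29, 0, 18, 13, 29), (30, 3, 1, 29, 31), (31, 0, 1, 29, 31)]),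
  ((9, 0), 5, [(0, 0, 0, 0, 0), (1, 0, 17, 18, 1), (2, 10, 17, 18, 1), (3, 3, 0, 0, 0), (5, 5, 0, 0, 0), (6, 3, 17, 18, 1), (9, 5, 17, 18, 1), (10, 10, 0, 0, 0), (14, 3, 1, 25, 24), (17, 10, 14, 6, 25), (18, 10, 1, 25, 24), (21, 5, 1, 25, 24), (22, 5, 14, 6, 25), (24, 0, 1, 25, 24), (25, 0, 14, 6, 25), (27, 3, 14, 6, 25)]),
  ((0, 7), 6, [(0, 0, 0, 0, 0), (1, 1, 0, 0, 0), (2, 1, 7, 8, 10), (3, 3, 0, 0, 0), (4, 3, 2, 15, 12), (5, 3, 7, 8, 10), (6, 6, 0, 0, 0), (7, 6, 4, 5, 11), (8, 6, 2, 15, 12), (9, 6, 7, 8, 10), (10, 0, 7, 8, 10), (11, 0, 4, 5, 11), (12, 0, 2, 15, 12), (13, 1, 2, 15, 12), (15, 1, 4, 5, 11), (16, 3, 4, 5, 11)]),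
  ((9, 0), 7, [(0, 0, 0, 0, 0), (1, 0, 25, 24, 1), (3, 3, 0, 0, 0), (6, 3, 25, 24, 1), (7, 7, 0, 0, 0), (11, 7, 25, 24, 1), (14, 3, 1, 25, 24), (15, 15, 0, 0, 0), (16, 15, 25, 24, 1), (19, 7, 1, 25, 24), (24, 0, 1, 25, 24), (25, 0, 14, 6, 25), (27, 3, 14, 6, 25), (29, 15, 1, 25, 24), (30, 15, 14, 6, 25), (31, 7, 14, 6, 25)]),
  ((9, 0), 8, [(0, 0, 0, 0, 0), (1, 0, 23, 28, 1), (3, 3, 0, 0, 0), (4, 13, 23, 28, 1), (6, 3, 23, 28, 1), (8, 8, 0, 0, 0), (12, 8, 23, 28, 1), (13, 13, 0, 0, 0), (14, 3, 1, 25, 24), (20, 8, 1, 25, 24), (23, 13, 14, 6, 25), (24, 0, 1, 25, 24), (25, 0, 14, 6, 25), (26, 8, 14, 6, 25), (27, 3, 14, 6, 25), (28, 13, 1, 25, 24)]),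
  ((0, 2), 9, [(0, 0, 0, 0, 0), (1, 9, 19, 20, 10), (2, 2, 0, 0, 0), (3, 3, 0, 0, 0), (5, 3, 19, 20, 10), (6, 2, 19, 20, 10), (9, 9, 0, 0, 0), (10, 0, 19, 20, 10), (19, 0, 20, 10, 19), (20, 0, 1, 26, 20), (23, 2, 20, 10, 19), (26, 9, 20, 10, 19), (28, 3, 1, 26, 20), (29, 3, 20, 10, 19), (30, 9, 1, 26, 20), (31, 2, 1, 26, 20)]),
  ((9, 0), 10, [(0, 0, 0, 0, 0), (1, 0, 17, 18, 1), (2, 10, 17, 18, 1), (3, 3, 0, 0, 0), (5, 5, 0, 0, 0), (6, 3, 17, 18, 1), (9, 5, 17, 18, 1), (10, 10, 0, 0, 0), (14, 3, 1, 25, 24), (17, 10, 14, 6, 25), (18, 10, 1, 25, 24), (21, 5, 1, 25, 24), (22, 5, 14, 6, 25), (24, 0, 1, 25, 24), (25, 0, 14, 6, 25), (27, 3, 14, 6, 25)]),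
  ((4, 3), 11, [(0, 0, 0, 0, 0), (1, 0, 18, 22, 1), (3, 3, 0, 0, 0), (6, 3, 18, 22, 1), (7, 16, 18, 22, 1), (11, 11, 0, 0, 0), (15, 11, 18, 22, 1), (16, 16, 0, 0, 0), (17, 16, 1, 23, 28), (18, 11, 17, 7, 23), (20, 3, 1, 23, 28), (21, 16, 17, 7, 23), (22, 11, 1, 23, 28), (23, 0, 17, 7, 23), (26, 3, 17, 7, 23), (28, 0, 1, 23, 28)]),
  ((9, 3), 12, [(0, 0, 0, 0, 0), (1, 0, 17, 18, 1), (3, 3, 0, 0, 0), (4, 4, 0, 0, 0), (6, 3, 17, 18, 1), (8, 4, 17, 18, 1), (12, 12, 0, 0, 0), (13, 12, 17, 18, 1), (17, 12, 18, 13, 29), (18, 12, 1, 29, 31), (19, 3, 18, 13, 29), (21, 4, 1, 29, 31), (22, 4, 18, 13, 29), (29, 0, 18, 13, 29), (30, 3, 1, 29, 31), (31, 0, 1, 29, 31)]),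
  ((4, 3), 13, [(0, 0, 0, 0, 0), (1, 0, 23, 28, 1), (3, 3, 0, 0, 0), (4, 13, 23, 28, 1), (6, 3, 23, 28, 1), (8, 8, 0, 0, 0), (12, 8, 23, 28, 1), (13, 13, 0, 0, 0), (14, 8, 1, 23, 28), (20, 3, 1, 23, 28), (23, 0, 14, 12, 23), (24, 13, 1, 23, 28), (25, 13, 14, 12, 23), (26, 3, 14, 12, 23), (27, 8, 14, 12, 23), (28, 0, 1, 23, 28)]),
  ((0, 2), 14, [(0, 0, 0, 0, 0), (3, 3, 0, 0, 0), (5, 3, 7, 8, 10), (7, 14, 8, 21, 19), (8, 14, 5, 29, 20), (10, 0, 7, 8, 10), (13, 24, 5, 29, 20), (14, 14, 0, 0, 0), (15, 24, 8, 21, 19), (18, 24, 7, 8, 10), (19, 0, 8, 21, 19), (20, 0, 5, 29, 20), (21, 14, 7, 8, 10), (24, 24, 0, 0, 0), (28, 3, 5, 29, 20), (29, 3, 8, 21, 19)]),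
  ((9, 0), 15, [(0, 0, 0, 0, 0), (1, 0, 25, 24, 1), (3, 3, 0, 0, 0), (6, 3, 25, 24, 1), (7, 7, 0, 0, 0), (11, 7, 25, 24, 1), (14, 3, 1, 25, 24), (15, 15, 0, 0, 0), (16, 15, 25, 24, 1), (19, 7, 1, 25, 24), (24, 0, 1, 25, 24), (25, 0, 14, 6, 25), (27, 3, 14, 6, 25), (29, 15, 1, 25, 24), (30, 15, 14, 6, 25), (31, 7, 14, 6, 25)]),
  ((4, 3), 16, [(0, 0, 0, 0, 0), (1, 0, 18, 22, 1), (3, 3, 0, 0, 0), (6, 3, 18, 22, 1), (7, 16, 18, 22, 1), (11, 11, 0, 0, 0), (15, 11, 18, 22, 1), (16, 16, 0, 0, 0), (17, 16, 1, 23, 28), (18, 11, 17, 7, 23), (20, 3, 1, 23, 28), (21, 16, 17, 7, 23), (22, 11, 1, 23, 28), (23, 0, 17, 7, 23), (26, 3, 17, 7, 23), (28, 0, 1, 23, 28)]),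
  ((0, 2), 17, [(0, 0, 0, 0, 0), (3, 3, 0, 0, 0), (4, 22, 11, 25, 19), (5, 3, 4, 11, 10), (10, 0, 4, 11, 10), (11, 22, 5, 29, 20), (12, 17, 11, 25, 19), (16, 17, 5, 29, 20), (17, 17, 0, 0, 0), (19, 0, 11, 25, 19), (20, 0, 5, 29, 20), (22, 22, 0, 0, 0), (25, 22, 4, 11, 10), (27, 17, 4, 11, 10), (28, 3, 5, 29, 20), (29, 3, 11, 25, 19)]),
  ((0, 7), 18, [(0, 0, 0, 0, 0), (3, 3, 0, 0, 0), (4, 3, 5, 16, 12), (5, 3, 11, 12, 10), (10, 0, 11, 12, 10), (11, 0, 4, 5, 11), (12, 0, 5, 16, 12), (14, 18, 11, 12, 10), (16, 3, 4, 5, 11), (18, 18, 0, 0, 0), (21, 21, 0, 0, 0), (23, 21, 4, 5, 11), (24, 21, 11, 12, 10), (26, 18, 4, 5, 11), (30, 18, 5, 16, 12), (31, 21, 5, 16, 12)]),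
  ((4, 5), 19, [(0, 0, 0, 0, 0), (2, 29, 4, 14, 23), (3, 3, 0, 0, 0), (4, 0, 7, 9, 4), (7, 19, 2, 22, 14), (9, 19, 4, 14, 23), (12, 3, 7, 9, 4), (14, 0, 2, 22, 14), (15, 29, 2, 22, 14), (17, 19, 7, 9, 4), (19, 19, 0, 0, 0), (22, 29, 7, 9, 4), (23, 0, 4, 14, 23), (24, 3, 2, 22, 14), (26, 3, 4, 14, 23), (29, 29, 0, 0, 0)]),
  ((29, 9), 20, [(0, 0, 0, 0, 0), (2, 20, 8, 17, 30), (3, 3, 0, 0, 0), (8, 20, 11, 30, 14), (9, 28, 8, 17, 30), (11, 0, 2, 8, 11), (13, 28, 11, 30, 14), (14, 0, 11, 30, 14), (16, 3, 2, 8, 11), (17, 20, 2, 8, 11), (20, 20, 0, 0, 0), (22, 28, 2, 8, 11), (24, 3, 11, 30, 14), (28, 28, 0, 0, 0), (30, 0, 8, 17, 30), (31, 3, 8, 17, 30)]),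
  ((0, 7), 21, [(0, 0, 0, 0, 0), (3, 3, 0, 0, 0), (4, 3, 5, 16, 12), (5, 3, 11, 12, 10), (10, 0, 11, 12, 10), (11, 0, 4, 5, 11), (12, 0, 5, 16, 12), (14, 18, 11, 12, 10), (16, 3, 4, 5, 11), (18, 18, 0, 0, 0), (21, 21, 0, 0, 0), (23, 21, 4, 5, 11), (24, 21, 11, 12, 10), (26, 18, 4, 5, 11), (30, 18, 5, 16, 12), (31, 21, 5, 16, 12)]),
  ((0, 2), 22, [(0, 0, 0, 0, 0), (3, 3, 0, 0, 0), (4, 22, 11, 25, 19), (5, 3, 4, 11, 10), (10, 0, 4, 11, 10), (11, 22, 5, 29, 20), (12, 17, 11, 25, 19), (16, 17, 5, 29, 20), (17, 17, 0, 0, 0), (19, 0, 11, 25, 19), (20, 0, 5, 29, 20), (22, 22, 0, 0, 0), (25, 22, 4, 11, 10), (27, 17, 4, 11, 10), (28, 3, 5, 29, 20), (29, 3, 11, 25, 19)]),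
  ((0, 1), 23, [(0, 0, 0, 0, 0), (2, 26, 8, 21, 19), (3, 3, 0, 0, 0), (8, 23, 11, 29, 25), (9, 23, 8, 21, 19), (11, 3, 2, 13, 16), (13, 26, 11, 29, 25), (16, 0, 2, 13, 16), (18, 26, 2, 13, 16), (19, 0, 8, 21, 19), (21, 23, 2, 13, 16), (23, 23, 0, 0, 0), (25, 0, 11, 29, 25), (26, 26, 0, 0, 0), (27, 3, 11, 29, 25), (29, 3, 8, 21, 19)]),
  ((0, 2), 24, [(0, 0, 0, 0, 0), (3, 3, 0, 0, 0), (5, 3, 7, 8, 10), (7, 14, 8, 21, 19), (8, 14, 5, 29, 20), (10, 0, 7, 8, 10), (13, 24, 5, 29, 20), (14, 14, 0, 0, 0), (15, 24, 8, 21, 19), (18, 24, 7, 8, 10), (19, 0, 8, 21, 19), (20, 0, 5, 29, 20), (21, 14, 7, 8, 10), (24, 24, 0, 0, 0), (28, 3, 5, 29, 20), (29, 3, 8, 21, 19)]),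
  ((4, 9), 25, [(0, 0, 0, 0, 0), (3, 3, 0, 0, 0), (5, 3, 7, 8, 10), (7, 25, 8, 17, 30), (8, 25, 5, 31, 23), (10, 0, 7, 8, 10), (13, 27, 5, 31, 23), (15, 27, 8, 17, 30), (17, 25, 7, 8, 10), (22, 27, 7, 8, 10), (23, 0, 5, 31, 23), (25, 25, 0, 0, 0), (26, 3, 5, 31, 23), (27, 27, 0, 0, 0), (30, 0, 8, 17, 30), (31, 3, 8, 17, 30)]),
  ((0, 1), 26, [(0, 0, 0, 0, 0), (2, 26, 8, 21, 19), (3, 3, 0, 0, 0), (8, 23, 11, 29, 25), (9, 23, 8, 21, 19), (11, 3, 2, 13, 16), (13, 26, 11, 29, 25), (16, 0, 2, 13, 16), (18, 26, 2, 13, 16), (19, 0, 8, 21, 19), (21, 23, 2, 13, 16), (23, 23, 0, 0, 0), (25, 0, 11, 29, 25), (26, 26, 0, 0, 0), (27, 3, 11, 29, 25), (29, 3, 8, 21, 19)]),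
  ((4, 9), 27, [(0, 0, 0, 0, 0), (3, 3, 0, 0, 0), (5, 3, 7, 8, 10), (7, 25, 8, 17, 30), (8, 25, 5, 31, 23), (10, 0, 7, 8, 10), (13, 27, 5, 31, 23), (15, 27, 8, 17, 30), (17, 25, 7, 8, 10), (22, 27, 7, 8, 10), (23, 0, 5, 31, 23), (25, 25, 0, 0, 0), (26, 3, 5, 31, 23), (27, 27, 0, 0, 0), (30, 0, 8, 17, 30), (31, 3, 8, 17, 30)]),
  ((29, 9), 28, [(0, 0, 0, 0, 0), (2, 20, 8, 17, 30), (3, 3, 0, 0, 0), (8, 20, 11, 30, 14), (9, 28, 8, 17, 30), (11, 0, 2, 8, 11), (13, 28, 11, 30, 14), (14, 0, 11, 30, 14), (16, 3, 2, 8, 11), (17, 20, 2, 8, 11), (20, 20, 0, 0, 0), (22, 28, 2, 8, 11), (24, 3, 11, 30, 14), (28, 28, 0, 0, 0), (30, 0, 8, 17, 30), (31, 3, 8, 17, 30)]),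
  ((4, 5), 29, [(0, 0, 0, 0, 0), (2, 29, 4, 14, 23), (3, 3, 0, 0, 0), (4, 0, 7, 9, 4), (7, 19, 2, 22, 14), (9, 19, 4, 14, 23), (12, 3, 7, 9, 4), (14, 0, 2, 22, 14), (15, 29, 2, 22, 14), (17, 19, 7, 9, 4), (19, 19, 0, 0, 0), (22, 29, 7, 9, 4), (23, 0, 4, 14, 23), (24, 3, 2, 22, 14), (26, 3, 4, 14, 23), (29, 29, 0, 0, 0)]),
  ((0, 8), 30, [(0, 0, 0, 0, 0), (2, 31, 7, 21, 28), (3, 3, 0, 0, 0), (4, 3, 2, 15, 12), (7, 30, 4, 20, 25), (9, 30, 7, 21, 28), (12, 0, 2, 15, 12), (15, 31, 4, 20, 25), (18, 31, 2, 15, 12), (20, 3, 7, 21, 28), (21, 30, 2, 15, 12), (25, 0, 4, 20, 25), (27, 3, 4, 20, 25), (28, 0, 7, 21, 28), (30, 30, 0, 0, 0), (31, 31, 0, 0, 0)]),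
  ((0, 8), 31, [(0, 0, 0, 0, 0), (2, 31, 7, 21, 28), (3, 3, 0, 0, 0), (4, 3, 2, 15, 12), (7, 30, 4, 20, 25), (9, 30, 7, 21, 28), (12, 0, 2, 15, 12), (15, 31, 4, 20, 25), (18, 31, 2, 15, 12), (20, 3, 7, 21, 28), (21, 30, 2, 15, 12), (25, 0, 4, 20, 25), (27, 3, 4, 20, 25), (28, 0, 7, 21, 28), (30, 30, 0, 0, 0), (31, 31, 0, 0, 0)])]
/-- The starting element of the regular orbit. -/
def wStart : Nat := 1
/-- The regular orbit. -/
def orbV : List Nat := [15, 13, 18, 2]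
/-- Each element as a word in the centre and the orbit. -/
def spanWord : List (List Nat) := [[], [4, 2, 1], [4], [0], [1, 4], [2, 1], [2, 4, 1], [1, 0], [2, 0], [4, 0], [1, 2], [2, 4], [4, 1], [2], [2, 3, 1], [1], [4, 2], [4, 3, 2, 1], [3], [2, 3], [3, 1], [3, 0], [3, 4, 2, 1], [3, 4, 2], [3, 2, 1], [3, 4], [4, 3, 2], [4, 3], [1, 3], [3, 2], [3, 4, 1], [4, 3, 1]]
/-- A word whose lift squares to minus one. -/
def negWord : List Nat := [3, 1, 0, 2, 3, 1, 0, 2, 1, 0]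
/-- Generators of a subgroup of order 25 and an element inverting the first only. -/
def fiveW : List (List Nat) := [[2, 0, 3, 1, 0, 3, 1, 2, 3, 1], [0, 2, 1, 3, 2, 0, 3, 2, 1, 2, 0], [1, 2, 3, 0, 1, 2, 0, 1, 3, 2, 1, 3, 0, 2, 1, 0]]
/-- Generators of a subgroup of order 27 and an element inverting both. -/
def threeW : List (List Nat) := [[0, 2, 1, 3, 0, 2, 1, 0, 3, 1, 0, 3, 0, 2, 0], [2, 0, 3, 1, 2, 3, 2, 0, 2, 3, 2, 1, 0, 2], [2, 0, 3, 0, 2]]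
/-- An element of order seven. -/
def sevenW : List Nat := [0, 1, 2, 1, 0, 3, 1, 0, 2, 3, 2, 0, 2]
/-- The permutation of a centraliser code. -/
def cP (p : Nat × Nat) (x : Nat) : Nat := fP p.1 (mP p.2 x)
/-- Conjugation by `p` carries element `a` to element `a'`. -/
def conjOK (p : Nat × Nat) (a a' : Nat) : Bool := agree frame (fun x => cP p (qP a x)) (fun x => qP a' (cP p x))
/-- Two elements commute. -/
def qComm (a b : Nat) : Bool := Nat.beq (qM a b) (qM b a)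
/-- Range of a code. -/
def codeOK (p : Nat × Nat) : Bool := Nat.blt p.1 160 && Nat.blt p.2 12
/-- One witness. -/
def witOK (t : Nat × Nat) (a : Nat) (e : Nat × Nat × Nat × Nat × Nat) : Bool :=
  Nat.blt e.2.1 32 && Nat.blt e.2.2.1 32 && Nat.blt e.2.2.2.1 32 && Nat.blt e.2.2.2.2 32 &&
  (Nat.beq e.2.1 0 || Nat.beq e.2.1 a || Nat.beq e.2.1 3 || Nat.beq e.2.1 (qM a 3)) &&
  qComm a e.2.2.1 && qComm a e.2.2.2.1 && conjOK t e.2.2.1 e.2.2.2.1 &&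
  Nat.beq (qM e.2.2.1 e.2.2.2.2) e.2.2.2.1 && Nat.beq (qM e.2.1 e.2.2.2.2) e.1
/-- The witnesses of one element. -/
def rowOK (a : Nat) : Bool :=
  let r := commWit.getD a ((0, 0), 0, [])
  codeOK r.1 && Nat.blt r.2.1 32 && conjOK r.1 a r.2.1 && (Nat.beq r.2.1 a || Nat.beq r.2.1 (qM a 3)) &&
    allN 32 fun b => !qComm a b || r.2.2.any fun e => Nat.beq e.1 b && witOK r.1 a e
/-- A conjugation table. -/
def tabOK (p : Nat × Nat) (t : List Nat) : Bool :=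
  codeOK p && allN 32 fun a => Nat.blt (t.getD a 0) 32 && conjOK p a (t.getD a 0)
/-- The key of a permutation on the base. -/
def baseKey (σ : Nat → Nat) : List Nat := baseL.map σ
/-- Codes of the four complementary elements. -/
def compP (k x : Nat) : Nat :=
  bif Nat.beq k 0 then x else bif Nat.beq k 1 then cP xCode x else bif Nat.beq k 2 then cP yCode x else cP xCode (cP yCode x)
/-- Pairwise different keys. -/
def distinctKeys : List (List Nat) → Bool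
  | [] => true
  | k :: ks => (ks.all fun k' => !(k == k')) && distinctKeys ks

theorem wit_all : (allN 32 fun a => Nat.beq a 0 || rowOK a) = true := by decide +kernel

theorem tabs_chk : (tabOK dCode dTab && tabOK xCode xTab && tabOK yCode yTab &&
    agree frame (fun x => cP xCode (cP xCode x)) id && agree frame (fun x => cP yCode (cP yCode x)) id &&
    agree frame (fun x => cP xCode (cP yCode x)) (fun x => cP yCode (cP xCode x))) = true := by decide +kernel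

theorem q_basics : ((allN 32 fun a => qComm 3 a && Nat.beq (qM a 0) a && Nat.beq (qM 0 a) a &&
    allN 32 fun b => allN 32 fun c => Nat.beq (qM (qM a b) c) (qM a (qM b c))) &&
    !qComm 1 14) = true := by decide +kernel

theorem conn_chk : (allN 32 fun b => Nat.beq b 0 || Nat.beq b 3 ||
    allN 32 fun j => Nat.beq j 0 || Nat.beq j 3 || (List.range 32).any fun c => !qComm c b && !qComm c j) = true := by
  decide +kernel

theorem orbit_chk : ((List.range 32).any fun u => Nat.beq (qM u wStart) 0 &&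
    Nat.beq (qM u (dTab.getD wStart 0)) (orbV.getD 0 0)) = true ∧
    orbV = [orbV.getD 0 0, xTab.getD (orbV.getD 0 0) 0, yTab.getD (orbV.getD 0 0) 0,
      xTab.getD (yTab.getD (orbV.getD 0 0) 0) 0] ∧ wStart < 32 ∧
    (allN 32 fun a => ((spanWord.getD a []).all fun i => Nat.blt i 5) &&
      Nat.beq ((spanWord.getD a []).foldr (fun i r => qM ((3 :: orbV).getD i 0) r) 0) a) = true := by decide +kernel

theorem sylow_keys : distinctKeys ((List.range 128).map fun i =>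
    baseKey fun x => qP (i / 4) (compP (i % 4) x)) = true := by decide +kernel

/-- The map of a generator word. -/
def gW (n : Nat) (ws : List (List Nat)) : Nat → Nat := wP gP (ws.getD n [])

theorem five_chk :
    (((fiveW ++ threeW ++ [sevenW, negWord]).all fun w => w.all fun s => Nat.blt s 4) &&
    agree frame (itr (gW 0 fiveW) 5) id && agree frame (itr (gW 1 fiveW) 5) id &&
    agree frame (fun x => gW 2 fiveW (gW 2 fiveW x)) id &&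
    agree frame (fun x => gW 0 fiveW (gW 1 fiveW x)) (fun x => gW 1 fiveW (gW 0 fiveW x)) &&
    agree frame (fun x => gW 2 fiveW (gW 0 fiveW (gW 2 fiveW (gW 0 fiveW x)))) id &&
    agree frame (fun x => gW 2 fiveW (gW 1 fiveW x)) (fun x => gW 1 fiveW (gW 2 fiveW x)) &&
    distinctKeys ((List.range 25).map fun i => baseKey fun x => itr (gW 0 fiveW) (i / 5) (itr (gW 1 fiveW) (i % 5) x))) = true := by
  decide +kernel

/-- The commutator of the two generators of the group of order 27. -/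
def cThree (x : Nat) : Nat :=
  gW 0 threeW (gW 1 threeW (itr (gW 0 threeW) 2 (itr (gW 1 threeW) 2 x)))

theorem three_chk :
    (agree frame (itr (gW 0 threeW) 3) id && agree frame (itr (gW 1 threeW) 3) id &&
    agree frame (fun x => gW 2 threeW (gW 2 threeW x)) id &&
    agree frame (fun x => gW 2 threeW (gW 0 threeW (gW 2 threeW (gW 0 threeW x)))) id &&
    agree frame (fun x => gW 2 threeW (gW 1 threeW (gW 2 threeW (gW 1 threeW x)))) id &&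
    agree frame (fun x => gW 0 threeW (cThree x)) (fun x => cThree (gW 0 threeW x)) &&
    agree frame (fun x => gW 1 threeW (cThree x)) (fun x => cThree (gW 1 threeW x)) &&
    distinctKeys ((List.range 27).map fun i => baseKey fun x =>
      itr (gW 0 threeW) (i / 9) (itr (gW 1 threeW) (i / 3 % 3) (itr cThree (i % 3) x)))) = true := by
  decide +kernel

theorem seven_chk : (agree frame (itr (wP gP sevenW) 7) id && !agree frame (wP gP sevenW) id) = true := by decide +kernel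

/-- Line and unit along a word. -/
def trackW : List Nat → Nat → Nat × Q8 × Bool
  | [], i => (i, qone, true)
  | s :: w, i =>
    let r := trackW w i
    let u := units.getD (gUnit s r.1) qzero
    (gP s r.1, qmul r.2.1 u, r.2.2 && mulOK r.2.1 u)

theorem neg_chk : (agree frame (wP gP (negWord ++ negWord)) id &&
    (trackW (negWord ++ negWord) 0).2.2 && Nat.beq (trackW (negWord ++ negWord) 0).1 0 &&
    qeq (trackW (negWord ++ negWord) 0).2.1 (units.getD 1 qzero)) = true := by decide +kernel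

end Cfsg.Agent.J2Cert.Mult

end
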