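import Cfsg.Agent.Lib.Spor.J2.Centraliser
import Cfsg.Agent.Lib.Spor.J2.MultData

/-! The extraspecial subgroup and the complementary elements, with their relations. -/

set_option autoImplicit false
set_option maxRecDepth 100000

noncomputable section

namespace Cfsg.Agent.J2Cert.Mult

open Quaternion Cfsg.Spor

/-- The element of a code. -/
def cEl (p : ℕ × ℕ) : J2 := if h : p.1 < 160 ∧ p.2 < 12 then fJ ⟨p.1, h.1⟩ * mJ ⟨p.2, h.2⟩ else 1

theorem acts_cEl {p : ℕ × ℕ} (h : codeOK p = true) : Acts (cEl p) (cP p) := by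
  simp only [codeOK, Bool.and_eq_true, nblt] at h
  rw [cEl, dif_pos h]
  exact (acts_fJ _).mul (acts_mJ _)

/-- An element of the extraspecial subgroup. -/
def qJ (a : ℕ) : J2 := cEl (qList.getD a (0, 0))

theorem acts_qJ {a : ℕ} (ha : a < 32) : Acts (qJ a) (qP a) :=
  acts_cEl (by simp only [codeOK, Bool.and_eq_true, nblt]; exact ⟨(q_row ha).1, (q_row ha).2.1⟩)

theorem qM_lt {a b : ℕ} (ha : a < 32) (hb : b < 32) : qM a b < 32 := ((q_row ha).2.2.2 b hb).1

theorem qJ_mul {a b : ℕ} (ha : a < 32) (hb : b < 32) : qJ a * qJ b = qJ (qM a b) :=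
  ((acts_qJ ha).mul (acts_qJ hb)).ext (acts_qJ (qM_lt ha hb)) ((q_row ha).2.2.2 b hb).2

theorem basics {a : ℕ} (ha : a < 32) : qM a 0 = a ∧ qM 0 a = a ∧ qM 3 a = qM a 3 := by
  have h := q_basics
  simp only [Bool.and_eq_true] at h
  have h' := allN_spec h.1 a ha
  simp only [Bool.and_eq_true, qComm, nbeq] at h'
  exact ⟨h'.1.1.2, h'.1.2, h'.1.1.1⟩

theorem qJ_zero : qJ 0 = 1 := by
  have h := qJ_mul (a := 0) (b := 0) (by norm_num) (by norm_num)
  rw [(basics (a := 0) (by norm_num)).1] at h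
  exact mul_eq_left.1 h

theorem qJ_inj {a b : ℕ} (ha : a < 32) (hb : b < 32) (h : qJ a = qJ b) : a = b := by
  simp only [qJ, cEl] at h
  rw [dif_pos ⟨(q_row ha).1, (q_row ha).2.1⟩, dif_pos ⟨(q_row hb).1, (q_row hb).2.1⟩] at h
  have := qk_inj (a₁ := ⟨a, ha⟩) (a₂ := ⟨b, hb⟩) (Subtype.ext (Subtype.ext h))
  exact congrArg Fin.val this

theorem qComm_iff {a b : ℕ} (ha : a < 32) (hb : b < 32) : qComm a b = true ↔ Commute (qJ a) (qJ b) := by
  rw [qComm, nbeq, Commute, SemiconjBy, qJ_mul ha hb, qJ_mul hb ha]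
  exact ⟨fun e => by rw [e], fun e => qJ_inj (qM_lt ha hb) (qM_lt hb ha) e⟩

theorem conj_rel {p : ℕ × ℕ} (hp : codeOK p = true) {a a' : ℕ} (ha : a < 32) (ha' : a' < 32)
    (h : conjOK p a a' = true) : cEl p * qJ a = qJ a' * cEl p :=
  ((acts_cEl hp).mul (acts_qJ ha)).ext ((acts_qJ ha').mul (acts_cEl hp)) h

/-- A conjugation table carries over. -/
theorem tab_rel {p : ℕ × ℕ} {t : List ℕ} (h : tabOK p t = true) {a : ℕ} (ha : a < 32) :
    t.getD a 0 < 32 ∧ cEl p * qJ a = qJ (t.getD a 0) * cEl p := by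
  simp only [tabOK, Bool.and_eq_true] at h
  have h' := allN_spec h.2 a ha
  simp only [Bool.and_eq_true, nblt] at h'
  exact ⟨h'.1, conj_rel h.1 ha h'.1 h'.2⟩

/-- The element of order five. -/
def dE : J2 := cEl dCode
/-- The first involution. -/
def xE : J2 := cEl xCode
/-- The second involution. -/
def yE : J2 := cEl yCode

theorem dE_tab : tabOK dCode dTab = true := by
  have h := tabs_chk; simp only [Bool.and_eq_true] at h; exact h.1.1.1.1.1

theorem xE_tab : tabOK xCode xTab = true := by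
  have h := tabs_chk; simp only [Bool.and_eq_true] at h; exact h.1.1.1.1.2

theorem yE_tab : tabOK yCode yTab = true := by
  have h := tabs_chk; simp only [Bool.and_eq_true] at h; exact h.1.1.1.2

theorem comp_rel : xE * xE = 1 ∧ yE * yE = 1 ∧ xE * yE = yE * xE := by
  have h := tabs_chk
  simp only [Bool.and_eq_true] at h
  have hx : Acts xE (cP xCode) := acts_cEl (by decide +kernel)
  have hy : Acts yE (cP yCode) := acts_cEl (by decide +kernel)
  exact ⟨(hx.mul hx).ext acts_one h.1.1.2, (hy.mul hy).ext acts_one h.1.2, (hx.mul hy).ext (hy.mul hx) h.2⟩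

theorem div_chk : (allN 32 fun b => allN 32 fun c => (List.range 32).any fun u => Nat.beq (qM b u) c) = true := by
  decide +kernel

theorem exists_div {b c : ℕ} (hb : b < 32) (hc : c < 32) : ∃ u < 32, qM b u = c := by
  have h := allN_spec (allN_spec div_chk b hb) c hc
  simp only [List.any_eq_true, List.mem_range, nbeq] at h
  exact h

theorem comm_dich {a b : ℕ} (ha : a < 32) (hb : b < 32) :
    qM a b = qM b a ∨ qM a b = qM 3 (qM b a) := (qz_row ⟨a, ha⟩).2.2.1 ⟨b, hb⟩

theorem sq_dich {a : ℕ} (ha : a < 32) : qM a a = 0 ∨ qM a a = 3 := (qz_row ⟨a, ha⟩).2.1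

/-- The square of the central element. -/
theorem three_sq : qM 3 3 = 0 := by decide +kernel

end Cfsg.Agent.J2Cert.Mult

end
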