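import Cfsg.Agent.Lib.Spor.J2.MultWords
import Cfsg.Agent.Lib.Spor.Multiplier
import Cfsg.Agent.Lib.Grp.SchurM.SylowBounds
import Cfsg.Agent.Lib.Grp.SchurM.PairSpan

/-! The odd part of the Schur multiplier of the Hall–Janko group is trivial. -/

set_option autoImplicit false
set_option maxRecDepth 100000

noncomputable section

namespace Cfsg.Agent.J2Cert.Mult

open Quaternion Cfsg.Spor
open scoped commutatorElement

theorem baseL_lt : ∀ x ∈ baseL, x < 315 := by decide +kernel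

theorem key_congr {p q : J2} {σ τ : ℕ → ℕ} (hp : Acts p σ) (hq : Acts q τ) (e : p = q) :
    baseKey σ = baseKey τ := by
  subst e
  refine List.map_congr_left fun x hx => ?_
  exact (hp ⟨x, baseL_lt x hx⟩).symm.trans (hq ⟨x, baseL_lt x hx⟩)

theorem distinctKeys_spec : ∀ {l : List (List ℕ)}, distinctKeys l = true → l.Nodup
  | [], _ => List.nodup_nil
  | k :: ks, h => by
    simp only [distinctKeys, Bool.and_eq_true, List.all_eq_true] at h
    refine List.nodup_cons.2 ⟨fun hk => ?_, distinctKeys_spec h.2⟩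
    simpa using h.1 k hk

theorem enum_injective {n : ℕ} (e : Fin n → J2) (f : ℕ → ℕ → ℕ) (he : ∀ i : Fin n, Acts (e i) (f i))
    (h : distinctKeys ((List.range n).map fun i => baseKey (f i)) = true) : Function.Injective e := by
  intro i j hij
  have := List.inj_on_of_nodup_map (distinctKeys_spec h) (List.mem_range.2 i.isLt) (List.mem_range.2 j.isLt)
    (key_congr (he i) (he j) hij)
  exact Fin.ext this

theorem five_words : ∀ n, n < 3 → ((fiveW.getD n []).all fun s => Nat.blt s 4) = true := by decide +kernel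

theorem three_words : ∀ n, n < 3 → ((threeW.getD n []).all fun s => Nat.blt s 4) = true := by decide +kernel

theorem acts_five {n : ℕ} (hn : n < 3) : Acts (gwJ (fiveW.getD n [])) (gW n fiveW) := acts_gwJ _ (five_words n hn)

theorem acts_three {n : ℕ} (hn : n < 3) : Acts (gwJ (threeW.getD n [])) (gW n threeW) :=
  acts_gwJ _ (three_words n hn)

/-- The generators of the group of order 25 and the element inverting one of them. -/
def jFive (n : ℕ) : J2 := gwJ (fiveW.getD n [])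

/-- The generators of the group of order 27 and the element inverting both. -/
def jThree (n : ℕ) : J2 := gwJ (threeW.getD n [])

theorem five_rel : jFive 0 ^ 5 = 1 ∧ jFive 1 ^ 5 = 1 ∧ jFive 2 * jFive 2 = 1 ∧
    Commute (jFive 0) (jFive 1) ∧ jFive 2 * jFive 0 * (jFive 2)⁻¹ = (jFive 0)⁻¹ ∧
    Commute (jFive 2) (jFive 1) := by
  have h := five_chk
  simp only [Bool.and_eq_true] at h
  obtain ⟨⟨⟨⟨⟨⟨⟨-, hA⟩, hB⟩, hN⟩, hAB⟩, hNA⟩, hNB⟩, -⟩ := h
  have aA : Acts (jFive 0) (gW 0 fiveW) := acts_five (n := 0) (by norm_num)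
  have aB : Acts (jFive 1) (gW 1 fiveW) := acts_five (n := 1) (by norm_num)
  have aN : Acts (jFive 2) (gW 2 fiveW) := acts_five (n := 2) (by norm_num)
  have hN' : jFive 2 * jFive 2 = 1 := (aN.mul aN).ext acts_one hN
  have hNA' : jFive 2 * (jFive 0 * (jFive 2 * jFive 0)) = 1 := (aN.mul (aA.mul (aN.mul aA))).ext acts_one hNA
  refine ⟨(aA.pow 5).ext acts_one hA, (aB.pow 5).ext acts_one hB, hN',
    (aA.mul aB).ext (aB.mul aA) hAB, ?_, (aN.mul aB).ext (aB.mul aN) hNB⟩
  rw [inv_eq_of_mul_eq_one_right hN']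
  exact eq_inv_of_mul_eq_one_left (by rw [mul_assoc, mul_assoc]; exact hNA')

/-- The enumeration of the group of order 25. -/
def eFive (i : Fin 25) : J2 := jFive 0 ^ (i.val / 5) * jFive 1 ^ (i.val % 5)

theorem card_five : Nat.card (Subgroup.closure ({jFive 0, jFive 1} : Set J2)) = 25 := by
  obtain ⟨hA, hB, -, hAB, -, -⟩ := five_rel
  refine Grp.SchurM.card_closure_of_enum _ eFive ?_ (fun i => ?_) ⟨0, by simp [eFive]⟩ ?_
  · have h := five_chk
    simp only [Bool.and_eq_true] at h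
    exact enum_injective eFive _ (fun i => ((acts_five (n := 0) (by norm_num)).pow _).mul
      ((acts_five (n := 1) (by norm_num)).pow _)) h.2
  · have h0 : jFive 0 ∈ Subgroup.closure ({jFive 0, jFive 1} : Set J2) := Subgroup.subset_closure (Or.inl rfl)
    have h1 : jFive 1 ∈ Subgroup.closure ({jFive 0, jFive 1} : Set J2) := Subgroup.subset_closure (Or.inr rfl)
    exact mul_mem (pow_mem h0 _) (pow_mem h1 _)
  · rintro s (rfl | rfl) i
    · refine ⟨⟨(i.val / 5 + 1) % 5 * 5 + i.val % 5, by omega⟩, ?_⟩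
      show jFive 0 * (jFive 0 ^ (i.val / 5) * jFive 1 ^ (i.val % 5)) = jFive 0 ^ (((i.val / 5 + 1) % 5 * 5 + i.val % 5) / 5) * _
      rw [show ((i.val / 5 + 1) % 5 * 5 + i.val % 5) / 5 = (i.val / 5 + 1) % 5 by omega, ← pow_eq_pow_mod (i.val / 5 + 1) hA,
        show ((i.val / 5 + 1) % 5 * 5 + i.val % 5) % 5 = i.val % 5 by omega, ← mul_assoc, ← pow_succ']
    · refine ⟨⟨i.val / 5 * 5 + (i.val % 5 + 1) % 5, by omega⟩, ?_⟩
      show jFive 1 * (jFive 0 ^ (i.val / 5) * jFive 1 ^ (i.val % 5)) = _ * jFive 1 ^ ((i.val / 5 * 5 + (i.val % 5 + 1) % 5) % 5)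
      rw [show (i.val / 5 * 5 + (i.val % 5 + 1) % 5) % 5 = (i.val % 5 + 1) % 5 by omega, ← pow_eq_pow_mod (i.val % 5 + 1) hB,
        show (i.val / 5 * 5 + (i.val % 5 + 1) % 5) / 5 = i.val / 5 by omega, ← mul_assoc,
        ← (hAB.pow_left _).eq, mul_assoc, ← pow_succ']

theorem three_cubed : agree frame (itr cThree 3) id = true := by decide +kernel

/-- The commutator of the two generators of order three. -/
def cJ : J2 := jThree 0 * (jThree 1 * (jThree 0 ^ 2 * jThree 1 ^ 2))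

theorem acts_cJ : Acts cJ cThree :=
  (acts_three (n := 0) (by norm_num)).mul ((acts_three (n := 1) (by norm_num)).mul
    (((acts_three (n := 0) (by norm_num)).pow 2).mul ((acts_three (n := 1) (by norm_num)).pow 2)))

theorem three_rel : jThree 0 ^ 3 = 1 ∧ jThree 1 ^ 3 = 1 ∧ cJ ^ 3 = 1 ∧ Commute (jThree 0) cJ ∧
    Commute (jThree 1) cJ ∧ jThree 2 * jThree 0 * (jThree 2)⁻¹ = (jThree 0)⁻¹ ∧
    jThree 2 * jThree 1 * (jThree 2)⁻¹ = (jThree 1)⁻¹ ∧ cJ = ⁅jThree 0, jThree 1⁆ := by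
  have h := three_chk
  simp only [Bool.and_eq_true] at h
  obtain ⟨⟨⟨⟨⟨⟨⟨hA, hB⟩, hN⟩, hNA⟩, hNB⟩, hAC⟩, hBC⟩, -⟩ := h
  have aA : Acts (jThree 0) (gW 0 threeW) := acts_three (n := 0) (by norm_num)
  have aB : Acts (jThree 1) (gW 1 threeW) := acts_three (n := 1) (by norm_num)
  have aN : Acts (jThree 2) (gW 2 threeW) := acts_three (n := 2) (by norm_num)
  have hN' : jThree 2 * jThree 2 = 1 := (aN.mul aN).ext acts_one hN
  have hA' : jThree 0 ^ 3 = 1 := (aA.pow 3).ext acts_one hA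
  have hB' : jThree 1 ^ 3 = 1 := (aB.pow 3).ext acts_one hB
  have inv : ∀ x : J2, jThree 2 * (x * (jThree 2 * x)) = 1 → jThree 2 * x * (jThree 2)⁻¹ = x⁻¹ := fun x hx => by
    rw [inv_eq_of_mul_eq_one_right hN']
    exact eq_inv_of_mul_eq_one_left (by rw [mul_assoc, mul_assoc]; exact hx)
  refine ⟨hA', hB', (acts_cJ.pow 3).ext acts_one three_cubed, (aA.mul acts_cJ).ext (acts_cJ.mul aA) hAC,
    (aB.mul acts_cJ).ext (acts_cJ.mul aB) hBC,
    inv _ ((aN.mul (aA.mul (aN.mul aA))).ext acts_one hNA),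
    inv _ ((aN.mul (aB.mul (aN.mul aB))).ext acts_one hNB), ?_⟩
  rw [cJ, commutatorElement_def, inv_eq_of_mul_eq_one_right (show jThree 0 * jThree 0 ^ 2 = 1 by rw [← pow_succ']; exact hA'),
    inv_eq_of_mul_eq_one_right (show jThree 1 * jThree 1 ^ 2 = 1 by rw [← pow_succ']; exact hB')]
  simp only [mul_assoc]

/-- The enumeration of the group of order 27. -/
def eThree (i : Fin 27) : J2 := jThree 0 ^ (i.val / 9) * (jThree 1 ^ (i.val / 3 % 3) * cJ ^ (i.val % 3))

theorem eThree_inj : Function.Injective eThree := by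
  have h := three_chk
  simp only [Bool.and_eq_true] at h
  exact enum_injective eThree _ (fun i => ((acts_three (n := 0) (by norm_num)).pow _).mul
    (((acts_three (n := 1) (by norm_num)).pow _).mul (acts_cJ.pow _))) h.2

theorem cJ_ne : cJ ≠ 1 := fun e => by
  have := @eThree_inj ⟨1, by norm_num⟩ ⟨0, by norm_num⟩ (by simp [eThree, e])
  simp at this

theorem card_three : Nat.card (Subgroup.closure ({jThree 0, jThree 1} : Set J2)) = 27 := by
  obtain ⟨hA, hB, hC, hAC, hBC, -, -, hc⟩ := three_rel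
  set A := jThree 0
  set B := jThree 1
  have hBA1 : B * A = A * B * cJ ^ 2 := by
    have e : A * B = cJ * (B * A) := by rw [hc, commutatorElement_def]; group
    have hinv : cJ ^ 2 * cJ = 1 := by rw [← pow_succ]; exact hC
    rw [((hAC.mul_left hBC).pow_right 2).eq, e, ← mul_assoc, hinv, one_mul]
  have hBA : ∀ q : ℕ, B * A ^ q = A ^ q * B * cJ ^ (2 * q) := by
    intro q
    induction q with
    | zero => simp
    | succ q ih =>
      calc B * A ^ (q + 1) = B * A ^ q * A := by rw [pow_succ, mul_assoc]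
        _ = A ^ q * B * (cJ ^ (2 * q) * A) := by rw [ih, mul_assoc]
        _ = A ^ q * (B * A) * cJ ^ (2 * q) := by
          rw [← (hAC.pow_right (2 * q)).eq]; simp only [mul_assoc]
        _ = A ^ (q + 1) * B * cJ ^ (2 * (q + 1)) := by
          rw [hBA1, pow_succ A, show 2 * (q + 1) = 2 + 2 * q by ring, pow_add]; simp only [mul_assoc]
  refine Grp.SchurM.card_closure_of_enum _ eThree eThree_inj (fun i => ?_) ⟨0, by simp [eThree]⟩ ?_
  · have ha : A ∈ Subgroup.closure ({A, B} : Set J2) := Subgroup.subset_closure (Or.inl rfl)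
    have hb : B ∈ Subgroup.closure ({A, B} : Set J2) := Subgroup.subset_closure (Or.inr rfl)
    have hcm : cJ ∈ Subgroup.closure ({A, B} : Set J2) := by
      rw [hc, commutatorElement_def]
      exact mul_mem (mul_mem (mul_mem ha hb) (inv_mem ha)) (inv_mem hb)
    exact mul_mem (pow_mem ha _) (mul_mem (pow_mem hb _) (pow_mem hcm _))
  · rintro s (rfl | rfl) i
    · set q := i.val / 9 with hq
      set r := i.val / 3 % 3 with hr
      set t := i.val % 3 with ht
      refine ⟨⟨(q + 1) % 3 * 9 + r * 3 + t, by omega⟩, ?_⟩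
      have e1 : ((q + 1) % 3 * 9 + r * 3 + t) / 9 = (q + 1) % 3 := by omega
      have e2 : ((q + 1) % 3 * 9 + r * 3 + t) / 3 % 3 = r := by omega
      have e3 : ((q + 1) % 3 * 9 + r * 3 + t) % 3 = t := by omega
      show A * (A ^ q * (B ^ r * cJ ^ t)) = A ^ (((q + 1) % 3 * 9 + r * 3 + t) / 9) *
        (B ^ (((q + 1) % 3 * 9 + r * 3 + t) / 3 % 3) * cJ ^ (((q + 1) % 3 * 9 + r * 3 + t) % 3))
      rw [e1, e2, e3, ← pow_eq_pow_mod (q + 1) hA, pow_succ', mul_assoc]
    · set q := i.val / 9 with hq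
      set r := i.val / 3 % 3 with hr
      set t := i.val % 3 with ht
      have hq3 : q < 3 := by omega
      refine ⟨⟨q * 9 + (r + 1) % 3 * 3 + (2 * q + t) % 3, by omega⟩, ?_⟩
      have e1 : (q * 9 + (r + 1) % 3 * 3 + (2 * q + t) % 3) / 9 = q := by omega
      have e2 : (q * 9 + (r + 1) % 3 * 3 + (2 * q + t) % 3) / 3 % 3 = (r + 1) % 3 := by omega
      have e3 : (q * 9 + (r + 1) % 3 * 3 + (2 * q + t) % 3) % 3 = (2 * q + t) % 3 := by omega
      show B * (A ^ q * (B ^ r * cJ ^ t)) = A ^ ((q * 9 + (r + 1) % 3 * 3 + (2 * q + t) % 3) / 9) *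
        (B ^ ((q * 9 + (r + 1) % 3 * 3 + (2 * q + t) % 3) / 3 % 3) *
          cJ ^ ((q * 9 + (r + 1) % 3 * 3 + (2 * q + t) % 3) % 3))
      rw [e1, e2, e3, ← pow_eq_pow_mod (r + 1) hB, ← pow_eq_pow_mod (2 * q + t) hC, ← mul_assoc, hBA, pow_succ' B, pow_add cJ]
      simp only [mul_assoc]
      rw [← mul_assoc (cJ ^ (2 * q)), ← (hBC.pow_pow r (2 * q)).eq]
      simp only [mul_assoc]

theorem index_of_card {H : Subgroup J2} {c m : ℕ} (hc : Nat.card H = c) (h : c * m = 604800) (hc0 : 0 < c) :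
    H.index = m := by
  have := H.card_mul_index
  rw [hc, card_J2, ← h] at this
  exact Nat.eq_of_mul_eq_mul_left hc0 this

section Bound

variable {Γ : Type} [Group Γ] [Finite Γ] (σ : Γ →* J2)

/-- A kernel element of prime order lies in the derived group of a preimage of index prime to it. -/
theorem mem_derived (hσ : Cfsg.IsStemExtension σ) (Q : Subgroup J2) {z : Γ} (hz : z ∈ σ.ker) {p : ℕ}
    (hp : p.Prime) (hzp : orderOf z = p) (hQ : ¬ p ∣ Q.index) : z ∈ ⁅Q.comap σ, Q.comap σ⁆ := by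
  refine Spor.Mult.mem_derived_of_coprime _ (hσ.2.1 hz) (hσ.2.2 hz) ?_
  rw [hzp, Subgroup.index_comap_of_surjective _ hσ.1]
  exact hp.coprime_iff_not_dvd.2 hQ

theorem no_five (hσ : Cfsg.IsStemExtension σ) {z : Γ} (hz : z ∈ σ.ker) (hzp : orderOf z = 5) : False := by
  obtain ⟨hA, hB, -, hAB, hNA, hNB⟩ := five_rel
  obtain ⟨a, ha⟩ := hσ.1 (jFive 0)
  obtain ⟨b, hb⟩ := hσ.1 (jFive 1)
  obtain ⟨n, hn⟩ := hσ.1 (jFive 2)
  have hab : Commute b a := Spor.Mult.odd_two_gen σ hσ.2.1 (g := n) (p := 5) ⟨2, rfl⟩ (by rw [hb, hB])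
    (by rw [ha, hb]; exact hAB.symm) (by rw [hb, hn, hNB.eq, mul_inv_cancel_right]) (by rw [ha, hn, hNA])
  have hQ : ¬ 5 ∣ (Subgroup.closure (σ '' {a, b})).index := by
    rw [Set.image_pair, ha, hb, index_of_card card_five (m := 24192) (by norm_num) (by norm_num)]
    norm_num
  refine Spor.Mult.no_elt_of_comm _ (Spor.Mult.comm_of_gens σ hσ.2.1 {a, b} ?_) (by norm_num : Nat.Prime 5) hzp
    (mem_derived σ hσ _ hz (by norm_num) hzp hQ)
  rintro x (rfl | rfl) y (rfl | rfl)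
  exacts [Commute.refl _, hab.symm, hab, Commute.refl _]

theorem no_three (hσ : Cfsg.IsStemExtension σ) {z : Γ} (hz : z ∈ σ.ker) (hzp : orderOf z = 3) : False := by
  obtain ⟨hA, hB, hC, hAC, hBC, hNA, hNB, hc⟩ := three_rel
  obtain ⟨a, ha⟩ := hσ.1 (jThree 0)
  obtain ⟨b, hb⟩ := hσ.1 (jThree 1)
  obtain ⟨n, hn⟩ := hσ.1 (jThree 2)
  have hσc : σ ⁅a, b⁆ = cJ := by rw [map_commutatorElement, ha, hb, hc]
  have hNC : jThree 2 * cJ * (jThree 2)⁻¹ = cJ := by
    have e1 : jThree 2 * cJ * (jThree 2)⁻¹ =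
        ⁅jThree 2 * jThree 0 * (jThree 2)⁻¹, jThree 2 * jThree 1 * (jThree 2)⁻¹⁆ := by
      rw [hc]; simp only [commutatorElement_def]; group
    rw [e1, hNA, hNB, show ⁅(jThree 0)⁻¹, (jThree 1)⁻¹⁆ =
      (jThree 1 * jThree 0)⁻¹ * ⁅jThree 0, jThree 1⁆ * (jThree 1 * jThree 0) by
        simp only [commutatorElement_def]; group, ← hc, mul_assoc, ← (hBC.mul_left hAC).eq, inv_mul_cancel_left]
  have hca : Commute ⁅a, b⁆ a := Spor.Mult.odd_two_gen σ hσ.2.1 (g := n) (p := 3) ⟨1, rfl⟩ (by rw [hσc, hC])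
    (by rw [hσc, ha]; exact hAC.symm) (by rw [hσc, hn, hNC]) (by rw [ha, hn, hNA])
  have hcb : Commute ⁅a, b⁆ b := Spor.Mult.odd_two_gen σ hσ.2.1 (g := n) (p := 3) ⟨1, rfl⟩ (by rw [hσc, hC])
    (by rw [hσc, hb]; exact hBC.symm) (by rw [hσc, hn, hNC]) (by rw [hb, hn, hNB])
  have hnorm : ∀ x : Γ, Commute ⁅a, b⁆ x → x ∈ Subgroup.normalizer (Subgroup.zpowers ⁅a, b⁆ : Set Γ) := by
    intro x hx
    rw [Subgroup.mem_normalizer_iff]
    intro m
    constructor
    · rintro ⟨k, rfl⟩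
      exact ⟨k, by simp only; rw [← (hx.zpow_left k).eq, mul_inv_cancel_right]⟩
    · rintro ⟨k, hk⟩
      refine ⟨k, ?_⟩
      simp only at hk ⊢
      have hm : m = x⁻¹ * ⁅a, b⁆ ^ k * x := by rw [hk]; group
      rw [hm, mul_assoc, (hx.zpow_left k).eq, inv_mul_cancel_left]
  have hQ : ¬ 3 ∣ (Subgroup.closure (σ '' {a, b})).index := by
    rw [Set.image_pair, ha, hb, index_of_card card_three (m := 22400) (by norm_num) (by norm_num)]
    norm_num
  obtain ⟨k, hk⟩ := Subgroup.mem_zpowers_iff.1 (Grp.SchurM.derived_le_zpowers_of_pair σ hσ.2.1 _ rfl (hnorm a hca)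
    (hnorm b hcb) (mem_derived σ hσ _ hz (by norm_num) hzp hQ))
  have hc3 : ⁅a, b⁆ ^ 3 = 1 := by
    have hpw : ∀ m : ℕ, ⁅a ^ m, b⁆ = ⁅a, b⁆ ^ m := by
      intro m
      induction m with
      | zero => simp [commutatorElement_def]
      | succ m ih =>
        rw [pow_succ', show ⁅a * a ^ m, b⁆ = a * ⁅a ^ m, b⁆ * a⁻¹ * ⁅a, b⁆ by
          simp only [commutatorElement_def]; group, ih, ← (hca.pow_left m).eq, mul_inv_cancel_right, pow_succ]
    rw [← hpw]
    exact commutatorElement_eq_one_iff_commute.2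
      (Subgroup.mem_center_iff.1 (hσ.2.1 (show a ^ 3 ∈ σ.ker by rw [MonoidHom.mem_ker, map_pow, ha, hA])) b).symm
  have h3 : orderOf cJ = 3 := orderOf_eq_prime hC cJ_ne
  obtain ⟨m, rfl⟩ : (3 : ℤ) ∣ k := by
    have := orderOf_dvd_iff_zpow_eq_one.2 (show cJ ^ k = 1 by rw [← hσc, ← map_zpow, hk]; exact hz)
    rwa [h3] at this
  rw [zpow_mul, show (⁅a, b⁆ : Γ) ^ (3 : ℤ) = 1 by rw [show (3 : ℤ) = ((3 : ℕ) : ℤ) from rfl, zpow_natCast, hc3],
    one_zpow] at hk
  rw [← hk, orderOf_one] at hzp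
  omega

theorem no_seven (hσ : Cfsg.IsStemExtension σ) {z : Γ} (hz : z ∈ σ.ker) (hzp : orderOf z = 7) : False := by
  have hw : (sevenW.all fun s => Nat.blt s 4) = true := by decide +kernel
  have h := seven_chk
  simp only [Bool.and_eq_true, Bool.not_eq_true'] at h
  have h7 : gwJ sevenW ^ 7 = 1 := ((acts_gwJ _ hw).pow 7).ext acts_one h.1
  have : Fact (Nat.Prime 7) := ⟨by norm_num⟩
  have hne : gwJ sevenW ≠ 1 := fun e => by
    have : agree frame (wP gP sevenW) id = true := by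
      refine List.all_eq_true.2 fun f hf => ?_
      have hf' : f < 315 := nblt.1 (List.all_eq_true.1 frame_lt f hf)
      have h1 := acts_gwJ _ hw ⟨f, hf'⟩
      rw [e, one_smul] at h1
      simpa using h1.symm
    rw [this] at h
    exact Bool.noConfusion h.2
  have hcard : Nat.card (Subgroup.zpowers (gwJ sevenW)) = 7 := by
    rw [Nat.card_zpowers, orderOf_eq_prime h7 hne]
  refine Spor.Mult.no_elt_of_comm _ (Grp.SchurM.comap_zpowers_comm σ hσ.2.1 hσ.1 (gwJ sevenW))
    (by norm_num : Nat.Prime 7) hzp (mem_derived σ hσ _ hz (by norm_num) hzp ?_)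
  rw [index_of_card hcard (m := 86400) (by norm_num) (by norm_num)]
  norm_num

/-- The kernel of a stem extension is a group of two-power exponent. -/
theorem no_odd (hσ : Cfsg.IsStemExtension σ) {z : Γ} (hz : z ∈ σ.ker) {p : ℕ} (hp : p.Prime) (hp2 : p ≠ 2)
    (hzp : orderOf z = p) : False := by
  rcases eq_or_ne p 3 with rfl | h3
  · exact no_three σ hσ hz hzp
  rcases eq_or_ne p 5 with rfl | h5
  · exact no_five σ hσ hz hzp
  rcases eq_or_ne p 7 with rfl | h7
  · exact no_seven σ hσ hz hzp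
  refine Spor.Mult.no_elt_of_comm _ ?_ hp hzp (mem_derived σ hσ ⊥ hz hp hzp ?_)
  · intro x hx y hy
    rw [MonoidHom.comap_bot] at hx
    exact (Subgroup.mem_center_iff.1 (hσ.2.1 hx) y).symm
  · rw [Subgroup.index_bot, card_J2]
    intro hd
    have hd' : p ∣ 2 ^ 7 * 3 ^ 3 * 5 ^ 2 * 7 := by norm_num; exact hd
    rcases hp.dvd_mul.1 hd' with h | h
    · rcases hp.dvd_mul.1 h with h | h
      · rcases hp.dvd_mul.1 h with h | h
        · exact hp2 ((Nat.prime_dvd_prime_iff_eq hp Nat.prime_two).1 (hp.dvd_of_dvd_pow h))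
        · exact h3 ((Nat.prime_dvd_prime_iff_eq hp Nat.prime_three).1 (hp.dvd_of_dvd_pow h))
      · exact h5 ((Nat.prime_dvd_prime_iff_eq hp (by norm_num)).1 (hp.dvd_of_dvd_pow h))
    · exact h7 ((Nat.prime_dvd_prime_iff_eq hp (by norm_num)).1 h)

end Bound

end Cfsg.Agent.J2Cert.Mult

end
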