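import Cfsg.Agent.Lib.Spor.J2.MultElts
import Cfsg.Agent.Lib.Spor.J2.MultOdd

/-! The two-part of the Schur multiplier of the Hall–Janko group has order at most two. -/

set_option autoImplicit false
set_option maxRecDepth 100000
set_option linter.unusedSectionVars false

noncomputable section

namespace Cfsg.Agent.J2Cert.Mult

open Quaternion Cfsg.Spor
open scoped commutatorElement

theorem enum_bound : ∀ {n i : ℕ}, i < n * 4 → i / 4 < n ∧ i % 4 < 4 := fun h => ⟨by omega, by omega⟩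

/-- The complementary element of an index. -/
def cE (k : ℕ) : J2 := if k = 0 then 1 else if k = 1 then xE else if k = 2 then yE else xE * yE

theorem acts_cE : ∀ k, k < 4 → Acts (cE k) (compP k) := by
  intro k hk
  have hx : Acts xE (cP xCode) := acts_cEl (by decide +kernel)
  have hy : Acts yE (cP yCode) := acts_cEl (by decide +kernel)
  interval_cases k
  · exact acts_one
  · exact hx
  · exact hy
  · exact hx.mul hy

/-- The enumeration of the Sylow subgroup. -/
def eSyl (i : Fin 128) : J2 := qJ (i.val / 4) * cE (i.val % 4)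

/-- Generators of the Sylow subgroup. -/
def sylSet : Set J2 := {x | ∃ a < 32, x = qJ a} ∪ {xE, yE}

theorem card_syl : Nat.card (Subgroup.closure sylSet) = 128 := by
  obtain ⟨hx2, hy2, hxy⟩ := comp_rel
  refine Grp.SchurM.card_closure_of_enum _ eSyl
    (enum_injective eSyl (fun i x => qP (i / 4) (compP (i % 4) x)) (fun i => (acts_qJ (a := i.val / 4) (by omega)).mul (acts_cE (i.val % 4) (by omega))) sylow_keys) (fun i => ?_)
    ⟨0, by simp [eSyl, cE, qJ_zero]⟩ ?_
  · have hq : qJ (i.val / 4) ∈ Subgroup.closure sylSet :=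
      Subgroup.subset_closure (Or.inl ⟨i.val / 4, by omega, rfl⟩)
    have hx : xE ∈ Subgroup.closure sylSet := Subgroup.subset_closure (Or.inr (Or.inl rfl))
    have hy : yE ∈ Subgroup.closure sylSet := Subgroup.subset_closure (Or.inr (Or.inr rfl))
    refine mul_mem hq ?_
    unfold cE
    split_ifs
    exacts [one_mem _, hx, hy, mul_mem hx hy]
  · have hstep : ∀ (s : J2) (t : ℕ → ℕ) (π : ℕ → ℕ), (∀ a < 32, t a < 32 ∧ s * qJ a = qJ (t a) * s) →
        (∀ k < 4, π k < 4 ∧ s * cE k = cE (π k)) → ∀ i : Fin 128, ∃ j, s * eSyl i = eSyl j := by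
      intro s t π ht hπ i
      obtain ⟨h1, h2⟩ := ht _ (show i.val / 4 < 32 by omega)
      obtain ⟨h3, h4⟩ := hπ _ (show i.val % 4 < 4 by omega)
      refine ⟨⟨t (i.val / 4) * 4 + π (i.val % 4), by omega⟩, ?_⟩
      rw [eSyl, ← mul_assoc, h2, mul_assoc, h4, eSyl]
      simp only
      rw [show (t (i.val / 4) * 4 + π (i.val % 4)) / 4 = t (i.val / 4) by omega,
        show (t (i.val / 4) * 4 + π (i.val % 4)) % 4 = π (i.val % 4) by omega]
    rintro s (⟨a, ha, rfl⟩ | rfl | rfl) i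
    · have h1 := qM_lt ha (show i.val / 4 < 32 by omega)
      refine ⟨⟨qM a (i.val / 4) * 4 + i.val % 4, by omega⟩, ?_⟩
      simp only [eSyl]
      rw [show (qM a (i.val / 4) * 4 + i.val % 4) / 4 = qM a (i.val / 4) by omega,
        show (qM a (i.val / 4) * 4 + i.val % 4) % 4 = i.val % 4 by omega, ← mul_assoc, qJ_mul ha (by omega)]
    · refine hstep xE (fun a => xTab.getD a 0) (fun k => [1, 0, 3, 2].getD k 0) (fun a ha => tab_rel xE_tab ha)
        (fun k hk => ?_) i
      interval_cases k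
      · exact ⟨by norm_num, mul_one _⟩
      · exact ⟨by norm_num, hx2⟩
      · exact ⟨by norm_num, rfl⟩
      · refine ⟨by norm_num, ?_⟩
        show xE * (xE * yE) = yE
        rw [← mul_assoc, hx2, one_mul]
    · refine hstep yE (fun a => yTab.getD a 0) (fun k => [2, 3, 0, 1].getD k 0) (fun a ha => tab_rel yE_tab ha)
        (fun k hk => ?_) i
      interval_cases k
      · exact ⟨by norm_num, mul_one _⟩
      · exact ⟨by norm_num, hxy.symm⟩
      · exact ⟨by norm_num, hy2⟩
      · refine ⟨by norm_num, ?_⟩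
        show yE * (xE * yE) = xE
        rw [← mul_assoc, ← hxy, mul_assoc, hy2, mul_one]

theorem three_commit : (commWit.getD 3 ((0, 0), 0, [])).2.1 = 3 := by decide +kernel

/-- The data of one row of witnesses. -/
theorem wit_spec {a : ℕ} (ha : a < 32) (h0 : a ≠ 0) :
    ∃ (t : ℕ × ℕ) (a' : ℕ), codeOK t = true ∧ a' < 32 ∧ (a' = a ∨ a' = qM a 3) ∧ (a = 3 → a' = 3) ∧
      conjOK t a a' = true ∧ ∀ b < 32, qComm a b = true → ∃ x w w' u, x < 32 ∧ w < 32 ∧ w' < 32 ∧ u < 32 ∧
        (x = 0 ∨ x = a ∨ x = 3 ∨ x = qM a 3) ∧ qComm a w = true ∧ qComm a w' = true ∧ conjOK t w w' = true ∧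
        qM w u = w' ∧ qM x u = b := by
  have h := allN_spec wit_all a ha
  rw [Bool.or_eq_true, nbeq, rowOK] at h
  rcases h with h | h
  · exact absurd h h0
  simp only [Bool.and_eq_true, Bool.or_eq_true, nblt, nbeq] at h
  obtain ⟨⟨⟨⟨h1, h2⟩, h3⟩, h4⟩, h5⟩ := h
  refine ⟨_, _, h1, h2, h4, fun e => by subst e; exact three_commit, h3, fun b hb hc => ?_⟩
  have h6 := allN_spec h5 b hb
  simp only [hc, Bool.not_true, Bool.false_or, List.any_eq_true, Bool.and_eq_true, nbeq] at h6
  obtain ⟨e, -, e1, h7⟩ := h6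
  simp only [witOK, Bool.and_eq_true, Bool.or_eq_true, nblt, nbeq] at h7
  obtain ⟨⟨⟨⟨⟨⟨⟨⟨⟨hx, hw⟩, hw'⟩, hu⟩, hd⟩, hcw⟩, hcw'⟩, hcj⟩, hm1⟩, hm2⟩ := h7
  exact ⟨_, _, _, _, hx, hw, hw', hu, by tauto, hcw, hcw', hcj, hm1, hm2.trans e1⟩

section Bound

variable {Γ : Type} [Group Γ] [Finite Γ] {σ : Γ →* J2}

theorem ker_comm (hc : σ.ker ≤ Subgroup.center Γ) {k : Γ} (hk : k ∈ σ.ker) (g : Γ) : Commute g k :=
  Subgroup.mem_center_iff.1 (hc hk) g

theorem comm_congr (hc : σ.ker ≤ Subgroup.center Γ) {x x' y y' : Γ} (hx : σ x = σ x') (hy : σ y = σ y') :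
    ⁅x, y⁆ = ⁅x', y'⁆ := by
  have left : ∀ {s t u : Γ}, σ s = σ t → ⁅s, u⁆ = ⁅t, u⁆ := fun {s t u} h => by
    have hz : ∀ v, Commute v (s * t⁻¹) :=
      ker_comm hc (by rw [MonoidHom.mem_ker, map_mul, map_inv, h, mul_inv_cancel])
    rw [show s = (s * t⁻¹) * t by group, show ⁅s * t⁻¹ * t, u⁆ = (s * t⁻¹) * ⁅t, u⁆ * (s * t⁻¹)⁻¹ * ⁅s * t⁻¹, u⁆ by
      simp only [commutatorElement_def]; group, ← (hz _).eq, mul_inv_cancel_right,
      commutatorElement_eq_one_iff_commute.2 (hz u).symm, mul_one]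
  rw [left hx, ← commutatorElement_inv, left hy, commutatorElement_inv]

theorem comm_mem_ker {x y : Γ} (h : Commute (σ x) (σ y)) : ⁅x, y⁆ ∈ σ.ker := by
  rw [MonoidHom.mem_ker, map_commutatorElement]; exact commutatorElement_eq_one_iff_commute.2 h

theorem comm_mul_right (hc : σ.ker ≤ Subgroup.center Γ) {x y v : Γ} (h : ⁅x, v⁆ ∈ σ.ker) :
    ⁅x, y * v⁆ = ⁅x, y⁆ * ⁅x, v⁆ := by
  rw [show ⁅x, y * v⁆ = ⁅x, y⁆ * (y * ⁅x, v⁆ * y⁻¹) by simp only [commutatorElement_def]; group,
    (ker_comm hc h y).eq, mul_inv_cancel_right]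

/-- Lifts of two elements of the extraspecial subgroup commute. -/
def LiftComm (σ : Γ →* J2) (a b : ℕ) : Prop := ∀ x y : Γ, σ x = qJ a → σ y = qJ b → Commute x y

/-- One row of the witnesses. -/
theorem row_comm (hσ : Cfsg.IsStemExtension σ) {a : ℕ} (ha : a < 32)
    (h3 : a = 3 ∨ ∀ c < 32, LiftComm σ 3 c) {b : ℕ} (hb : b < 32) (hab : qComm a b = true) : LiftComm σ a b := by
  obtain ⟨hsurj, hc, -⟩ := hσ
  rcases eq_or_ne a 0 with rfl | h0
  · intro x y hx _
    exact (ker_comm hc (by rw [MonoidHom.mem_ker, hx, qJ_zero]) y).symm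
  obtain ⟨t, a', ht, ha', hda', h33, hta, hw⟩ := wit_spec ha h0
  obtain ⟨x, w, w', u, hx, hwl, hw', hu, hdx, hcw, hcw', htw, hm1, hm2⟩ := hw b hb hab
  intro g g' hg hg'
  obtain ⟨T, hT⟩ := hsurj (cEl t)
  obtain ⟨A', hA'⟩ := hsurj (qJ a')
  obtain ⟨W, hW⟩ := hsurj (qJ w)
  obtain ⟨W', hW'⟩ := hsurj (qJ w')
  obtain ⟨U, hU⟩ := hsurj (qJ u)
  obtain ⟨V, hV⟩ := hsurj (qJ x)
  obtain ⟨Z, hZ⟩ := hsurj (qJ 3)
  have cw : Commute (qJ a) (qJ w) := (qComm_iff ha hwl).1 hcw
  have cw' : Commute (qJ a) (qJ w') := (qComm_iff ha hw').1 hcw'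
  have e1 : qJ w * qJ u = qJ w' := by rw [qJ_mul hwl hu, hm1]
  have cu : Commute (qJ a) (qJ u) := by
    rw [show qJ u = (qJ w)⁻¹ * qJ w' by rw [← e1, inv_mul_cancel_left]]
    exact cw.inv_right.mul_right cw'
  have k1 : ⁅g, W⁆ ∈ σ.ker := comm_mem_ker (by rw [hg, hW]; exact cw)
  have k2 : ⁅g, U⁆ ∈ σ.ker := comm_mem_ker (by rw [hg, hU]; exact cu)
  have eA : ⁅A', W'⁆ = ⁅g, W'⁆ := by
    rcases hda' with e | e
    · exact comm_congr hc (by rw [hA', hg, e]) rfl
    · rcases h3 with h3 | h3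
      · exact comm_congr hc (by rw [hA', hg, h33 h3, h3]) rfl
      · have hz : Commute Z W' := h3 w' hw' Z W' hZ hW'
        rw [comm_congr hc (x' := g * Z) (y' := W')
          (by rw [hA', map_mul, hg, hZ, qJ_mul ha (by norm_num), e]) rfl,
          show ⁅g * Z, W'⁆ = g * ⁅Z, W'⁆ * g⁻¹ * ⁅g, W'⁆ by simp only [commutatorElement_def]; group,
          commutatorElement_eq_one_iff_commute.2 hz, mul_one, mul_inv_cancel, one_mul]
  have key : ⁅g, W⁆ = ⁅g, W'⁆ := by
    have e : T * ⁅g, W⁆ * T⁻¹ = ⁅T * g * T⁻¹, T * W * T⁻¹⁆ := by simp only [commutatorElement_def]; group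
    rw [(ker_comm hc k1 T).eq, mul_inv_cancel_right, comm_congr hc (x := T * g * T⁻¹) (y := T * W * T⁻¹) (x' := A') (y' := W')
      (by rw [map_mul, map_mul, map_inv, hT, hg, hA', conj_rel ht ha ha' hta, mul_inv_cancel_right])
      (by rw [map_mul, map_mul, map_inv, hT, hW, hW', conj_rel ht hwl hw' htw, mul_inv_cancel_right]), eA] at e
    exact e
  have hgu : ⁅g, U⁆ = 1 := by
    rw [comm_congr hc (x := g) (x' := g) (y := W') (y' := W * U) rfl (by rw [hW', map_mul, hW, hU, e1]),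
      comm_mul_right hc k2] at key
    exact mul_left_cancel (key.symm.trans (mul_one _).symm)
  have hgx : ⁅g, V⁆ = 1 := by
    have hgz : Commute g Z := by
      rcases h3 with h3 | h3
      · exact (commutatorElement_eq_one_iff_commute.1 (by
          rw [comm_congr hc (x' := g) (y' := g) rfl (by rw [hZ, hg, h3]), commutatorElement_self]))
      · exact (h3 a ha Z g hZ hg).symm
    rcases hdx with e | e | e | e
    · exact commutatorElement_eq_one_iff_commute.2 (ker_comm hc (by rw [MonoidHom.mem_ker, hV, e, qJ_zero]) g)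
    · rw [comm_congr hc (x' := g) (y' := g) rfl (by rw [hV, hg, e]), commutatorElement_self]
    · rw [comm_congr hc (x' := g) (y' := Z) rfl (by rw [hV, hZ, e])]
      exact commutatorElement_eq_one_iff_commute.2 hgz
    · rw [comm_congr hc (x' := g) (y' := g * Z) rfl (by rw [hV, map_mul, hg, hZ, qJ_mul ha (by norm_num), e])]
      exact commutatorElement_eq_one_iff_commute.2 ((Commute.refl g).mul_right hgz)
  refine commutatorElement_eq_one_iff_commute.1 ?_
  rw [comm_congr hc (x' := g) (y' := V * U) rfl (by rw [hg', map_mul, hV, hU, qJ_mul hx hu, hm2]),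
    comm_mul_right hc k2, hgu, hgx, mul_one]

/-- Commuting elements of the extraspecial subgroup have commuting lifts. -/
theorem lifts_commute (hσ : Cfsg.IsStemExtension σ) {a b : ℕ} (ha : a < 32) (hb : b < 32)
    (hab : qComm a b = true) : LiftComm σ a b := by
  have h3 : ∀ c < 32, LiftComm σ 3 c := fun c hc => row_comm hσ (by norm_num) (Or.inl rfl) hc (by
    rw [qComm, nbeq]; exact (basics hc).2.2)
  exact row_comm hσ ha (Or.inr h3) hb hab

variable (hσ : Cfsg.IsStemExtension σ)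
include hσ

/-- A chosen lift. -/
theorem exists_common : ∃ z : Γ, σ z = qJ 3 ∧ z * z = 1 ∧
    ∀ a < 32, ∀ b < 32, ∀ x y : Γ, σ x = qJ a → σ y = qJ b → qComm a b = false → ⁅x, y⁆ = z := by
  choose L hL using fun a : ℕ => hσ.1 (qJ a)
  have hc := hσ.2.1
  have val : ∀ {a b : ℕ}, a < 32 → b < 32 → qComm a b = false → σ ⁅L a, L b⁆ = qJ 3 := by
    intro a b ha hb hn
    rw [map_commutatorElement, hL, hL, commutatorElement_def, mul_assoc, ← mul_inv_rev, qJ_mul ha hb, qJ_mul hb ha]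
    rcases comm_dich ha hb with e | e
    · exfalso
      rw [qComm, Bool.eq_false_iff, Ne, nbeq] at hn
      exact hn e
    · rw [e, ← qJ_mul (by norm_num) (qM_lt hb ha), mul_inv_cancel_right]
  have cent : ∀ {a b : ℕ}, a < 32 → b < 32 → qComm a b = false → ∀ c < 32, ∀ x : Γ, σ x = qJ c →
      Commute ⁅L a, L b⁆ x := fun {a b} ha hb hn c hc' x hx => lifts_commute hσ (by norm_num) hc' (by
        rw [qComm, nbeq]; exact (basics hc').2.2) _ _ (val ha hb hn) hx
  have indep : ∀ {a b b' : ℕ}, a < 32 → b < 32 → b' < 32 → qComm a b = false → qComm a b' = false →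
      ⁅L a, L b'⁆ = ⁅L a, L b⁆ := by
    intro a b b' ha hb hb' h h'
    obtain ⟨u, hu, e⟩ := exists_div hb hb'
    have hcu : qComm a u = true := by
      have hx := val ha hb h
      have hx' := val ha hb' h'
      rw [map_commutatorElement, hL, hL] at hx hx'
      rw [← e, ← qJ_mul hb hu, show ⁅qJ a, qJ b * qJ u⁆ = ⁅qJ a, qJ b⁆ * (qJ b * ⁅qJ a, qJ u⁆ * (qJ b)⁻¹) by
        simp only [commutatorElement_def]; group, hx] at hx'
      refine (qComm_iff ha hu).2 (commutatorElement_eq_one_iff_commute.1 ?_)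
      simpa using hx'
    have hone : ⁅L a, L u⁆ = 1 := commutatorElement_eq_one_iff_commute.2 (lifts_commute hσ ha hu hcu _ _ (hL a) (hL u))
    rw [comm_congr hc (x' := L a) (y' := L b * L u) rfl (by rw [hL, map_mul, hL, hL, qJ_mul hb hu, e]),
      comm_mul_right hc (by rw [hone]; exact one_mem _), hone, mul_one]
  have anti : ∀ {a b : ℕ}, qComm a b = false → qComm b a = false := fun {a b} h => by
    rw [qComm, Bool.eq_false_iff, Ne, nbeq] at h ⊢
    exact fun e => h e.symm
  have same : ∀ {a b : ℕ}, a < 32 → b < 32 → qComm a b = false →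
      ⁅L a, L b⁆ * ⁅L a, L b⁆ = 1 := by
    intro a b ha hb h
    have hc' := qM_lt ha hb
    have e1 : σ (L (qM a b)) = σ (L a * L b) := by rw [map_mul, hL, hL, hL, qJ_mul ha hb]
    have n1 : qComm (qM a b) a = false := by
      rw [Bool.eq_false_iff]
      intro hq
      have := (qComm_iff hc' ha).1 hq
      rw [← qJ_mul ha hb] at this
      have hh : Commute (qJ b) (qJ a) := by
        have := (Commute.refl (qJ a)).inv_left.mul_left this
        rwa [inv_mul_cancel_left] at this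
      have h' := anti h
      rw [(qComm_iff hb ha).2 hh] at h'
      exact Bool.noConfusion h'
    have n2 : qComm (qM a b) b = false := by
      rw [Bool.eq_false_iff]
      intro hq
      have := (qComm_iff hc' hb).1 hq
      rw [← qJ_mul ha hb] at this
      have hh : Commute (qJ a) (qJ b) := by
        have := this.mul_left (Commute.refl (qJ b)).inv_left
        rwa [mul_inv_cancel_right] at this
      rw [(qComm_iff ha hb).2 hh] at h
      exact Bool.noConfusion h
    have v1 : ⁅L (qM a b), L a⁆ = ⁅L b, L a⁆ := by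
      rw [comm_congr hc e1 rfl, show ⁅L a * L b, L a⁆ = L a * ⁅L b, L a⁆ * (L a)⁻¹ by
        simp only [commutatorElement_def]; group, ← (cent hb ha (anti h) a ha _ (hL a)).eq, mul_inv_cancel_right]
    have v2 : ⁅L (qM a b), L b⁆ = ⁅L a, L b⁆ := by
      rw [comm_congr hc e1 rfl]; simp only [commutatorElement_def]; group
    have hab : ⁅L b, L a⁆ = ⁅L a, L b⁆ := by
      rw [← v1, ← v2]; exact indep hc' hb ha n2 n1
    nth_rewrite 1 [← commutatorElement_inv]
    rw [hab, inv_mul_cancel]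
  have flip : ∀ {a b : ℕ}, a < 32 → b < 32 → qComm a b = false → ⁅L b, L a⁆ = ⁅L a, L b⁆ := fun {a b} ha hb h => by
    rw [← commutatorElement_inv, inv_eq_of_mul_eq_one_right (same ha hb h)]
  have h14 : qComm 1 14 = false := by
    have h := q_basics
    simp only [Bool.and_eq_true, Bool.not_eq_true'] at h
    exact h.2
  refine ⟨⁅L 1, L 14⁆, val (by norm_num) (by norm_num) h14, same (by norm_num) (by norm_num) h14, ?_⟩
  intro a ha b hb x y hx hy hn
  rw [comm_congr hc (x' := L a) (y' := L b) (by rw [hx, hL]) (by rw [hy, hL])]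
  have nz : ∀ {a b : ℕ}, a < 32 → b < 32 → qComm a b = false → a ≠ 0 ∧ a ≠ 3 := by
    intro a b _ hb h
    rw [qComm, Bool.eq_false_iff, Ne, nbeq] at h
    exact ⟨fun e => h (by rw [e, (basics hb).2.1, (basics hb).1]), fun e => h (by rw [e, (basics hb).2.2])⟩
  have hj := allN_spec conn_chk a ha
  simp only [Bool.or_eq_true, nbeq, (nz ha hb hn).1, (nz ha hb hn).2, false_or] at hj
  have hj' := allN_spec hj 1 (by norm_num)
  simp only [Bool.or_eq_true, nbeq, List.any_eq_true, List.mem_range, Bool.and_eq_true, Bool.not_eq_true',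
    one_ne_zero, show (1 : ℕ) ≠ 3 by norm_num, false_or] at hj'
  obtain ⟨c, hc', n1, n2⟩ := hj'
  exact (indep ha hc' hb (anti n1) hn).trans <| (flip hc' ha n1).trans <|
    (indep hc' (by norm_num : 1 < 32) ha n2 n1).trans <| (flip hc' (by norm_num : 1 < 32) n2).symm.trans <|
    indep (by norm_num) (by norm_num : 14 < 32) hc' h14 (anti n2)

theorem ker_two : ∃ f ∈ σ.ker, f ^ 2 = 1 ∧ σ.ker ≤ Subgroup.zpowers f := by
  obtain ⟨z, hz3, hzz, hzc⟩ := exists_common hσ
  obtain ⟨hsurj, hc, -⟩ := id hσ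
  obtain ⟨D, hD⟩ := hsurj dE
  obtain ⟨X, hX⟩ := hsurj xE
  obtain ⟨Y, hY⟩ := hsurj yE
  obtain ⟨W, hW⟩ := hsurj (qJ wStart)
  have h14 : qComm 1 14 = false := by
    have h := q_basics
    simp only [Bool.and_eq_true, Bool.not_eq_true'] at h
    exact h.2
  -- dichotomy of commutators
  have dich : ∀ x y : Γ, (∃ a < 32, σ x = qJ a) → (∃ b < 32, σ y = qJ b) → ⁅x, y⁆ = 1 ∨ ⁅x, y⁆ = z := by
    rintro x y ⟨a, ha, hx⟩ ⟨b, hb, hy⟩
    cases h : qComm a b
    · exact Or.inr (hzc a ha b hb x y hx hy h)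
    · exact Or.inl (commutatorElement_eq_one_iff_commute.2 (lifts_commute hσ ha hb h x y hx hy))
  have zc : ∀ x : Γ, (∃ a < 32, σ x = qJ a) → Commute z x := fun x ⟨a, ha, hx⟩ =>
    lifts_commute hσ (by norm_num) ha (by rw [qComm, nbeq]; exact (basics ha).2.2) _ _ hz3 hx
  have conjq : ∀ {g : Γ} {p : ℕ × ℕ} {t : List ℕ}, σ g = cEl p → tabOK p t = true → ∀ (x : Γ) (a : ℕ), a < 32 →
      σ x = qJ a → σ (g * x * g⁻¹) = qJ (t.getD a 0) := fun {g p t} hg ht x a ha hx => by
    rw [map_mul, map_mul, map_inv, hg, hx, (tab_rel ht ha).2, mul_inv_cancel_right]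
  have fixz : ∀ {g : Γ} {p : ℕ × ℕ} {t : List ℕ}, σ g = cEl p → tabOK p t = true → g * z * g⁻¹ = z := by
    intro g p t hg ht
    obtain ⟨u, hu⟩ := hsurj (qJ 1)
    obtain ⟨v, hv⟩ := hsurj (qJ 14)
    have e := hzc 1 (by norm_num) 14 (by norm_num) u v hu hv h14
    have hu' := conjq hg ht u 1 (by norm_num) hu
    have hv' := conjq hg ht v 14 (by norm_num) hv
    have hn : qComm (t.getD 1 0) (t.getD 14 0) = false := by
      rw [Bool.eq_false_iff]
      intro hq
      have h1 := (qComm_iff (tab_rel ht (by norm_num)).1 (tab_rel ht (by norm_num)).1).1 hq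
      rw [← hu', ← hv', map_mul, map_mul, map_inv, map_mul σ (g * v), map_mul σ g v, map_inv,
        Commute.conj_iff, hu, hv] at h1
      rw [(qComm_iff (by norm_num) (by norm_num)).2 h1] at h14
      exact Bool.noConfusion h14
    have := hzc _ (tab_rel ht (by norm_num)).1 _ (tab_rel ht (by norm_num)).1 _ _ hu' hv' hn
    rw [← e, show g * ⁅u, v⁆ * g⁻¹ = ⁅g * u * g⁻¹, g * v * g⁻¹⁆ by simp only [commutatorElement_def]; group,
      this, e]
  have zD := fixz hD dE_tab
  have zX := fixz hX xE_tab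
  have zY := fixz hY yE_tab
  -- the first lift and its square
  obtain ⟨hu0, horb, hws, hspan⟩ := orbit_chk
  simp only [List.any_eq_true, List.mem_range, Bool.and_eq_true, nbeq] at hu0
  obtain ⟨u, hu, hu1, hu2⟩ := hu0
  set v := orbV.getD 0 0 with hv
  set W' := D * W * D⁻¹ with hW'
  set a := W⁻¹ * W' with ha
  have hW'q : σ W' = qJ (dTab.getD wStart 0) := conjq hD dE_tab W wStart hws hW
  have hdw : dTab.getD wStart 0 < 32 := (tab_rel dE_tab hws).1
  have haq : σ a = qJ v := by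
    have hinv : (qJ wStart)⁻¹ = qJ u := inv_eq_of_mul_eq_one_left (by rw [qJ_mul hu hws, hu1, qJ_zero])
    rw [ha, map_mul, map_inv, hW, hW'q, hinv, qJ_mul hu hdw, hu2]
  have hv32 : v < 32 := hu2 ▸ qM_lt hu hdw
  have ha2 : a * a = 1 ∨ a * a = z := by
    have hsq : W' * W' = W * W := by
      rw [hW', show D * W * D⁻¹ * (D * W * D⁻¹) = D * (W * W) * D⁻¹ by group]
      have hq : σ (W * W) = qJ (qM wStart wStart) := by rw [map_mul, hW, qJ_mul hws hws]
      rcases sq_dich hws with e | e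
      · rw [e, qJ_zero] at hq
        rw [(ker_comm hc (MonoidHom.mem_ker.2 hq) D).eq, mul_inv_cancel_right]
      · rw [e, ← hz3] at hq
        have hk : W * W * z⁻¹ ∈ σ.ker := by rw [MonoidHom.mem_ker, map_mul, map_inv, hq, mul_inv_cancel]
        calc D * (W * W) * D⁻¹ = D * (W * W * z⁻¹) * D⁻¹ * (D * z * D⁻¹) := by group
          _ = W * W * z⁻¹ * z := by rw [(ker_comm hc hk D).eq, mul_inv_cancel_right, zD]
          _ = W * W := inv_mul_cancel_right _ _
    have hWi : ∃ i < 32, σ W⁻¹ = qJ i := ⟨u, hu, by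
      rw [map_inv, hW, inv_eq_of_mul_eq_one_left (show qJ u * qJ wStart = 1 by rw [qJ_mul hu hws, hu1, qJ_zero])]⟩
    have key : a * a = ⁅W⁻¹, W'⁆ := by
      calc a * a = ⁅W⁻¹, W'⁆ * (W' * (W⁻¹ * W⁻¹) * W') := by
            simp only [ha, commutatorElement_def]; group
        _ = ⁅W⁻¹, W'⁆ := by
          have : W' * (W⁻¹ * W⁻¹) = (W⁻¹ * W⁻¹) * W' := by
            rw [← mul_inv_rev, ← hsq]; group
          rw [this, mul_assoc, hsq, show W⁻¹ * W⁻¹ * (W * W) = 1 by group, mul_one]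
    rw [key]
    exact dich _ _ hWi ⟨_, hdw, hW'q⟩
  set b := X * a * X⁻¹ with hb
  set c := Y * a * Y⁻¹ with hcdef
  set d := X * c * X⁻¹ with hd
  have hbq : σ b = qJ (xTab.getD v 0) := conjq hX xE_tab a v hv32 haq
  have hcq : σ c = qJ (yTab.getD v 0) := conjq hY yE_tab a v hv32 haq
  have hyv := (tab_rel yE_tab hv32).1
  have hdq : σ d = qJ (xTab.getD (yTab.getD v 0) 0) := conjq hX xE_tab c _ hyv hcq
  have inQ : ∀ g ∈ [a, b, c, d], ∃ i < 32, σ g = qJ i := by
    intro g hg
    simp only [List.mem_cons, List.not_mem_nil, or_false] at hg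
    rcases hg with rfl | rfl | rfl | rfl
    exacts [⟨_, hv32, haq⟩, ⟨_, (tab_rel xE_tab hv32).1, hbq⟩, ⟨_, hyv, hcq⟩, ⟨_, (tab_rel xE_tab hyv).1, hdq⟩]
  have sqconj : ∀ {g x : Γ}, g * z * g⁻¹ = z → (x * x = 1 ∨ x * x = z) →
      (g * x * g⁻¹) * (g * x * g⁻¹) = 1 ∨ (g * x * g⁻¹) * (g * x * g⁻¹) = z := by
    intro g x hg hx
    rw [show g * x * g⁻¹ * (g * x * g⁻¹) = g * (x * x) * g⁻¹ by group]
    rcases hx with e | e <;> rw [e]
    · exact Or.inl (by group)
    · exact Or.inr hg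
  have sq : ∀ g ∈ [a, b, c, d], g * g = 1 ∨ g * g = z := by
    intro g hg
    simp only [List.mem_cons, List.not_mem_nil, or_false] at hg
    rcases hg with rfl | rfl | rfl | rfl
    exacts [ha2, sqconj zX ha2, sqconj zY ha2, sqconj zX (sqconj zY ha2)]
  set H := Subgroup.closure ({z} ∪ {g | g ∈ [a, b, c, d]}) with hH
  have hcard : Nat.card H ≤ 32 := Grp.SchurM.card_closure_pairSpan hzz [a, b, c, d] (fun g hg => zc g (inQ g hg)) sq
    fun g hg k hk => (dich g k (inQ g hg) (inQ k hk)).imp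
      (fun e => (commutatorElement_eq_one_iff_commute.1 e).eq)
      (fun e => by rw [← e, commutatorElement_def]; group)
  have zH : z ∈ H := Subgroup.subset_closure (Or.inl rfl)
  have gH : ∀ g ∈ [a, b, c, d], g ∈ H := fun g hg => Subgroup.subset_closure (Or.inr hg)
  have aH := gH a (by simp)
  have bH := gH b (by simp)
  have cH := gH c (by simp)
  have dH := gH d (by simp)
  have horb' : ∀ i < 5, qJ ((3 :: orbV).getD i 0) ∈ H.map σ := by
    intro i hi
    have he : (3 :: orbV) = [3, v, xTab.getD v 0, yTab.getD v 0, xTab.getD (yTab.getD v 0) 0] := by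
      rw [horb]
    rw [he]
    interval_cases i
    exacts [⟨z, zH, hz3⟩, ⟨a, aH, haq⟩, ⟨b, bH, hbq⟩, ⟨c, cH, hcq⟩, ⟨d, dH, hdq⟩]
  have onto : ∀ n < 32, qJ n ∈ H.map σ := by
    intro n hn
    have h := allN_spec hspan n hn
    simp only [Bool.and_eq_true, List.all_eq_true, nblt, nbeq] at h
    obtain ⟨hl, he⟩ := h
    rw [← he]
    have hlt : ∀ i < 5, (3 :: orbV).getD i 0 < 32 := by
      intro i hi
      have : ((List.range 5).all fun i => Nat.blt ((3 :: orbV).getD i 0) 32) = true := by decide +kernel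
      exact nblt.1 (List.all_eq_true.1 this i (List.mem_range.2 hi))
    have key : ∀ w : List ℕ, (∀ i ∈ w, i < 5) → w.foldr (fun i r => qM ((3 :: orbV).getD i 0) r) 0 < 32 ∧
        qJ (w.foldr (fun i r => qM ((3 :: orbV).getD i 0) r) 0) ∈ H.map σ := by
      intro w
      induction w with
      | nil => exact fun _ => ⟨by norm_num, by rw [List.foldr_nil, qJ_zero]; exact one_mem _⟩
      | cons i w ih =>
        intro hw
        obtain ⟨h1, h2⟩ := ih fun j hj => hw j (List.mem_cons_of_mem _ hj)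
        have hi := hw i List.mem_cons_self
        refine ⟨qM_lt (hlt i hi) h1, ?_⟩
        rw [List.foldr_cons, ← qJ_mul (hlt i hi) h1]
        exact mul_mem (horb' i hi) h2
    exact (key _ hl).2
  have inj : ∀ w ∈ H, σ w = 1 → w = 1 := by
    have h32 : 32 ≤ Nat.card (H.map σ) := by
      have := Nat.card_le_card_of_injective (fun n : Fin 32 => (⟨qJ n, onto n n.isLt⟩ : H.map σ))
        fun m n e => Fin.ext (qJ_inj m.isLt n.isLt (congrArg Subtype.val e))
      simpa using this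
    intro w hw h1
    by_contra hne
    have hlt : Nat.card (H.map σ) < Nat.card H := by
      have := Fintype.ofFinite H
      have := Fintype.ofFinite (H.map σ)
      rw [Nat.card_eq_fintype_card, Nat.card_eq_fintype_card]
      refine Fintype.card_lt_of_surjective_not_injective (fun x : H => (⟨σ x, ⟨x, x.2, rfl⟩⟩ : H.map σ)) ?_ ?_
      · rintro ⟨_, x, hx, rfl⟩; exact ⟨⟨x, hx⟩, rfl⟩
      · intro hi
        exact hne (congrArg Subtype.val (hi (a₁ := ⟨w, hw⟩) (a₂ := 1) (Subtype.ext (by simpa using h1))))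
    omega
  -- the commutator of the complementary lifts
  set f := ⁅X, Y⁆ with hf
  obtain ⟨hx2, hy2, hxy⟩ := comp_rel
  have hfk : f ∈ σ.ker := comm_mem_ker (by rw [hX, hY]; exact hxy)
  have hXk : X * X ∈ σ.ker := by rw [MonoidHom.mem_ker, map_mul, hX, hx2]
  have hYk : Y * Y ∈ σ.ker := by rw [MonoidHom.mem_ker, map_mul, hY, hy2]
  have hf2 : f ^ 2 = 1 := by
    have h1 : ⁅X * X, Y⁆ = 1 := commutatorElement_eq_one_iff_commute.2 (ker_comm hc hXk Y).symm
    rw [show ⁅X * X, Y⁆ = X * ⁅X, Y⁆ * X⁻¹ * ⁅X, Y⁆ by simp only [commutatorElement_def]; group, ← hf,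
      (ker_comm hc hfk X).eq, mul_inv_cancel_right] at h1
    rw [pow_two]; exact h1
  have conjK : ∀ {g x : Γ}, g * g ∈ σ.ker → g * (g * x * g⁻¹) * g⁻¹ = x := fun {g x} hg => by
    rw [show g * (g * x * g⁻¹) * g⁻¹ = g * g * x * (g * g)⁻¹ by group, ← (ker_comm hc hg x).eq, mul_inv_cancel_right]
  have hXb : X * b * X⁻¹ = a := conjK hXk
  have hXd : X * d * X⁻¹ = c := conjK hXk
  have hYc : Y * c * Y⁻¹ = a := conjK hYk
  have hswap : ∀ x : Γ, Y * (X * x * X⁻¹) * Y⁻¹ = X * (Y * x * Y⁻¹) * X⁻¹ := fun x => by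
    rw [show X * (Y * x * Y⁻¹) * X⁻¹ = f * (Y * (X * x * X⁻¹) * Y⁻¹) * f⁻¹ by
      simp only [hf, commutatorElement_def]; group, ← (ker_comm hc hfk _).eq, mul_inv_cancel_right]
  have hYb : Y * b * Y⁻¹ = d := hswap a
  have hYd : Y * d * Y⁻¹ = b := by rw [hd, hswap, hYc]
  set M := H ⊔ Subgroup.zpowers f with hM
  have hHM : H ≤ M := le_sup_left
  have fM : f ∈ M := Subgroup.mem_sup_right (Subgroup.mem_zpowers f)
  have hXg : ∀ g ∈ [a, b, c, d], X * g * X⁻¹ ∈ H := by
    intro g hg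
    simp only [List.mem_cons, List.not_mem_nil, or_false] at hg
    rcases hg with rfl | rfl | rfl | rfl
    exacts [bH, hXb ▸ aH, dH, hXd ▸ cH]
  have hYg : ∀ g ∈ [a, b, c, d], Y * g * Y⁻¹ ∈ H := by
    intro g hg
    simp only [List.mem_cons, List.not_mem_nil, or_false] at hg
    rcases hg with rfl | rfl | rfl | rfl
    exacts [cH, hYb ▸ dH, hYc ▸ aH, hYd ▸ bH]
  set S : Set Γ := ({z} ∪ {g | g ∈ [a, b, c, d]}) ∪ {X, Y} ∪ (σ.ker : Set Γ) with hS
  have hconjS : ∀ s ∈ S, ∀ n ∈ M, s * n * s⁻¹ ∈ M := by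
    intro s hs
    have hle : M ≤ M.comap (MulAut.conj s).toMonoidHom := by
      rw [hM, sup_le_iff, hH, Subgroup.closure_le, Subgroup.zpowers_le]
      constructor
      · intro g hg
        show s * g * s⁻¹ ∈ M
        rcases hs with (hs | rfl | rfl) | hs
        · exact hHM (mul_mem (mul_mem (Subgroup.subset_closure hs) (Subgroup.subset_closure hg))
            (inv_mem (Subgroup.subset_closure hs)))
        · rcases hg with rfl | hg
          · rw [zX]; exact hHM zH
          · exact hHM (hXg g hg)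
        · rcases hg with rfl | hg
          · rw [zY]; exact hHM zH
          · exact hHM (hYg g hg)
        · rw [← (ker_comm hc hs g).eq, mul_inv_cancel_right]
          exact hHM (Subgroup.subset_closure hg)
      · show s * f * s⁻¹ ∈ M
        rw [(ker_comm hc hfk s).eq, mul_inv_cancel_right]; exact fM
    exact fun n hn => hle hn
  have hcommS : ∀ x ∈ S, ∀ y ∈ S, ⁅x, y⁆ ∈ M := by
    have k1 : ∀ (k g : Γ), k ∈ σ.ker → ⁅k, g⁆ = 1 ∧ ⁅g, k⁆ = 1 := fun k g hk =>
      ⟨commutatorElement_eq_one_iff_commute.2 (ker_comm hc hk g).symm,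
        commutatorElement_eq_one_iff_commute.2 (ker_comm hc hk g)⟩
    have hA : ∀ x ∈ ({z} ∪ {g | g ∈ [a, b, c, d]} : Set Γ), x ∈ H := fun x hx => Subgroup.subset_closure hx
    have xg : ∀ x ∈ ({z} ∪ {g | g ∈ [a, b, c, d]} : Set Γ), ⁅X, x⁆ ∈ H ∧ ⁅Y, x⁆ ∈ H := by
      intro x hx
      simp only [commutatorElement_def]
      refine ⟨mul_mem ?_ (inv_mem (hA x hx)), mul_mem ?_ (inv_mem (hA x hx))⟩
      · rcases hx with rfl | hg
        · rw [zX]; exact zH
        · exact hXg x hg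
      · rcases hx with rfl | hg
        · rw [zY]; exact zH
        · exact hYg x hg
    intro x hx y hy
    rcases hy with hy | hy
    swap
    · rw [(k1 y x hy).2]; exact one_mem _
    rcases hx with hx | hx
    swap
    · rw [(k1 x y hx).1]; exact one_mem _
    rcases hx with hx | rfl | rfl <;> rcases hy with hy | rfl | rfl
    · refine hHM ?_
      rw [commutatorElement_def]
      exact mul_mem (mul_mem (mul_mem (hA x hx) (hA y hy)) (inv_mem (hA x hx))) (inv_mem (hA y hy))
    · rw [← commutatorElement_inv]; exact inv_mem (hHM (xg x hx).1)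
    · rw [← commutatorElement_inv]; exact inv_mem (hHM (xg x hx).2)
    · exact hHM (xg y hy).1
    · rw [commutatorElement_self]; exact one_mem _
    · rw [← hf]; exact fM
    · exact hHM (xg y hy).2
    · rw [← commutatorElement_inv, ← hf]; exact inv_mem fM
    · rw [commutatorElement_self]; exact one_mem _
  have hder := Grp.SchurM.derived_closure_le S M hconjS hcommS
  have hpre : (Subgroup.closure sylSet).comap σ ≤ Subgroup.closure S := by
    intro g hg
    have hle : Subgroup.closure sylSet ≤ (Subgroup.closure S).map σ := by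
      refine (Subgroup.closure_le _).2 ?_
      have hHS : H ≤ Subgroup.closure S := Subgroup.closure_mono (fun x hx => Or.inl (Or.inl hx))
      rintro _ (⟨n, hn, rfl⟩ | rfl | rfl)
      · exact Subgroup.map_mono hHS (onto n hn)
      · exact ⟨X, Subgroup.subset_closure (Or.inl (Or.inr (Or.inl rfl))), hX⟩
      · exact ⟨Y, Subgroup.subset_closure (Or.inl (Or.inr (Or.inr rfl))), hY⟩
    obtain ⟨g', hg', e⟩ := hle hg
    have hk : g'⁻¹ * g ∈ σ.ker := by rw [MonoidHom.mem_ker, map_mul, map_inv, e, inv_mul_cancel]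
    rw [show g = g' * (g'⁻¹ * g) by group]
    exact mul_mem hg' (Subgroup.subset_closure (Or.inr hk))
  have hidx : ¬ 2 ∣ (Subgroup.closure sylSet).index := by
    rw [index_of_card card_syl (m := 4725) (by norm_num) (by norm_num)]
    norm_num
  refine ⟨f, hfk, hf2, fun k hk => ?_⟩
  -- the kernel has two-power exponent
  obtain ⟨n, hn⟩ : ∃ n, orderOf k = 2 ^ n := by
    refine ⟨_, Nat.eq_prime_pow_of_unique_prime_dvd (orderOf_pos k).ne' fun {p} hp hd => ?_⟩
    by_contra h2
    have := Fact.mk hp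
    exact no_odd σ hσ (pow_mem hk (orderOf k / p)) hp h2
      (orderOf_pow_orderOf_div (orderOf_pos k).ne' hd)
  have hmem : k ∈ ⁅(Subgroup.closure sylSet).comap σ, (Subgroup.closure sylSet).comap σ⁆ := by
    refine Spor.Mult.mem_derived_of_coprime _ (hc hk) (hσ.2.2 hk) ?_
    rw [hn, Subgroup.index_comap_of_surjective _ hsurj]
    exact (Nat.prime_two.coprime_iff_not_dvd.2 hidx).pow_left _
  have hkM : k ∈ H ⊔ Subgroup.zpowers f := hder (Subgroup.commutator_mono hpre hpre hmem)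
  have : (Subgroup.zpowers f).Normal := ⟨fun n hn g => by
    obtain ⟨i, rfl⟩ := Subgroup.mem_zpowers_iff.1 hn
    rw [((ker_comm hc hfk g).zpow_right i).eq, mul_inv_cancel_right]
    exact hn⟩
  obtain ⟨w, hw, e, ⟨i, rfl⟩, rfl⟩ := Subgroup.mem_sup_of_normal_right.1 hkM
  have hw1 : σ w = 1 := by
    have h1 : σ (w * f ^ i) = 1 := hk
    rwa [map_mul, map_zpow, MonoidHom.mem_ker.1 hfk, one_zpow, mul_one] at h1
  exact ⟨i, by rw [inj w hw hw1, one_mul]⟩

end Bound

end Cfsg.Agent.J2Cert.Mult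

end
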