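import Cfsg.Agent.Lib.Spor.J2.Structure
import Cfsg.Agent.Lib.Spor.J2.MultData

/-! Words in the generating reflections and their lifts. -/

set_option autoImplicit false

noncomputable section

namespace Cfsg.Agent.J2Cert.Mult

open Quaternion Cfsg.Spor

/-- The product of a generator word in the reflection group. -/
def gwG : List ℕ → twoJ2
  | [] => 1
  | s :: w => (if h : s < 4 then gG ⟨s, h⟩ else 1) * gwG w

/-- Its image. -/
def gwJ (w : List ℕ) : J2 := QuotientGroup.mk (gwG w)

theorem acts_gwJ : ∀ w : List ℕ, (w.all fun s => Nat.blt s 4) = true → Acts (gwJ w) (wP gP w)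
  | [], _ => acts_one
  | s :: w, h => by
    simp only [List.all_cons, Bool.and_eq_true] at h
    have hs : s < 4 := nblt.1 h.1
    have e : gwJ (s :: w) = gJ ⟨s, hs⟩ * gwJ w := by
      unfold gwJ gJ
      rw [gwG, dif_pos hs]
      rfl
    rw [e]
    exact (acts_gJ ⟨s, hs⟩).mul (acts_gwJ w h.2)

theorem gwG_append : ∀ v w : List ℕ, gwG (v ++ w) = gwG v * gwG w
  | [], w => (one_mul _).symm
  | s :: v, w => by simp only [List.cons_append, gwG, gwG_append v w, mul_assoc]

theorem gen_image_unit {s i : ℕ} (hs : s < 4) (hi : i < 315) :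
    qrefl (lv (genLine.getD s 0)) (lv i) = lsmul (uq (gUnit s i)) (lv (gP s i)) := by
  have h := allLt_spec (allLt_spec ref_chk s hs) i hi
  simp only [refChk, Bool.and_eq_true, decide_eq_true_eq] at h
  obtain ⟨⟨⟨⟨hu, hj⟩, h0⟩, h1⟩, h2⟩ := h
  set r := genLine.getD s 0
  set j := gP s i
  have hS : emb (ipRaw (line3 i) (line3 r)) = (4 : ℝ) • qip (lv i) (lv r) := emb_qipRaw (lineT i) (lineT r)
  have key : ∀ (x r0 y : Q8), imgEq (ipRaw (line3 i) (line3 r)) r0 x (units.getD (gUnit s i) qzero) y = true →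
      emb x - ((1 / 2 : ℝ) • qip (lv i) (lv r)) * emb r0 = uq (gUnit s i) * emb y := fun x r0 y e => by
    have e' := congrArg emb (qeq_eq e)
    simp only [emb_sub, emb_smul, emb_raw, hS, smul_mul_assoc, smul_smul] at e'
    refine smul_right_injective ℍ[ℝ] (by norm_num : (32 : ℝ) ≠ 0) ?_
    simp only [smul_sub, smul_mul_assoc, smul_smul, uq]
    convert e' using 2 <;> norm_num
  funext t
  fin_cases t
  · exact key _ _ _ h0
  · exact key _ _ _ h1
  · exact key _ _ _ h2

theorem qrefl_lsmul_left (r : Fin 3 → ℍ[ℝ]) (a : ℍ[ℝ]) (x : Fin 3 → ℍ[ℝ]) :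
    qrefl r (lsmul a x) = lsmul a (qrefl r x) := by
  funext t
  simp only [qrefl, qip_lsmul, lsmul, mul_sub, smul_mul_assoc, mul_smul_comm, mul_assoc]

theorem track_spec : ∀ (w : List ℕ) (i : ℕ) (hi : i < 315), (w.all fun s => Nat.blt s 4) = true →
    (trackW w i).2.2 = true → (trackW w i).1 < 315 ∧
      (((gwG w : twoJ2) : Equiv.Perm icoLeech) (lvL ⟨i, hi⟩) : Fin 3 → ℍ[ℝ]) =
        lsmul (emb (trackW w i).2.1) (lv (trackW w i).1)
  | [], i, hi, _, _ => by
    refine ⟨hi, ?_⟩
    show lv i = lsmul (emb qone) (lv i)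
    rw [emb_one, lsmul_one]
  | s :: w, i, hi, hw, hok => by
    simp only [List.all_cons, Bool.and_eq_true] at hw
    simp only [trackW, Bool.and_eq_true] at hok
    have hs : s < 4 := nblt.1 hw.1
    obtain ⟨hj, ih⟩ := track_spec w i hi hw.2 hok.1
    have hk : gP s (trackW w i).1 < 315 := (gen_image hs hj).1
    refine ⟨hk, ?_⟩
    have hg : ∀ y : icoLeech, (((gG ⟨s, hs⟩ : twoJ2) : Equiv.Perm icoLeech) y : Fin 3 → ℍ[ℝ]) =
        qrefl (lv (genLine.getD s 0)) y := fun y => genR_refl ⟨s, hs⟩ y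
    rw [gwG, dif_pos hs, Subgroup.coe_mul, Equiv.Perm.mul_apply, hg, ih, qrefl_lsmul_left,
      gen_image_unit hs hj, lsmul_lsmul]
    simp only [trackW]
    rw [emb_mul hok.2]
    rfl

theorem neg_lift : ∃ g : twoJ2, g * g = negG := by
  obtain ⟨hfr, hok, h0, hu⟩ : agree frame (wP gP (negWord ++ negWord)) id = true ∧
      (trackW (negWord ++ negWord) 0).2.2 = true ∧ (trackW (negWord ++ negWord) 0).1 = 0 ∧
      (trackW (negWord ++ negWord) 0).2.1 = units.getD 1 qzero := by
    have h := neg_chk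
    simp only [Bool.and_eq_true] at h
    exact ⟨h.1.1.1, h.1.1.2, nbeq.1 h.1.2, qeq_eq h.2⟩
  have hw : ((negWord ++ negWord).all fun s => Nat.blt s 4) = true := by decide +kernel
  have h1 : gwJ (negWord ++ negWord) = 1 := (acts_gwJ _ hw).ext acts_one hfr
  have hz : gwG (negWord ++ negWord) ∈ Subgroup.center twoJ2 := (QuotientGroup.eq_one_iff _).1 h1
  refine ⟨gwG negWord, ?_⟩
  rw [← gwG_append]
  rcases (center_eq _).1 hz with e | e
  · exfalso
    obtain ⟨-, hv⟩ := track_spec _ 0 (by norm_num) hw hok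
    rw [e, h0, hu] at hv
    have h' : lsmul (uq 0) (lv 0) = lsmul (uq 1) (lv 0) := by
      rw [uq_zero, lsmul_one]
      exact hv
    exact absurd (line_unique' (by norm_num) (by norm_num) (by norm_num) (by norm_num) h').2 (by norm_num)
  · exact e

end Cfsg.Agent.J2Cert.Mult

end
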