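import Mathlib
import Cfsg.Prelude.Def_KGroupFacts
import Cfsg.Agent.Lib.Spor.J2.Structure
import Cfsg.Agent.Lib.Spor.J2.CheckAut

/-! The outer automorphism group of the Hall–Janko group has order two. -/

set_option autoImplicit false

noncomputable section

namespace Cfsg.Agent.J2Cert

open Cfsg.Spor

/-- the image of a reflection -/
def rJ (x : Fin 315) : J2 := QuotientGroup.mk (refl x)

/-- the image of the reflection in the first line -/
def z0 : J2 := QuotientGroup.mk r0

theorem acts_z0 : Acts z0 r0P := fun x => r0_smul x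

theorem rJ_conj (q : J2) (x : Fin 315) : q * rJ x * q⁻¹ = rJ (q • x) := by
  obtain ⟨g, rfl⟩ := QuotientGroup.mk_surjective q
  rw [mk_smul]
  show _ = QuotientGroup.mk (refl (g • x))
  rw [← refl_conj]
  rfl

theorem rJ_p1 : rJ p1 = z0 := congrArg QuotientGroup.mk refl_p1

theorem fm_z0 (j : Fin 160) (l : Fin 12) : fJ j * mJ l * z0 * (fJ j * mJ l)⁻¹ = z0 := by
  rw [← rJ_p1, rJ_conj, fm_fix]

theorem rJ_gen (s : Fin 4) : rJ ⟨genLine.getD s 0, gLine_lt s s.isLt⟩ = gJ s :=
  congrArg QuotientGroup.mk (Subtype.ext (((genR_refl s).unique (refl_isRefl _)).symm))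

theorem rJ_inj : Function.Injective rJ := by
  intro x y h
  have key : ∀ w, rJ w = rJ p1 → w = p1 := by
    intro w hw
    have e : eJ (pos w) * z0 = z0 * eJ (pos w) := by
      have := rJ_conj (eJ (pos w)) p1
      rw [eJ_pos, hw, rJ_p1] at this
      exact mul_inv_eq_iff_eq_mul.1 this
    have hagree : agree frame (fun z => eP (pos w) (r0P z)) (fun z => r0P (eP (pos w) z)) = true :=
      List.all_eq_true.2 fun f hf => by
        have hf' : f < 315 := nblt.1 (List.all_eq_true.1 frame_lt f hf)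
        have h1 := ((acts_eJ (pos w)).mul acts_z0) ⟨f, hf'⟩
        have h2 := (acts_z0.mul (acts_eJ (pos w))) ⟨f, hf'⟩
        rw [e, h2] at h1
        exact nbeq.2 h1.symm
    have h0 := allN_spec r0_conj_chk (pos w) (pos w).isLt
    rw [hagree, Bool.not_true, Bool.or_false] at h0
    rw [← eJ_pos w, show pos w = (0 : Fin 315) from Fin.ext (nbeq.1 h0), eJ_zero, one_smul]
  have hy := key ((eJ (pos y))⁻¹ • x) (by rw [← rJ_conj, h, rJ_conj, inv_smul_eq_iff.2 (eJ_pos y).symm])
  rw [inv_smul_eq_iff, eJ_pos] at hy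
  exact hy

theorem rJ_sq (x : Fin 315) : rJ x * rJ x = 1 := by
  have h : refl x * refl x = 1 := by
    apply Subtype.ext
    rw [Subgroup.coe_mul, Subgroup.coe_one]
    exact mul_eq_one_iff_eq_inv.2 (refl_inv (refl_isRefl x).isRefl).symm
  unfold rJ
  rw [← QuotientGroup.mk_mul, h, QuotientGroup.mk_one]

theorem rJ_ne_one (x : Fin 315) : rJ x ≠ 1 := fun e => by
  have h : ∀ y, rJ y = 1 := fun y => by
    rw [show rJ y = (eJ (pos y) * (eJ (pos x))⁻¹) * rJ x * (eJ (pos y) * (eJ (pos x))⁻¹)⁻¹ by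
      rw [rJ_conj, mul_smul, inv_smul_eq_iff.2 (eJ_pos x).symm, eJ_pos], e, mul_one, mul_inv_cancel]
  exact absurd (rJ_inj ((h p1).trans (h ⟨0, by norm_num⟩).symm)) (by decide +kernel)

theorem rJ_closure : Subgroup.closure (Set.range rJ) = ⊤ := by
  rw [← top_le_iff, ← closure_gJ]
  exact Subgroup.closure_mono (by rintro _ ⟨s, rfl⟩; exact ⟨_, rJ_gen s⟩)

theorem dd_smul (q : J2) : ∀ x y : Fin 315, dd (q • x : Fin 315) (q • y : Fin 315) = dd x y := by
  have h := stable_mem (T := Set.range gJ) (S := {q : J2 | ∀ x y : Fin 315, dd (q • x : Fin 315) (q • y : Fin 315) = dd x y})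
    ?_ (g := q) (by rw [closure_gJ]; trivial) 1 (fun x y => by simp)
  · rw [mul_one] at h; exact h
  rintro _ ⟨s, rfl⟩ p hp x y
  rw [mul_smul, mul_smul, ← hp x y, acts_gJ, acts_gJ]
  have := allN_spec (allN_spec dd_equiv s s.isLt) (p • x : Fin 315) (p • x : Fin 315).isLt
  exact nbeq.1 (allN_spec this _ (p • y : Fin 315).isLt)

theorem acts_nf (t : ℕ × ℕ × ℕ) (h : nfOK t = true) : ∃ q : J2, Acts q (nfP t) := by
  simp only [nfOK, Bool.and_eq_true, nblt] at h
  exact ⟨xJ ⟨_, h.1.1⟩ ⟨_, h.1.2⟩ ⟨_, h.2⟩, acts_xJ _ _ _⟩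

theorem move_to_rep (x y : Fin 315) : ∃ (q : J2) (o : ℕ) (ho : o < 6),
    q • x = p1 ∧ q • y = (⟨_, rep_lt ho⟩ : Fin 315) := by
  obtain ⟨ho, j, l, hrep, -⟩ := conj_row ((eJ (pos x))⁻¹ • y)
  refine ⟨fJ j * mJ l * (eJ (pos x))⁻¹, _, ho, ?_, Fin.ext ?_⟩
  · rw [mul_smul, inv_smul_eq_iff.2 (eJ_pos x).symm, fm_fix]
  · rw [mul_smul, mul_smul, acts_fJ, acts_mJ]; exact hrep

theorem dd_order (x y : Fin 315) : orderOf (rJ x * rJ y) = dd x y ∧ dd x y < 6 := by
  obtain ⟨q, o, ho, hx, hy⟩ := move_to_rep x y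
  set r : Fin 315 := ⟨_, rep_lt ho⟩
  have e1 : q * (rJ x * rJ y) * q⁻¹ = z0 * rJ r := by
    rw [show q * (rJ x * rJ y) * q⁻¹ = (q * rJ x * q⁻¹) * (q * rJ y * q⁻¹) by group, rJ_conj, rJ_conj, hx, hy, rJ_p1]
  have hd : dd x y = dd b1 r := by rw [← dd_smul q x y, hx, hy]; rfl
  have h := allN_spec dd_rep o ho
  simp only [dRep, Bool.and_eq_true, nblt] at h
  obtain ⟨⟨⟨⟨⟨hok, hag⟩, hpos⟩, h6⟩, hfix⟩, hmin⟩ := h
  obtain ⟨w, hw⟩ := acts_nf _ hok
  have hwr : w = rJ r := by
    have h1 : w * eSub o ho = eSub o ho * z0 := (hw.mul (acts_eSub ho)).ext ((acts_eSub ho).mul acts_z0) hag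
    have h2 := rJ_conj (eSub o ho) p1
    rw [eSub_b1, rJ_p1] at h2
    rw [← h2, ← h1, mul_inv_cancel_right]
  subst hwr
  refine ⟨?_, hd ▸ h6⟩
  rw [← orderOf_injective (MulAut.conj q).toMonoidHom (MulAut.conj q).injective]
  show orderOf (q * (rJ x * rJ y) * q⁻¹) = _
  rw [e1, hd]
  refine (orderOf_eq_iff hpos).2 ⟨((acts_z0.mul hw).pow _).eq_one hfix, fun d hd' h0 e => ?_⟩
  have hm := allN_spec hmin d hd'
  simp only [Bool.or_eq_true, nbeq, List.any_eq_true, Bool.not_eq_true'] at hm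
  rcases hm with hm | ⟨f, hf, hm⟩
  · omega
  · have hf' : f < 315 := nblt.1 (List.all_eq_true.1 base_lt f hf)
    have hp := (acts_z0.mul hw).pow d ⟨f, hf'⟩
    rw [e, one_smul] at hp
    rw [← hp, Nat.beq_refl] at hm
    exact Bool.noConfusion hm

/-- the defining property of the reflection class -/
def IsRC (u : J2) : Prop := u * u = 1 ∧ u ≠ 1 ∧ ∀ g : J2, orderOf (u * (g * u * g⁻¹)) < 6

theorem isRC_rJ (x : Fin 315) : IsRC (rJ x) := by
  refine ⟨rJ_sq x, rJ_ne_one x, fun g => ?_⟩
  rw [rJ_conj, (dd_order x _).1]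
  exact (dd_order x _).2

theorem std_form (u : J2) : ∃ (c : J2) (o : ℕ) (ho : o < 6) (j : Fin 160) (l : Fin 12),
    c * u * c⁻¹ = eSub o ho * (fJ j * mJ l) := by
  obtain ⟨ho, j, l, hrep, -⟩ := conj_row (u • p1)
  set o := papp subT (u • p1 : Fin 315)
  set c := fJ j * mJ l
  have hc : (c * u * c⁻¹) • p1 = ⟨_, rep_lt ho⟩ := by
    rw [mul_smul, mul_smul, show c⁻¹ • p1 = p1 from inv_smul_eq_iff.2 (fm_fix j l).symm]
    exact Fin.ext (by rw [mul_smul, acts_fJ, acts_mJ]; exact hrep)
  obtain ⟨i, j', l', hx⟩ := exists_xJ (c * u * c⁻¹)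
  have hi : i = pos ⟨_, rep_lt ho⟩ := by
    refine Fin.ext (o1_inj i.isLt (pos ⟨_, rep_lt ho⟩).isLt ?_)
    rw [hx, xJ, mul_smul, fm_fix] at hc
    rw [← eP_b1 i.isLt, ← eP_b1 (pos ⟨_, rep_lt ho⟩).isLt]
    exact (acts_eJ i p1).symm.trans ((congrArg Fin.val (hc.trans (eJ_pos _).symm)).trans (acts_eJ _ p1))
  subst hi
  exact ⟨c, o, ho, j', l', hx⟩

theorem RC_eq {u : J2} (hu : IsRC u) : ∃ x, u = rJ x := by
  obtain ⟨c, o, ho, j, l, hc⟩ := std_form u
  set v := eSub o ho * (fJ j * mJ l)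
  have hv : Acts v (xP (subI o) j l) := (acts_eSub ho).mul ((acts_fJ j).mul (acts_mJ l))
  have hne : v ≠ 1 := fun e => hu.2.1 (by
    rw [e] at hc
    have h' := congrArg (fun t => c⁻¹ * t * c) hc
    simpa [mul_assoc] using h')
  have hsq : v * v = 1 := by
    rw [← hc, show c * u * c⁻¹ * (c * u * c⁻¹) = c * (u * u) * c⁻¹ by group, hu.1, mul_one, mul_inv_cancel]
  have h := allN_spec (allN_spec (allN_spec inv_chk o ho) j j.isLt) l l.isLt
  simp only [invOK, Bool.or_eq_true, List.any_eq_true, Bool.and_eq_true, nbeq, Bool.not_eq_true'] at h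
  rcases h with (⟨f, hf, e⟩ | e) | ⟨w, -, -, hw⟩
  · exfalso
    have hf' : f < 315 := nblt.1 (List.all_eq_true.1 base_lt f hf)
    have hp := (hv.pow 2) ⟨f, hf'⟩
    rw [sq, hsq, one_smul] at hp
    rw [← hp, Nat.beq_refl] at e
    exact Bool.noConfusion e
  · exact absurd (hv.eq_one e) hne
  · cases hb : Nat.beq w.2.1 1 with
    | true =>
      rw [hb, cond_true] at hw
      simp only [Bool.and_eq_true, nblt] at hw
      obtain ⟨hk, hag⟩ := hw
      set k : Fin 315 := ⟨_, hk⟩
      have h1 : v * eJ (pos k) = eJ (pos k) * z0 := (hv.mul (acts_eJ (pos k))).ext ((acts_eJ (pos k)).mul acts_z0) hag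
      have h2 : v = rJ k := by
        have h3 := rJ_conj (eJ (pos k)) p1
        rw [eJ_pos, rJ_p1] at h3
        rw [← h3, ← h1, mul_inv_cancel_right]
      refine ⟨c⁻¹ • k, ?_⟩
      rw [← rJ_conj, ← h2, ← hc]
      group
    | false =>
      exfalso
      rw [hb, cond_false] at hw
      simp only [Bool.and_eq_true] at hw
      obtain ⟨⟨⟨hg, hy⟩, hag⟩, hmin⟩ := hw
      obtain ⟨g, ag⟩ := acts_nf _ hg
      obtain ⟨y, ay⟩ := acts_nf _ hy
      have hyg : g * v * g⁻¹ = y := mul_inv_eq_iff_eq_mul.2 ((ay.mul ag).ext (ag.mul hv) hag).symm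
      have hlt : orderOf (v * y) < 6 := by
        have h := hu.2.2 (c⁻¹ * g * c)
        rw [← orderOf_injective (MulAut.conj c).toMonoidHom (MulAut.conj c).injective] at h
        rw [← hyg, ← hc]
        convert h using 2
        simp only [MulEquiv.coe_toMonoidHom, MulAut.conj_apply]
        group
      have hm := allN_spec hmin _ hlt
      simp only [Bool.or_eq_true, nbeq, List.any_eq_true, Bool.not_eq_true'] at hm
      rcases hm with hm | ⟨f, hf, hm⟩
      · exact (orderOf_pos (v * y)).ne' hm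
      · have hf' : f < 315 := nblt.1 (List.all_eq_true.1 base_lt f hf)
        have hp := (hv.mul ay).pow (orderOf (v * y)) ⟨f, hf'⟩
        rw [pow_orderOf_eq_one, one_smul] at hp
        rw [← hp, Nat.beq_refl] at hm
        exact Bool.noConfusion hm

theorem aut_rJ (φ : MulAut J2) (x : Fin 315) : ∃ y, φ (rJ x) = rJ y := by
  obtain ⟨h1, h2, h3⟩ := isRC_rJ x
  refine RC_eq ⟨by rw [← map_mul, h1, map_one], fun e => h2 (φ.injective (e.trans (map_one φ).symm)), fun g => ?_⟩
  obtain ⟨g, rfl⟩ := φ.surjective g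
  rw [← map_inv, ← map_mul, ← map_mul, ← map_mul, ← MulEquiv.coe_toMonoidHom, orderOf_injective _ φ.injective]
  exact h3 g

/-- the permutation of the lines induced by an automorphism -/
def piF (φ : MulAut J2) (x : Fin 315) : Fin 315 := (aut_rJ φ x).choose

theorem piF_spec (φ : MulAut J2) (x : Fin 315) : φ (rJ x) = rJ (piF φ x) := (aut_rJ φ x).choose_spec

theorem piF_inj (φ : MulAut J2) : Function.Injective (piF φ) := fun x y e =>
  rJ_inj (φ.injective (by rw [piF_spec, piF_spec, e]))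

/-- permutations preserving the table -/
def Keeps (π : Equiv.Perm (Fin 315)) : Prop := ∀ x y, dd (π x : Fin 315) (π y : Fin 315) = dd x y

/-- the induced map into permutations preserving the table -/
def piA (φ : MulAut J2) : {π : Equiv.Perm (Fin 315) // Keeps π} :=
  ⟨Equiv.ofBijective _ (Finite.injective_iff_bijective.1 (piF_inj φ)), fun x y => by
    rw [← (dd_order x y).1, ← (dd_order _ _).1]
    show orderOf (rJ (piF φ x) * rJ (piF φ y)) = _
    rw [← piF_spec, ← piF_spec, ← map_mul, ← MulEquiv.coe_toMonoidHom, orderOf_injective _ φ.injective]⟩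

theorem piA_inj : Function.Injective piA := fun φ ψ e => by
  have h : ∀ x, φ (rJ x) = ψ (rJ x) := fun x => by
    rw [piF_spec, piF_spec]
    exact congrArg rJ (congrArg (fun p : {π : Equiv.Perm (Fin 315) // Keeps π} => p.1 x) e)
  exact MulEquiv.toMonoidHom_injective
    (MonoidHom.eq_of_eqOn_dense rJ_closure (by rintro _ ⟨x, rfl⟩; exact h x))

theorem keeps_determined {π ρ : Equiv.Perm (Fin 315)} (hπ : Keeps π) (hρ : Keeps ρ)
    (h : ∀ k, k < autBase.length → ∀ hk : autBase.getD k 0 < 315, π ⟨_, hk⟩ = ρ ⟨_, hk⟩) : π = ρ := by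
  refine Equiv.ext fun x => ?_
  obtain ⟨x', hx'⟩ := ρ.surjective (π x)
  have hd : ∀ (p : Fin 315) (k : ℕ), k < autBase.length → (p : ℕ) = autBase.getD k 0 → dd p x' = dd p x := fun p k hk e => by
    have hp : π p = ρ p := by
      have := h k hk (e ▸ p.isLt)
      rwa [show (⟨autBase.getD k 0, e ▸ p.isLt⟩ : Fin 315) = p from Fin.ext e.symm] at this
    rw [← hρ p x', hx', ← hp, hπ p x]
  have hc : codeOf (x' : ℕ) autBase = codeOf (x : ℕ) autBase := by
    have key : ∀ L : List ℕ, (∀ q ∈ L, dd q x' = dd q x) → codeOf (x' : ℕ) L = codeOf (x : ℕ) L := by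
      intro L
      induction L with
      | nil => exact fun _ => rfl
      | cons q L ih => intro h; rw [codeOf, codeOf, h q (by simp), ih fun r hr => h r (by simp [hr])]
    refine key _ fun q hq => ?_
    obtain ⟨k, hk, rfl⟩ := List.getElem_of_mem hq
    have hlt : autBase[k] < 315 := by
      have key : ∀ q ∈ autBase, q < 315 := by decide +kernel
      exact key _ (List.getElem_mem hk)
    exact hd ⟨_, hlt⟩ k hk (List.getD_eq_getElem _ _ hk).symm
  rw [nbeq.1 (allN_spec code_chk x' x'.isLt), nbeq.1 (allN_spec code_chk x x.isLt)] at hc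
  have hxx : x' = x := by
    by_contra hne
    have hlen := nbeq.1 (allN_spec code_inj_chk x x.isLt)
    have hl : autCode.length = 315 := by decide +kernel
    obtain ⟨a, ha⟩ := List.length_eq_one_iff.1 hlen
    have hm : ∀ y : Fin 315, autCode.getD y 0 = autCode.getD x 0 → autCode[(y : ℕ)]'(hl.symm ▸ y.isLt) = autCode.getD x 0 := fun y e => by
      rw [← e, List.getD_eq_getElem]
    have hcount : 2 ≤ (autCode.filter fun d => Nat.beq d (autCode.getD x 0)).length := by
      have hsub : ∀ (L : List ℕ) (i k : ℕ) (v : ℕ), i < k → (hk : k < L.length) → ∀ hi : i < L.length,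
          L[i] = v → L[k] = v → 2 ≤ (L.filter fun d => Nat.beq d v).length := by
        intro L
        induction L with
        | nil => intro i k v _ hk; simp at hk
        | cons q L ih =>
          intro i k v hik hk hi e1 e2
          obtain ⟨k, rfl⟩ : ∃ k', k = k' + 1 := ⟨k - 1, by omega⟩
          rw [List.getElem_cons_succ] at e2
          have hk' : k < L.length := by simpa using hk
          cases i with
          | zero =>
            rw [List.getElem_cons_zero] at e1
            have hv : v ∈ L.filter fun d => Nat.beq d v := List.mem_filter.2 ⟨e2 ▸ List.getElem_mem hk', Nat.beq_refl v⟩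
            have := List.length_pos_of_mem hv
            rw [List.filter_cons, if_pos (nbeq.2 e1)]
            simp only [List.length_cons]
            omega
          | succ i =>
            rw [List.getElem_cons_succ] at e1
            have := ih i k v (by omega) hk' (by simpa using hi) e1 e2
            by_cases hq : Nat.beq q v = true
            · rw [List.filter_cons, if_pos hq, List.length_cons]; omega
            · rw [List.filter_cons, if_neg hq]; omega
      rcases lt_or_gt_of_ne (fun e : (x' : ℕ) = x => hne (Fin.ext e)) with hlt | hgt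
      · exact hsub _ x' x _ hlt (hl.symm ▸ x.isLt) _ (hm x' hc) (hm x rfl)
      · exact hsub _ x x' _ hgt (hl.symm ▸ x'.isLt) _ (hm x rfl) (hm x' hc)
    omega
  rw [← hx', hxx]

theorem keeps_mul {π ρ : Equiv.Perm (Fin 315)} (hπ : Keeps π) (hρ : Keeps ρ) : Keeps (π * ρ) := fun x y => by
  rw [Equiv.Perm.mul_apply, Equiv.Perm.mul_apply, hπ, hρ]

theorem cands_complete {π : Equiv.Perm (Fin 315)} (hπ : Keeps π) (h1 : π p1 = p1)
    (h2 : π ⟨b2, b2_lt⟩ = ⟨b2, b2_lt⟩) : ∀ k, k + 2 ≤ autBase.length →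
    ((List.range (k + 2)).map fun i => ((π ⟨autBase.getD i 0 % 315, Nat.mod_lt _ (by norm_num)⟩ : Fin 315) : ℕ)) ∈ cands k := by
  have hlt : ∀ i, autBase.getD i 0 < 315 := fun i => by
    by_cases hi : i < autBase.length
    · have key : ∀ q ∈ autBase, q < 315 := by decide +kernel
      rw [List.getD_eq_getElem _ _ hi]; exact key _ (List.getElem_mem hi)
    · rw [List.getD_eq_default _ _ (not_lt.1 hi)]; norm_num
  intro k
  induction k with
  | zero =>
    intro _
    obtain ⟨e0, e1, -⟩ := base_head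
    simp only [cands, List.mem_singleton, List.range_succ, List.range_zero, List.map_append, List.map_cons, List.map_nil,
      List.nil_append, List.cons_append, List.cons.injEq, and_true]
    refine ⟨?_, ?_⟩
    · rw [show (⟨autBase.getD 0 0 % 315, Nat.mod_lt _ (by norm_num)⟩ : Fin 315) = p1 from
        Fin.ext ((Nat.mod_eq_of_lt (hlt 0)).trans e0), h1]
      rfl
    · rw [show (⟨autBase.getD 1 0 % 315, Nat.mod_lt _ (by norm_num)⟩ : Fin 315) = ⟨b2, b2_lt⟩ from
        Fin.ext ((Nat.mod_eq_of_lt (hlt 1)).trans e1), h2]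
  | succ k ih =>
    intro hk
    rw [cands, List.mem_flatMap]
    refine ⟨_, ih (by omega), List.mem_map.2 ⟨((π ⟨autBase.getD (k + 2) 0 % 315, Nat.mod_lt _ (by norm_num)⟩ : Fin 315) : ℕ),
      List.mem_filter.2 ⟨List.mem_range.2 (Fin.isLt _), ?_⟩, ?_⟩⟩
    · have key : ∀ n ≤ k + 2, allN n (fun i => Nat.beq (dEnt (ddT.getD (((List.range (k + 2)).map fun i =>
          ((π ⟨autBase.getD i 0 % 315, Nat.mod_lt _ (by norm_num)⟩ : Fin 315) : ℕ)).getD i 0) 0)
          ((π ⟨autBase.getD (k + 2) 0 % 315, Nat.mod_lt _ (by norm_num)⟩ : Fin 315) : ℕ))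
          (dd (autBase.getD i 0) (autBase.getD (k + 2) 0))) = true := by
        intro n
        induction n with
        | zero => exact fun _ => rfl
        | succ n ihn =>
          intro hn
          simp only [allN, Bool.and_eq_true]
          refine ⟨nbeq.2 ?_, ihn (by omega)⟩
          have hg : ((List.range (k + 2)).map fun i =>
              ((π ⟨autBase.getD i 0 % 315, Nat.mod_lt _ (by norm_num)⟩ : Fin 315) : ℕ)).getD n 0 =
              ((π ⟨autBase.getD n 0 % 315, Nat.mod_lt _ (by norm_num)⟩ : Fin 315) : ℕ) := by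
            rw [List.getD_eq_getElem _ _ (by rw [List.length_map, List.length_range]; omega), List.getElem_map,
              List.getElem_range]
          rw [hg]
          have := hπ ⟨autBase.getD n 0 % 315, Nat.mod_lt _ (by norm_num)⟩ ⟨autBase.getD (k + 2) 0 % 315, Nat.mod_lt _ (by norm_num)⟩
          simp only [Nat.mod_eq_of_lt (hlt _)] at this ⊢
          exact this
      exact key _ le_rfl
    · rw [List.range_succ (n := k + 2), List.map_append]
      rfl

theorem card_keeps : Nat.card {π : Equiv.Perm (Fin 315) // Keeps π} ≤ 1209600 := by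
  classical
  obtain ⟨e0, e1, elen⟩ := base_head
  let P := {π : Equiv.Perm (Fin 315) // Keeps π}
  let X := {x : Fin 315 // Nat.beq (dd b1 x) (dd b1 b2) = true}
  let Y := {L : List ℕ // L ∈ cands (autBase.length - 2)}
  have hback : ∀ i : Fin 315, ∃ q : Equiv.Perm (Fin 315), Keeps q ∧ q i = p1 := fun i =>
    ⟨psi (eJ (pos i))⁻¹, fun x y => dd_smul (eJ (pos i))⁻¹ x y,
      show (eJ (pos i))⁻¹ • i = p1 from inv_smul_eq_iff.2 (eJ_pos i).symm⟩
  choose back hback1 hback2 using hback
  have hsec : ∀ x : X, ∃ q : Equiv.Perm (Fin 315), Keeps q ∧ q p1 = p1 ∧ q x.1 = ⟨b2, b2_lt⟩ := by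
    have hsub : ∀ x : Fin 315, Nat.beq (dd b1 x) (dd b1 b2) = true → papp subT x = papp subT b2 := by
      have key : ∀ x : Fin 315, (!(Nat.beq (dd b1 x) (dd b1 b2)) || Nat.beq (papp subT x) (papp subT b2)) = true := by
        decide +kernel
      intro x hx
      have := key x
      rw [hx, Bool.not_true, Bool.false_or] at this
      exact nbeq.1 this
    rintro ⟨x, hx⟩
    obtain ⟨-, j, l, hr, -⟩ := conj_row x
    obtain ⟨-, j', l', hr', -⟩ := conj_row ⟨b2, b2_lt⟩
    refine ⟨psi ((fJ j' * mJ l')⁻¹ * (fJ j * mJ l)), fun a b => dd_smul ((fJ j' * mJ l')⁻¹ * (fJ j * mJ l)) a b, ?_, ?_⟩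
    · show ((fJ j' * mJ l')⁻¹ * (fJ j * mJ l)) • p1 = p1
      rw [mul_smul, fm_fix, inv_smul_eq_iff, fm_fix]
    · show ((fJ j' * mJ l')⁻¹ * (fJ j * mJ l)) • x = ⟨b2, b2_lt⟩
      rw [mul_smul, inv_smul_eq_iff]
      refine Fin.ext ?_
      rw [mul_smul, acts_fJ, acts_mJ, mul_smul, acts_fJ, acts_mJ, hr, hr', hsub x hx]
  choose sec hsec1 hsec2 hsec3 using hsec
  have hX : ∀ π : P, Nat.beq (dd b1 ((back (π.1 p1) * π.1) ⟨b2, b2_lt⟩ : Fin 315)) (dd b1 b2) = true := fun π => nbeq.2 (by
    have h := keeps_mul (hback1 (π.1 p1)) π.2 p1 ⟨b2, b2_lt⟩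
    rw [show (back (π.1 p1) * π.1) p1 = p1 from hback2 _] at h
    exact h)
  let x2 : P → X := fun π => ⟨(back (π.1 p1) * π.1) ⟨b2, b2_lt⟩, hX π⟩
  let σ : P → Equiv.Perm (Fin 315) := fun π => sec (x2 π) * (back (π.1 p1) * π.1)
  have hσ : ∀ π, Keeps (σ π) ∧ σ π p1 = p1 ∧ σ π ⟨b2, b2_lt⟩ = ⟨b2, b2_lt⟩ := fun π =>
    ⟨keeps_mul (hsec1 _) (keeps_mul (hback1 _) π.2), by
      show sec (x2 π) ((back (π.1 p1) * π.1) p1) = p1
      rw [show (back (π.1 p1) * π.1) p1 = p1 from hback2 _]; exact hsec2 _, hsec3 (x2 π)⟩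
  let f : P → Fin 315 × X × Y := fun π => (π.1 p1, x2 π,
    ⟨_, cands_complete (hσ π).1 (hσ π).2.1 (hσ π).2.2 (autBase.length - 2) (by rw [elen])⟩)
  have hf : Function.Injective f := by
    intro π ρ e
    simp only [f, Prod.mk.injEq] at e
    obtain ⟨h1, h2, h3'⟩ := e
    have h3 := congrArg Subtype.val h3'
    have hs : σ π = σ ρ := keeps_determined (hσ π).1 (hσ ρ).1 fun k hk hk' => by
      simp only [] at h3
      have := (List.map_inj_left.1 h3) k (List.mem_range.2 (by omega))
      refine Fin.ext ?_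
      simpa only [Nat.mod_eq_of_lt hk'] using this
    simp only [σ, h1, h2] at hs
    exact Subtype.ext (mul_left_cancel (mul_left_cancel hs))
  have hYfin : Finite Y := Finite.of_equiv _ (Equiv.subtypeEquivRight fun L => List.mem_toFinset (l := cands (autBase.length - 2)))
  haveI := hYfin
  refine (Nat.card_le_card_of_injective f hf).trans ?_
  rw [Nat.card_prod, Nat.card_prod, Nat.card_fin]
  have hx : Nat.card X ≤ 160 := by
    rw [← d3_count, ← List.toFinset_card_of_nodup (List.nodup_range.filter _), ← Nat.card_eq_finsetCard]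
    exact Nat.card_le_card_of_injective (fun x : X => ⟨(x.1 : ℕ), List.mem_toFinset.2 (List.mem_filter.2
      ⟨List.mem_range.2 x.1.isLt, x.2⟩)⟩) fun a b e => Subtype.ext (Fin.ext (congrArg Subtype.val e))
  have hy : Nat.card Y ≤ 24 := by
    have : Nat.card Y = (cands (autBase.length - 2)).toFinset.card := by
      rw [← Nat.card_eq_finsetCard]
      exact Nat.card_congr (Equiv.subtypeEquivRight fun L => List.mem_toFinset.symm)
    rw [this]
    refine (List.toFinset_card_le _).trans ?_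
    rw [elen]
    exact le_of_eq cands_card
  calc 315 * (Nat.card X * Nat.card Y) ≤ 315 * (160 * 24) := Nat.mul_le_mul le_rfl (Nat.mul_le_mul hx hy)
    _ = 1209600 := by norm_num

theorem centre_bot : Subgroup.center J2 = ⊥ := by
  refine (simple_J2.eq_bot_or_eq_top_of_normal _ inferInstance).resolve_right fun e => ?_
  obtain ⟨a, b, h⟩ := noncomm_J2
  exact h (Subgroup.mem_center_iff.1 (e ▸ Subgroup.mem_top b) a)

theorem card_Inn : Nat.card (Cfsg.Inn J2) = 604800 := by
  have hker : (MulAut.conj : J2 →* MulAut J2).ker = ⊥ := by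
    refine eq_bot_iff.2 fun g hg => ?_
    rw [← centre_bot, Subgroup.mem_center_iff]
    intro x
    have := congrArg (fun φ : MulAut J2 => φ x) (MonoidHom.mem_ker.1 hg)
    simp only [MulAut.conj_apply, MulAut.one_apply] at this
    exact (mul_inv_eq_iff_eq_mul.1 this).symm
  rw [← card_J2]
  exact Nat.card_congr (MonoidHom.ofInjective ((MonoidHom.ker_eq_bot_iff _).1 hker)).symm.toEquiv

/-- the recorded outer permutation -/
def sigP : Equiv.Perm (Fin 315) :=
  Equiv.ofBijective (fun x : Fin 315 => (⟨papp sigT x, by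
    have h := allN_spec sig_chk x x.isLt
    simp only [Bool.and_eq_true, nblt] at h
    exact h.1⟩ : Fin 315)) (Finite.injective_iff_bijective.1 fun x y e => by
    have key : ∀ a b : Fin 315, (b : ℕ) < a → papp sigT a ≠ papp sigT b := fun a b hab e' => by
      have h := allN_spec sig_chk a a.isLt
      simp only [Bool.and_eq_true] at h
      have := allN_spec h.2 b hab
      rw [e', Nat.beq_refl, Bool.not_true] at this
      exact Bool.noConfusion this
    rcases lt_trichotomy (x : ℕ) y with h | h | h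
    · exact absurd (congrArg Fin.val e).symm (key y x h)
    · exact Fin.ext h
    · exact absurd (congrArg Fin.val e) (key x y h))

theorem sigP_val (x : Fin 315) : (sigP x : ℕ) = papp sigT x := rfl

theorem sig_normalises (g : J2) : sigP * psi g * sigP⁻¹ ∈ psi.range := by
  have h : (⊤ : Subgroup J2) ≤ psi.range.comap ((MulAut.conj sigP).toMonoidHom.comp psi) := by
    rw [← closure_gJ, Subgroup.closure_le]
    rintro _ ⟨s, rfl⟩
    have hs := allN_spec sig_gen s s.isLt
    simp only [Bool.and_eq_true] at hs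
    obtain ⟨q, hq⟩ := acts_nf _ hs.1
    refine ⟨q, ?_⟩
    show psi q = sigP * psi (gJ s) * sigP⁻¹
    refine eq_mul_inv_iff_mul_eq.2 (Equiv.ext fun x => Fin.ext ?_)
    show ((q • sigP x : Fin 315) : ℕ) = (sigP (gJ s • x) : ℕ)
    rw [hq, sigP_val, sigP_val, acts_gJ]
    exact nbeq.1 (allN_spec hs.2 x x.isLt)
  exact h (Subgroup.mem_top g)

/-- the outer automorphism -/
def sigAut : MulAut J2 :=
  MulEquiv.ofBijective
    ((MonoidHom.ofInjective psi_injective).symm.toMonoidHom.comp
      (((MulAut.conj sigP).toMonoidHom.comp psi).codRestrict psi.range sig_normalises))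
    (Finite.injective_iff_bijective.1 ((MonoidHom.ofInjective psi_injective).symm.injective.comp fun a b e =>
      psi_injective ((MulAut.conj sigP).injective (congrArg Subtype.val e))))

theorem psi_sigAut (g : J2) : psi (sigAut g) = sigP * psi g * sigP⁻¹ :=
  congrArg Subtype.val ((MonoidHom.ofInjective psi_injective).apply_symm_apply
    ⟨sigP * psi g * sigP⁻¹, sig_normalises g⟩)

theorem sigAut_outer : sigAut ∉ Cfsg.Inn J2 := by
  rintro ⟨q, hq⟩
  set τ : Equiv.Perm (Fin 315) := (psi q)⁻¹ * sigP with hτ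
  have hc : ∀ g, τ * psi g = psi g * τ := fun g => by
    have h : psi (q * g * q⁻¹) = sigP * psi g * sigP⁻¹ := by
      rw [← psi_sigAut, ← hq]; rfl
    rw [map_mul, map_mul, map_inv] at h
    calc τ * psi g = (psi q)⁻¹ * (sigP * psi g * sigP⁻¹) * sigP := by rw [hτ]; group
      _ = (psi q)⁻¹ * (psi q * psi g * (psi q)⁻¹) * sigP := by rw [h]
      _ = psi g * τ := by rw [hτ]; group
  have hsm : ∀ (g : J2) (x : Fin 315), τ (g • x) = g • τ x := fun g x => congrArg (fun p : Equiv.Perm (Fin 315) => p x) (hc g)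
  have h1 : τ p1 = p1 := by
    by_contra hne
    have hfix : ∀ s : Fin 2, hP s (τ p1 : Fin 315) = (τ p1 : Fin 315) := fun s => by
      rw [← acts_hJ s, ← hsm]
      have hp : hJ s • p1 = p1 := Fin.ext (by
        rw [acts_hJ]
        exact (show ∀ s : Fin 2, hP s b1 = b1 by decide +kernel) s)
      rw [hp]
    have h := allN_spec stab_fixes_one (τ p1 : Fin 315) (Fin.isLt _)
    rw [show hP 0 (τ p1 : Fin 315) = _ from hfix 0, show hP 1 (τ p1 : Fin 315) = _ from hfix 1, Nat.beq_refl,
      Bool.not_true, Bool.or_false, Bool.or_false, nbeq] at h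
    exact hne (Fin.ext h)
  have hall : ∀ x, τ x = x := fun x => by rw [← eJ_pos x, hsm, h1]
  have hq' : psi q = sigP := inv_mul_eq_one.1 (Equiv.ext hall : τ = 1)
  obtain ⟨i, j, l, rfl⟩ := exists_xJ q
  have hi : (i : ℕ) = papp pos1T (papp sigT b1) := by
    have e : ((xJ i j l • p1 : Fin 315) : ℕ) = papp sigT b1 := congrArg Fin.val (congrArg (fun p : Equiv.Perm (Fin 315) => p p1) hq')
    rw [xJ, mul_smul, fm_fix, acts_eJ, show ((p1 : Fin 315) : ℕ) = b1 from rfl, eP_b1 i.isLt] at e
    rw [← e, (e_row i.isLt).2.2.2.1]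
  have h := allN_spec (allN_spec sig_outer j j.isLt) l l.isLt
  simp only [List.any_eq_true, Bool.not_eq_true'] at h
  obtain ⟨f, hf, e⟩ := h
  have hf' : f < 315 := nblt.1 (List.all_eq_true.1 base_lt f hf)
  have e2 : xP i j l f = papp sigT f := (acts_xJ i j l ⟨f, hf'⟩).symm.trans
    (congrArg Fin.val (congrArg (fun p : Equiv.Perm (Fin 315) => p ⟨f, hf'⟩) hq'))
  rw [← hi, e2, Nat.beq_refl] at e
  exact Bool.noConfusion e

/-- The outer automorphism group of the Hall–Janko group has order two. -/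
theorem card_Out : Nat.card (Cfsg.Out J2) = 2 := by
  haveI : Finite (MulAut J2) := Finite.of_injective piA piA_inj
  have hle : Nat.card (MulAut J2) ≤ 1209600 := (Nat.card_le_card_of_injective piA piA_inj).trans card_keeps
  have h := Subgroup.card_mul_index (Cfsg.Inn J2)
  rw [card_Inn] at h
  have hne : (Cfsg.Inn J2).index ≠ 1 := fun e => sigAut_outer (by rw [Subgroup.index_eq_one.1 e]; trivial)
  show Nat.card (MulAut J2 ⧸ Cfsg.Inn J2) = 2
  rw [← Subgroup.index_eq_card]
  have hpos : 0 < Nat.card (MulAut J2) := Nat.card_pos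
  rcases Nat.lt_or_ge (Cfsg.Inn J2).index 3 with hlt | hge
  · rcases Nat.eq_zero_or_pos (Cfsg.Inn J2).index with h0 | h0
    · rw [h0, mul_zero] at h; omega
    · omega
  · nlinarith

end Cfsg.Agent.J2Cert

end
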