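import Cfsg.Agent.Lib.Spor.J2.DataPerm
import Cfsg.Agent.Lib.Spor.J2.DataClose
import Cfsg.Agent.Lib.Spor.J2.DataGeo

/-! Functions on the permutation tables. -/

set_option autoImplicit false

noncomputable section

namespace Cfsg.Agent.J2Cert

/-- all numbers below a bound -/
def allN : Nat → (Nat → Bool) → Bool
  | 0, _ => true
  | n + 1, f => f n && allN n f

/-- transversal map -/
def eP (i x : Nat) : Nat := papp (eTab.find i) x
/-- second transversal map -/
def fP (j x : Nat) : Nat := papp (fTab.find j) x
/-- last level map -/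
def mP (l x : Nat) : Nat := papp (mTab.find l) x
/-- generator map -/
def gP (s x : Nat) : Nat := papp (gTab.find s) x
/-- stabiliser generator map -/
def hP (s x : Nat) : Nat := papp (hgTab.find s) x
/-- last generator map -/
def nP (s x : Nat) : Nat := papp (mgTab.find s) x

/-- word map -/
def wP (f : Nat → Nat → Nat) : List Nat → Nat → Nat
  | [], x => x
  | s :: w, x => f s (wP f w x)

/-- normal form map -/
def xP (i j l x : Nat) : Nat := eP i (fP j (mP l x))

/-- agreement on a list -/
def agree (L : List Nat) (σ τ : Nat → Nat) : Bool := L.all fun x => Nat.beq (σ x) (τ x)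

/-- the first base point -/
def b1 : Nat := baseL.getD 0 0
/-- the second base point -/
def b2 : Nat := baseL.getD 1 0
/-- the third base point -/
def b3 : Nat := baseL.getD 2 0

/-- row of the first transversal -/
def eRow (i : Nat) : Bool :=
  (bif Nat.beq i 0 then allN 315 fun x => Nat.beq (eP i x) x
   else Nat.blt (papp eparT i) i && Nat.blt (papp elabT i) 4 &&
     allN 315 fun x => Nat.beq (eP i x) (gP (papp elabT i) (eP (papp eparT i) x))) &&
  Nat.beq (eP i b1) (papp o1T i) && Nat.beq (papp pos1T (papp o1T i)) i &&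
  Nat.blt (papp pos1T i) 315 && Nat.beq (papp o1T (papp pos1T i)) i

/-- row of the second transversal -/
def fRow (j : Nat) : Bool :=
  (bif Nat.beq j 0 then allN 315 fun x => Nat.beq (fP j x) x
   else Nat.blt (papp fparT j) j && Nat.blt (papp flabT j) 2 &&
     allN 315 fun x => Nat.beq (fP j x) (hP (papp flabT j) (fP (papp fparT j) x))) &&
  Nat.beq (fP j b1) b1 && Nat.beq (fP j b2) (papp o2T j) &&
  allN j fun k => !(Nat.beq (papp o2T j) (papp o2T k))

/-- row of the last level -/
def mRow (l : Nat) : Bool :=
  (bif Nat.beq l 0 then allN 315 fun x => Nat.beq (mP l x) x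
   else Nat.blt (papp mparT l) l && Nat.blt (papp mlabT l) 2 &&
     allN 315 fun x => Nat.beq (mP l x) (nP (papp mlabT l) (mP (papp mparT l) x))) &&
  Nat.beq (mP l b1) b1 && Nat.beq (mP l b2) b2 && Nat.beq (mP l b3) (papp o3T l) &&
  allN l fun k => !(Nat.beq (papp o3T l) (papp o3T k))

/-- words of the stabiliser generators -/
def hgRow (s : Nat) : Bool :=
  ((hgW.getD s []).all fun t => Nat.blt t 4) && allN 315 fun x => Nat.beq (hP s x) (wP gP (hgW.getD s []) x)

/-- words of the last generators -/
def mgRow (s : Nat) : Bool :=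
  ((mgW.getD s []).all fun t => Nat.blt t 2) && allN 315 fun x => Nat.beq (nP s x) (wP hP (mgW.getD s []) x)

/-- first closure -/
def close1 (s i : Nat) : Bool :=
  Nat.blt (papp (sk1a.getD s 0) i) 160 && Nat.blt (papp (sk1b.getD s 0) i) 12 &&
  agree frame (fun x => gP s (eP i x))
    (xP (papp pos1T (gP s (papp o1T i))) (papp (sk1a.getD s 0) i) (papp (sk1b.getD s 0) i))

/-- generators of the stabiliser levels -/
def hnP (s x : Nat) : Nat := bif Nat.blt s 2 then hP s x else nP (Nat.sub s 2) x

/-- second closure -/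
def close2 (s j : Nat) : Bool :=
  Nat.blt (papp (sk2a.getD s 0) j) 160 && Nat.blt (papp (sk2b.getD s 0) j) 12 &&
  agree frame (fun x => hnP s (fP j x)) (fun x => fP (papp (sk2a.getD s 0) j) (mP (papp (sk2b.getD s 0) j) x))

/-- last closure -/
def close3 (s l : Nat) : Bool :=
  Nat.blt (papp (sk3.getD s 0) l) 12 && agree frame (fun x => nP s (mP l x)) (mP (papp (sk3.getD s 0) l))

/-- the reflection in the first base line -/
def r0P (x : Nat) : Nat := papp r0T x

/-- index carrying the first base line to the first generating line -/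
def k0 : Nat := papp pos1T (genLine.getD 0 0)

/-- the possible orders -/
def ordList : List Nat := [1, 2, 3, 4, 5, 6, 7, 8, 10, 12, 15]

/-- index of the transversal element of a suborbit representative -/
def subI (o : Nat) : Nat := papp pos1T (subRep.getD o 0)

/-- recorded order -/
def ordOf (o j l : Nat) : Nat := Nat.mod (Nat.shiftRight (ordT.getD (Nat.add (Nat.mul 12 o) l) 0) (Nat.mul 4 j)) 16

/-- iteration -/
def itr (σ : Nat → Nat) : Nat → Nat → Nat
  | 0, x => x
  | n + 1, x => σ (itr σ n x)

/-- orders over one suborbit and one last level element -/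
def ordRow (k : Nat) : Bool :=
  allN 160 fun j => Nat.blt (ordOf (k / 12) j (k % 12)) 11 &&
    baseL.all fun x => Nat.beq (itr (xP (subI (k / 12)) j (k % 12)) (ordList.getD (ordOf (k / 12) j (k % 12)) 0) x) x

/-- witness of an order -/
def witRow (n : Nat) : Bool :=
  let w := ordWit.getD n (0, 0, 0)
  Nat.blt w.1 6 && Nat.blt w.2.1 160 && Nat.blt w.2.2 12 && Nat.beq (ordOf w.1 w.2.1 w.2.2) n &&
    allN (ordList.getD n 0) fun d => Nat.beq d 0 || !(Nat.beq (ordList.getD n 0 % d) 0) ||
      baseL.any fun x => !(Nat.beq (itr (xP (subI w.1) w.2.1 w.2.2) d x) x)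

/-- conjugators to the suborbit representatives -/
def conjRow (x : Nat) : Bool :=
  Nat.blt (papp subT x) 6 && Nat.blt (papp kjT x) 160 && Nat.blt (papp klT x) 12 &&
    Nat.beq (fP (papp kjT x) (mP (papp klT x) x)) (subRep.getD (papp subT x) 0) &&
    (Nat.beq x b1 || !(Nat.beq (papp subT x) 0))

/-- a path of moves -/
def walk (o : Nat) : List (Nat × Nat) → Nat → Nat
  | [], y => y
  | p :: r, y => walk o r (xP (subI o) p.1 p.2 y)

/-- primitivity at one suborbit -/
def pathRow (k : Nat) : Bool :=
  allN 4 fun s => ((paths.getD k []).getD s []).all (fun p => Nat.blt p.1 160 && Nat.blt p.2 12) &&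
    Nat.beq (walk (k + 1) ((paths.getD k []).getD s []) b1) (gP s b1)

end Cfsg.Agent.J2Cert

end
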