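import Mathlib
import Cfsg.Prelude.Def_Classical
import Cfsg.Agent.Lib.Recog.PSU33Gens
import Cfsg.Agent.Lib.Spor.J2.Structure
import Cfsg.Agent.Lib.Spor.J2.CheckU3

/-! The subgroup `PSU(3, 3)` of index one hundred in the Hall–Janko group and its suborbits. -/

set_option autoImplicit false

noncomputable section

namespace Cfsg.Agent.J2Cert

open Cfsg Cfsg.Spor

theorem ugen_row {s : ℕ} (hs : s < 2) : (uGen.getD s (0, 0, 0)).1 < 315 ∧ (uGen.getD s (0, 0, 0)).2.1 < 160 ∧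
    (uGen.getD s (0, 0, 0)).2.2 < 12 ∧ ∀ y < 63, uA s (papp iotaT y) = papp iotaT (papp (uPerm.getD s 0) y) := by
  have h := allN_spec ugen_chk s hs
  simp only [Bool.and_eq_true, nblt] at h
  exact ⟨h.1.1.1, h.1.1.2, h.1.2, fun y hy => nbeq.1 (allN_spec h.2 y hy)⟩

/-- the generators of the subgroup -/
def uJ (s : Fin 2) : J2 :=
  xJ ⟨_, (ugen_row s.isLt).1⟩ ⟨_, (ugen_row s.isLt).2.1⟩ ⟨_, (ugen_row s.isLt).2.2.1⟩

theorem acts_uJ (s : Fin 2) : Acts (uJ s) (uA s) := acts_xJ _ _ _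

theorem iota_row (y : Fin 63) : papp iotaT y < 315 ∧ ∀ z : Fin 63, papp iotaT y = papp iotaT z → y = z := by
  have h : ∀ y : Fin 63, papp iotaT y < 315 ∧ ∀ z < (y : ℕ), papp iotaT y ≠ papp iotaT z := fun y => by
    have h := allN_spec iota_chk y y.isLt
    simp only [Bool.and_eq_true, nblt] at h
    exact ⟨h.1, fun z hz e => by
      have := allN_spec h.2 z hz
      rw [e, Nat.beq_refl, Bool.not_true] at this
      exact Bool.noConfusion this⟩
  refine ⟨(h y).1, fun z e => ?_⟩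
  rcases lt_trichotomy (y : ℕ) z with hlt | heq | hgt
  · exact absurd e.symm ((h z).2 y hlt)
  · exact Fin.ext heq
  · exact absurd e ((h y).2 z hgt)

/-- the sixty-three lines -/
def iota (y : Fin 63) : Fin 315 := ⟨_, (iota_row y).1⟩

theorem iota_inj : Function.Injective iota := fun _ _ e => (iota_row _).2 _ (congrArg Fin.val e)

/-- the subgroup -/
def HU : Subgroup J2 := Subgroup.closure (Set.range uJ)

theorem perm_spec : ∀ y : Fin 63, papp (uPerm.getD 0 0) y = (PSU33.mact PSU33.gA y : ℕ) ∧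
    papp (uPerm.getD 1 0) y = (PSU33.mact PSU33.gB y : ℕ) := by decide +kernel

theorem eq_one_of_fix {q : J2} (h : ∀ y, q • iota y = iota y) : q = 1 := by
  have hp : ∀ p ∈ b1 :: uPts, ∀ hp : p < 315, q • (⟨p, hp⟩ : Fin 315) = ⟨p, hp⟩ := fun p hp hlt => by
    have := List.all_eq_true.1 upts_chk p hp
    simp only [List.any_eq_true, List.mem_range, nbeq] at this
    obtain ⟨y, hy, e⟩ := this
    have h' := h ⟨y, hy⟩
    rwa [show iota ⟨y, hy⟩ = ⟨p, hlt⟩ from Fin.ext e] at h'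
  obtain ⟨i, j, l, rfl⟩ := exists_xJ q
  have h1 := hp b1 (by simp) b1_lt
  have hi : i = 0 := by
    refine Fin.ext (o1_inj i.isLt (show (0 : ℕ) < 315 by norm_num) ?_)
    rw [show (⟨b1, b1_lt⟩ : Fin 315) = p1 from rfl, xJ, mul_smul, fm_fix] at h1
    have h0 : eJ (0 : Fin 315) • p1 = p1 := by rw [eJ_zero, one_smul]
    rw [Fin.val_zero, ← eP_b1 i.isLt, ← eP_b1 (show (0 : ℕ) < 315 by norm_num)]
    exact (acts_eJ i p1).symm.trans ((congrArg Fin.val (h1.trans h0.symm)).trans (acts_eJ 0 p1))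
  subst hi
  have hc := allN_spec (allN_spec ufix_chk j j.isLt) l l.isLt
  simp only [Bool.or_eq_true, Bool.and_eq_true, nbeq, List.any_eq_true, Bool.not_eq_true'] at hc
  rcases hc with ⟨e1, e2⟩ | ⟨p, hpm, e⟩
  · rw [show j = 0 from Fin.ext e1, show l = 0 from Fin.ext e2, xJ, eJ_zero, fJ_zero, mJ_zero, one_mul, one_mul]
  · exfalso
    have hlt : p < 315 := by
      have key : ∀ p ∈ uPts, p < 315 := by decide +kernel
      exact key p hpm
    have h2 := congrArg Fin.val (hp p (List.mem_cons_of_mem _ hpm) hlt)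
    rw [xJ, eJ_zero, one_mul, mul_smul, acts_fJ, acts_mJ] at h2
    rw [show fP j (mP l p) = p from h2, Nat.beq_refl] at e
    exact Bool.noConfusion e

theorem HU_equiv : ∃ (F : Type) (_ : Field F) (_ : Fintype F), Fintype.card F = 9 ∧ Nonempty (HU ≃* PSU 3 F 3) ∧
    Nat.card HU = 6048 := by
  haveI : Fact (Nat.Prime 3) := ⟨Nat.prime_three⟩
  letI : Fintype (GaloisField 3 2) := Fintype.ofFinite _
  have hF : Fintype.card (GaloisField 3 2) = 9 := by
    rw [← Nat.card_eq_fintype_card, GaloisField.card 3 2 (by norm_num)]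
    norm_num
  haveI : Fact (Fintype.card (GaloisField 3 2) = 9) := ⟨hF⟩
  refine ⟨GaloisField 3 2, inferInstance, inferInstance, hF, ?_⟩
  obtain ⟨a, b, ha, hb, hab⟩ := PSU33.exists_coded_gens (F := GaloisField 3 2)
  let K := SU 3 (GaloisField 3 2) 3
  let u : Fin 2 → J2 × K := fun s => (uJ s, ![a, b] s)
  set Γ := Subgroup.closure (Set.range u) with hΓ
  have hint : ∀ p ∈ Γ, ∀ y, p.1 • iota y = iota (p.2 • y) := by
    intro p hp
    induction hp using Subgroup.closure_induction with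
    | mem x hx =>
      obtain ⟨s, rfl⟩ := hx
      intro y
      refine Fin.ext ?_
      rw [acts_uJ]
      show uA s (papp iotaT y) = papp iotaT ((![a, b] s) • y : Fin 63)
      rw [(ugen_row s.isLt).2.2.2 y y.isLt]
      fin_cases s
      · exact congrArg (papp iotaT) ((perm_spec y).1.trans (by rw [← ha]; rfl))
      · exact congrArg (papp iotaT) ((perm_spec y).2.trans (by rw [← hb]; rfl))
    | one => intro y; simp
    | mul x z _ _ hx hz => intro y; rw [Prod.fst_mul, Prod.snd_mul, mul_smul, mul_smul, hz, hx]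
    | inv x _ hx =>
      intro y
      rw [Prod.fst_inv, Prod.snd_inv, inv_smul_eq_iff, hx, smul_inv_smul]
  let f1 : Γ →* J2 := (MonoidHom.fst _ _).comp Γ.subtype
  let f2 : Γ →* K := (MonoidHom.snd _ _).comp Γ.subtype
  have i1 : Function.Injective f1 := (injective_iff_map_eq_one f1).2 fun p hp => by
    have h2 : (p : J2 × K).2 = 1 := PSU33.fix_all fun y => iota_inj (by
      rw [← hint p.1 p.2, show (p : J2 × K).1 = 1 from hp, one_smul])
    exact Subtype.ext (Prod.ext hp h2)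
  have i2 : Function.Injective f2 := (injective_iff_map_eq_one f2).2 fun p hp => by
    have h1 : (p : J2 × K).1 = 1 := eq_one_of_fix fun y => by
      rw [hint p.1 p.2, show (p : J2 × K).2 = 1 from hp, one_smul]
    exact Subtype.ext (Prod.ext h1 hp)
  have r1 : f1.range = HU := by
    rw [MonoidHom.range_comp, Subgroup.range_subtype, hΓ, MonoidHom.map_closure, ← Set.range_comp, HU]
    rfl
  have r2 : Function.Surjective f2 := by
    rw [← MonoidHom.range_eq_top, MonoidHom.range_comp, Subgroup.range_subtype, hΓ, MonoidHom.map_closure, ← top_le_iff, ← hab]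
    refine Subgroup.closure_mono ?_
    rintro x (rfl | rfl)
    · exact ⟨u 0, ⟨0, rfl⟩, rfl⟩
    · exact ⟨u 1, ⟨1, rfl⟩, rfl⟩
  have e : HU ≃* K := (MulEquiv.subgroupCongr r1).symm.trans
    ((MonoidHom.ofInjective i1).symm.trans (MulEquiv.ofBijective f2 ⟨i2, r2⟩))
  have hz : Subgroup.center K = ⊥ := Cfsg.Agent.SpectrumPSU3Three.center_eq_bot hF
  refine ⟨⟨e.trans ((QuotientGroup.quotientMulEquivOfEq hz).trans QuotientGroup.quotientBot).symm⟩, ?_⟩
  rw [Nat.card_congr e.toEquiv, PSU33.card_SU33]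

theorem card_HU : Nat.card HU = 6048 := by
  obtain ⟨_, _, _, -, -, h⟩ := HU_equiv
  exact h

theorem index_HU : HU.index = 100 := by
  have h := Subgroup.card_mul_index HU
  rw [card_HU, card_J2] at h
  omega

/-- the image of the set of lines -/
def imgSet (q : J2) : Set ℕ := {x | ∃ y : Fin 63, ((q • iota y : Fin 315) : ℕ) = x}

theorem imgSet_mul {q h : J2} (hh : h ∈ HU) : imgSet (q * h) = imgSet q := by
  have hstab : ∀ h ∈ HU, ∀ y, ∃ z, h • iota y = iota z := by
    intro h hh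
    induction hh using Subgroup.closure_induction_left with
    | one => exact fun y => ⟨y, one_smul _ _⟩
    | mul_left x hx w _ ih =>
      intro y
      obtain ⟨s, rfl⟩ := hx
      obtain ⟨z, hz⟩ := ih y
      refine ⟨⟨_, show papp (uPerm.getD s 0) z < 63 from ?_⟩, Fin.ext ?_⟩
      · fin_cases s
        · exact ((perm_spec z).1).symm ▸ Fin.isLt _
        · exact ((perm_spec z).2).symm ▸ Fin.isLt _
      · rw [mul_smul, hz, acts_uJ]; exact (ugen_row s.isLt).2.2.2 z z.isLt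
    | inv_mul_cancel x hx w _ ih =>
      intro y
      obtain ⟨s, rfl⟩ := hx
      obtain ⟨z, hz⟩ := ih y
      have hg : ∀ t : Fin 63, ∃ t' : Fin 63, uJ s • iota t = iota t' := fun t =>
        ⟨⟨papp (uPerm.getD s 0) t, by
          fin_cases s
          · exact ((perm_spec t).1).symm ▸ Fin.isLt _
          · exact ((perm_spec t).2).symm ▸ Fin.isLt _⟩,
          Fin.ext (by rw [acts_uJ]; exact (ugen_row s.isLt).2.2.2 t t.isLt)⟩
      choose σ hσ using hg
      have hinj : Function.Injective σ := fun p r e =>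
        iota_inj (MulAction.injective (uJ s) (show uJ s • iota p = uJ s • iota r by rw [hσ, hσ, e]))
      obtain ⟨t, ht⟩ := (Finite.injective_iff_surjective.1 hinj) z
      exact ⟨t, by rw [mul_smul, hz, inv_smul_eq_iff, hσ, ht]⟩
  ext x
  constructor
  · rintro ⟨y, rfl⟩
    obtain ⟨z, hz⟩ := hstab h hh y
    exact ⟨z, by rw [mul_smul, hz]⟩
  · rintro ⟨y, rfl⟩
    obtain ⟨z, hz⟩ := hstab h⁻¹ (inv_mem hh) y
    exact ⟨z, by rw [← hz, mul_smul, smul_inv_smul]⟩

theorem testBit_maskOf (f : ℕ → ℕ) : ∀ (n x : ℕ), (maskOf f n).testBit x = true ↔ ∃ y < n, f y = x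
  | 0, x => by simp [maskOf]
  | n + 1, x => by
    rw [maskOf, show Nat.lor (Nat.shiftLeft 1 (f n)) (maskOf f n) = (1 <<< f n) ||| maskOf f n from rfl, Nat.testBit_lor,
      Bool.or_eq_true, testBit_maskOf f n x, Nat.one_shiftLeft, Nat.testBit_two_pow]
    constructor
    · rintro (h | ⟨y, hy, e⟩)
      · exact ⟨n, n.lt_succ_self, by simpa using h⟩
      · exact ⟨y, Nat.lt_succ_of_lt hy, e⟩
    · rintro ⟨y, hy, e⟩
      rcases Nat.lt_succ_iff_lt_or_eq.1 hy with h | rfl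
      · exact Or.inr ⟨y, h, e⟩
      · exact Or.inl (by simpa using e)

theorem imgSet_eq {q : J2} {σ : ℕ → ℕ} (hq : Acts q σ) :
    imgSet q = {x | (maskOf (fun y => σ (papp iotaT y)) 63).testBit x = true} := by
  ext x
  rw [Set.mem_setOf_eq, testBit_maskOf]
  constructor
  · rintro ⟨y, rfl⟩; exact ⟨y, y.isLt, (hq (iota y)).symm⟩
  · rintro ⟨y, hy, rfl⟩; exact ⟨⟨y, hy⟩, hq (iota ⟨y, hy⟩)⟩

theorem urep_row {k : ℕ} (hk : k < 100) : (uRep.getD k (0, 0, 0)).1 < 315 ∧ (uRep.getD k (0, 0, 0)).2.1 < 160 ∧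
    (uRep.getD k (0, 0, 0)).2.2 < 12 ∧ maskOf (fun y => uR k (papp iotaT y)) 63 = uMask.getD k 0 ∧
    ∀ m < k, uMask.getD k 0 ≠ uMask.getD m 0 := by
  have h := allN_spec urep_chk k hk
  simp only [Bool.and_eq_true, nblt, nbeq] at h
  exact ⟨h.1.1.1.1, h.1.1.1.2, h.1.1.2, h.1.2, fun m hm e => by
    have := allN_spec h.2 m hm
    rw [e, Nat.beq_refl, Bool.not_true] at this
    exact Bool.noConfusion this⟩

/-- coset representatives -/
def repJ (k : Fin 100) : J2 := xJ ⟨_, (urep_row k.isLt).1⟩ ⟨_, (urep_row k.isLt).2.1⟩ ⟨_, (urep_row k.isLt).2.2.1⟩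

theorem imgSet_repJ (k : Fin 100) : imgSet (repJ k) = {x | (uMask.getD k 0).testBit x = true} := by
  rw [repJ, imgSet_eq (acts_xJ _ _ _), ← (urep_row k.isLt).2.2.2.1]
  rfl

theorem mask_inj {k m : Fin 100} (h : imgSet (repJ k) = imgSet (repJ m)) : k = m := by
  rw [imgSet_repJ, imgSet_repJ] at h
  have e : uMask.getD k 0 = uMask.getD m 0 := Nat.eq_of_testBit_eq fun i => by
    have := Set.ext_iff.1 h i
    simp only [Set.mem_setOf_eq] at this
    exact Bool.eq_iff_iff.2 this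
  rcases lt_trichotomy (k : ℕ) m with hlt | heq | hgt
  · exact absurd e.symm ((urep_row m.isLt).2.2.2.2 k hlt)
  · exact Fin.ext heq
  · exact absurd e ((urep_row k.isLt).2.2.2.2 m hgt)

theorem imgSet_of_mk {q r : J2} (h : (q : J2 ⧸ HU) = r) : imgSet q = imgSet r := by
  have := imgSet_mul (q := q) (QuotientGroup.eq.1 h)
  rwa [mul_inv_cancel_left, eq_comm] at this

theorem coset_bij : Function.Bijective fun k => (repJ k : J2 ⧸ HU) := by
  refine (Nat.bijective_iff_injective_and_card _).2 ⟨fun k m h => mask_inj (imgSet_of_mk h), ?_⟩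
  rw [Nat.card_fin, ← Subgroup.index_eq_card, index_HU]

theorem move_spec (s : Fin 2) (k : Fin 100) : ∃ k' : Fin 100, uJ s • (repJ k : J2 ⧸ HU) = (repJ k' : J2 ⧸ HU) ∧
    (k' : ℕ) = papp (uMove.getD s 0) k ∧ (0 < (k : ℕ) → (k : ℕ) < 37 → 0 < (k' : ℕ) ∧ (k' : ℕ) < 37) ∧
    (36 < (k : ℕ) → 36 < (k' : ℕ)) := by
  have h := allN_spec (allN_spec umove_chk s s.isLt) k k.isLt
  simp only [Bool.and_eq_true, Bool.or_eq_true, Bool.not_eq_true', nblt, nbeq, Bool.and_eq_false_iff] at h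
  obtain ⟨⟨⟨h1, h2⟩, h3⟩, h4⟩ := h
  have hb : ∀ a b : ℕ, Nat.blt a b = false → ¬ a < b := fun a b e hlt => by rw [nblt.2 hlt] at e; exact Bool.noConfusion e
  obtain ⟨m, hm⟩ := coset_bij.2 ((uJ s * repJ k : J2) : J2 ⧸ HU)
  have e := imgSet_of_mk hm
  rw [imgSet_eq (q := uJ s * repJ k) ((acts_uJ s).mul (acts_xJ _ _ _))] at e
  have e' : imgSet (repJ m) = imgSet (repJ ⟨_, h1⟩) := by
    rw [e, imgSet_repJ, ← h2]
    rfl
  refine ⟨⟨_, h1⟩, ?_, rfl, fun a b => ?_, fun a => ?_⟩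
  · rw [← mask_inj e']; exact hm.symm
  · rcases h3 with (h | h) | h
    · exact absurd a (hb _ _ h)
    · exact absurd b (hb _ _ h)
    · exact h
  · rcases h4 with h | h
    · exact absurd a (hb _ _ h)
    · exact h

theorem connected : ∀ k : ℕ, ∀ hk : k < 100, (0 < k → k < 37 → ∃ h ∈ HU, h • (repJ 1 : J2 ⧸ HU) = repJ ⟨k, hk⟩) ∧
    (36 < k → ∃ h ∈ HU, h • (repJ 37 : J2 ⧸ HU) = repJ ⟨k, hk⟩) := by
  intro k
  induction k using Nat.strong_induction_on with
  | h k ih =>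
    intro hk
    have h := allN_spec uconn_chk k hk
    simp only [Bool.or_eq_true, nbeq, List.any_eq_true, List.mem_range] at h
    rcases h with ((h0 | h1) | h2) | ⟨p, hp, h⟩
    · exact ⟨fun a => by omega, fun a => by omega⟩
    · subst h1
      exact ⟨fun _ _ => ⟨1, one_mem _, one_smul _ _⟩, fun a => by omega⟩
    · subst h2
      exact ⟨fun _ a => by omega, fun _ => ⟨1, one_mem _, one_smul _ _⟩⟩
    · obtain ⟨s, hs⟩ : ∃ s : Fin 2, papp (uMove.getD s 0) p = k := h.elim (fun e => ⟨0, e⟩) fun e => ⟨1, e⟩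
      obtain ⟨k', hk', hv, b1', b2'⟩ := move_spec s ⟨p, hp.trans hk⟩
      have hkk : k' = ⟨k, hk⟩ := Fin.ext (hv.trans hs)
      subst hkk
      obtain ⟨ih1, ih2⟩ := ih p hp (hp.trans hk)
      have huH : uJ s ∈ HU := Subgroup.subset_closure ⟨s, rfl⟩
      by_cases hp0 : p = 0
      · subst hp0
        exfalso
        have hz : papp (uMove.getD s 0) 0 = 0 := by
          fin_cases s <;> decide +kernel
        omega
      by_cases hp37 : p < 37
      · obtain ⟨-, hkb⟩ := b1' (Nat.pos_of_ne_zero hp0) hp37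
        refine ⟨fun _ _ => ?_, fun a => absurd hkb (show ¬ k < 37 by omega)⟩
        obtain ⟨h, hh, e⟩ := ih1 (Nat.pos_of_ne_zero hp0) hp37
        exact ⟨uJ s * h, mul_mem huH hh, by rw [mul_smul, e, hk']⟩
      · have hkb := b2' (show 36 < p by omega)
        refine ⟨fun _ a => absurd hkb (show ¬ 36 < k by omega), fun _ => ?_⟩
        obtain ⟨h, hh, e⟩ := ih2 (show 36 < p by omega)
        exact ⟨uJ s * h, mul_mem huH hh, by rw [mul_smul, e, hk']⟩

theorem orbit_eq (k0 : Fin 100) (P : ℕ → Prop) (h0 : P k0)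
    (hconn : ∀ k : Fin 100, P k → ∃ h ∈ HU, h • (repJ k0 : J2 ⧸ HU) = repJ k)
    (hmove : ∀ (s : Fin 2) (k : Fin 100), P k → ∃ k' : Fin 100, uJ s • (repJ k : J2 ⧸ HU) = repJ k' ∧ P k') :
    MulAction.orbit HU (repJ k0 : J2 ⧸ HU) = (fun k : Fin 100 => (repJ k : J2 ⧸ HU)) '' {k | P k} := by
  ext c
  constructor
  · rintro ⟨⟨h, hh⟩, rfl⟩
    have key : ∀ h ∈ HU, ∀ k : Fin 100, P k → ∃ k' : Fin 100, h • (repJ k : J2 ⧸ HU) = repJ k' ∧ P k' := by
      intro h hh
      have hset := stable_mem (T := Set.range uJ)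
        (S := {x : J2 | ∀ k : Fin 100, P k → ∃ k' : Fin 100, x • (repJ k : J2 ⧸ HU) = repJ k' ∧ P k'}) ?_ hh 1
        (fun k hk => ⟨k, one_smul _ _, hk⟩)
      · rw [mul_one] at hset
        exact hset
      rintro _ ⟨s, rfl⟩ x hx k hk
      obtain ⟨k', e, hk'⟩ := hx k hk
      obtain ⟨k'', e', hk''⟩ := hmove s k' hk'
      exact ⟨k'', by rw [mul_smul, e, e'], hk''⟩
    obtain ⟨k', e, hk'⟩ := key h hh k0 h0
    exact ⟨k', hk', e.symm⟩
  · rintro ⟨k, hk, rfl⟩
    obtain ⟨h, hh, e⟩ := hconn k hk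
    exact ⟨⟨h, hh⟩, e⟩

/-- The subgroup of index one hundred and its suborbits. -/
theorem rank_three : ∃ H : Subgroup J2, H.index = 100 ∧
    (∃ (F : Type) (_ : Field F) (_ : Fintype F), Fintype.card F = 9 ∧ Nonempty (↥H ≃* PSU 3 F 3)) ∧
    ∃ c₁ c₂ : J2 ⧸ H, (MulAction.orbit ↥H c₁).ncard = 36 ∧ (MulAction.orbit ↥H c₂).ncard = 63 := by
  obtain ⟨F, i1, i2, hF, he, -⟩ := HU_equiv
  refine ⟨HU, index_HU, ⟨F, i1, i2, hF, he⟩, repJ 1, repJ 37, ?_, ?_⟩
  · rw [orbit_eq 1 (fun k => 0 < k ∧ k < 37) ⟨by norm_num, by norm_num⟩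
      (fun k hk => ((connected k k.isLt).1 hk.1 hk.2)) (fun s k hk => by
        obtain ⟨k', e, -, h, -⟩ := move_spec s k
        exact ⟨k', e, h hk.1 hk.2⟩), Set.ncard_image_of_injective _ coset_bij.1,
      show {k : Fin 100 | 0 < (k : ℕ) ∧ (k : ℕ) < 37} = ↑(Finset.univ.filter fun k : Fin 100 => 0 < (k : ℕ) ∧ (k : ℕ) < 37) by
        ext; simp, Set.ncard_coe_finset]
    decide +kernel
  · rw [orbit_eq 37 (fun k => 36 < k) (by norm_num)
      (fun k hk => ((connected k k.isLt).2 hk)) (fun s k hk => by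
        obtain ⟨k', e, -, -, h⟩ := move_spec s k
        exact ⟨k', e, h hk⟩), Set.ncard_image_of_injective _ coset_bij.1,
      show {k : Fin 100 | 36 < (k : ℕ)} = ↑(Finset.univ.filter fun k : Fin 100 => 36 < (k : ℕ)) by
        ext; simp, Set.ncard_coe_finset]
    decide +kernel

end Cfsg.Agent.J2Cert

end
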